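import Mathlib
import Cfsg.Prelude.Def_Blocks
import Cfsg.Agent.Lib.Helper80.CharOps

/-!
# Codegrees, trivial character, characters of degree prime to `p`
-/

set_option autoImplicit false

namespace Cfsg.Agent.Lib.Helper80

open scoped ComplexConjugate

section Triv

variable {G : Type*} [Group G]

/-- The trivial character, as an irreducible character. -/
noncomputable def trivIrr (G : Type*) [Group G] : Cfsg.IrrCharacter G :=
  ⟨fun _ => (1 : ℂ), isIrrCharacter_one⟩

theorem trivIrr_apply (g : G) : ((trivIrr G : Cfsg.IrrCharacter G) : G → ℂ) g = 1 := rfl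

theorem charDegree_trivIrr : Cfsg.charDegree ((trivIrr G : Cfsg.IrrCharacter G) : G → ℂ) = 1 := by
  unfold Cfsg.charDegree
  simp [trivIrr]

variable [Finite G]

/-- An irreducible character whose kernel is everything is the trivial character. -/
theorem eq_one_of_forall_eq {χ : G → ℂ} (hχ : Cfsg.IsIrrCharacter G χ)
    (h : ∀ g, χ g = χ 1) : χ = fun _ => (1 : ℂ) := by
  classical
  have := Fintype.ofFinite G
  by_contra hne
  have h1 := classInner_irr_fun hχ (isIrrCharacter_one (G := G))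
  rw [if_neg hne] at h1
  unfold Cfsg.classInner at h1
  have hG : (Nat.card G : ℂ) ≠ 0 := by
    exact_mod_cast (Nat.card_pos (α := G)).ne'
  have h2 : ∑ g : G, χ g * conj (1 : ℂ) = (Nat.card G : ℂ) * χ 1 := by
    simp_rw [h]
    rw [Finset.sum_const, Finset.card_univ, nsmul_eq_mul, ← Nat.card_eq_fintype_card]
    simp
  rw [h2, ← mul_assoc, inv_mul_cancel₀ hG, one_mul] at h1
  exact char_one_ne_zero hχ h1

/-- The codegree expressed through the index of the kernel. -/
theorem codegree_eq {χ : G → ℂ} (K : Subgroup G) (hK : ∀ g, g ∈ K ↔ χ g = χ 1) :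
    Nat.card G / (Nat.card {g : G // χ g = χ 1} * Cfsg.charDegree χ)
      = K.index / Cfsg.charDegree χ := by
  have hcard : Nat.card {g : G // χ g = χ 1} = Nat.card K :=
    Nat.card_congr (Equiv.subtypeEquivRight (fun g => (hK g).symm))
  rw [hcard, ← Subgroup.card_mul_index K]
  exact Nat.mul_div_mul_left _ _ Nat.card_pos

/-- The codegree divides the group order. -/
theorem codegree_dvd_card {χ : G → ℂ} (hχ : Cfsg.IsIrrCharacter G χ) :
    Nat.card G / (Nat.card {g : G // χ g = χ 1} * Cfsg.charDegree χ) ∣ Nat.card G :=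
  Nat.div_dvd_of_dvd (card_ker_mul_charDegree_dvd hχ)

/-- If `p` divides the group order there is a nontrivial irreducible character of degree prime
to `p`. -/
theorem exists_irr_ne_one_not_dvd {p : ℕ} (hp : p.Prime) (hdvd : p ∣ Nat.card G) :
    ∃ χ : Cfsg.IrrCharacter G, (χ : G → ℂ) ≠ (fun _ => (1 : ℂ)) ∧
      ¬ p ∣ Cfsg.charDegree (χ : G → ℂ) := by
  classical
  have := Fintype.ofFinite G
  have := Fintype.ofFinite (Cfsg.IrrCharacter G)
  by_contra hcon
  push Not at hcon
  have hsum := sum_charDegree_sq (G := G)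
  rw [← Finset.add_sum_erase _ _ (Finset.mem_univ (trivIrr G)), charDegree_trivIrr] at hsum
  have h1 : p ∣ ∑ χ ∈ Finset.univ.erase (trivIrr G), Cfsg.charDegree (χ : G → ℂ) ^ 2 := by
    apply Finset.dvd_sum
    intro χ hχ
    have hne : (χ : G → ℂ) ≠ fun _ => (1 : ℂ) := by
      intro h
      exact (Finset.mem_erase.mp hχ).1 (Subtype.ext h)
    exact Dvd.dvd.pow (hcon χ hne) (by norm_num)
  have h2 : p ∣ 1 ^ 2 := by
    have h3 : p ∣ 1 ^ 2 + ∑ χ ∈ Finset.univ.erase (trivIrr G), Cfsg.charDegree (χ : G → ℂ) ^ 2 := by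
      rw [hsum]; exact hdvd
    exact (Nat.dvd_add_left h1).mp h3
  rw [one_pow] at h2
  exact hp.one_lt.ne' (Nat.dvd_one.mp h2)

end Triv

end Cfsg.Agent.Lib.Helper80

namespace Cfsg.Agent.Lib.Helper80

open scoped ComplexConjugate

section Faithful

variable {G : Type*} [Group G] [Finite G]

/-- A normal subgroup of index prime to `p` contains every Sylow `p`-subgroup. -/
theorem sylow_le_of_normal_of_not_dvd_index {p : ℕ} [Fact p.Prime] (P : Sylow p G)
    (K : Subgroup G) [K.Normal] (hK : ¬ p ∣ K.index) : (P : Subgroup G) ≤ K := by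
  have hp : p.Prime := Fact.out
  intro x hx
  rw [← QuotientGroup.eq_one_iff]
  obtain ⟨k, hk⟩ := (IsPGroup.iff_orderOf.mp P.2) ⟨x, hx⟩
  have hk' : orderOf x = p ^ k := by
    rw [← hk]
    exact Subgroup.orderOf_coe (⟨x, hx⟩ : (P : Subgroup G))
  have h1 : orderOf (x : G ⧸ K) ∣ p ^ k := by
    rw [← hk']
    exact orderOf_map_dvd (QuotientGroup.mk' K) x
  have h2 : orderOf (x : G ⧸ K) ∣ K.index := by
    have : Nat.card (G ⧸ K) = K.index := rfl
    rw [← this]
    exact orderOf_dvd_natCard _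
  have hcop : Nat.Coprime (p ^ k) K.index :=
    Nat.Coprime.pow_left k ((Nat.Prime.coprime_iff_not_dvd hp).mpr hK)
  have h3 : orderOf (x : G ⧸ K) = 1 := Nat.eq_one_of_dvd_coprimes hcop h1 h2
  exact orderOf_eq_one_iff.mp h3

/-- Sum of the squares of the degrees of the irreducible characters with `M` in the kernel. -/
theorem sum_charDegree_sq_filter_ker [Fintype (Cfsg.IrrCharacter G)] (M : Subgroup G)
    [M.Normal] [DecidablePred fun χ : Cfsg.IrrCharacter G =>
      ∀ x ∈ M, (χ : G → ℂ) x = (χ : G → ℂ) 1] :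
    ∑ χ ∈ Finset.univ.filter (fun χ : Cfsg.IrrCharacter G =>
      ∀ x ∈ M, (χ : G → ℂ) x = (χ : G → ℂ) 1), Cfsg.charDegree (χ : G → ℂ) ^ 2 = M.index := by
  classical
  have := Fintype.ofFinite (G ⧸ M)
  have := Fintype.ofFinite (Cfsg.IrrCharacter (G ⧸ M))
  have h1 := sum_charDegree_sq (G := G ⧸ M)
  have h2 : Nat.card (G ⧸ M) = M.index := rfl
  rw [h2] at h1
  rw [← h1]
  rw [Finset.sum_subtype (Finset.univ.filter (fun χ : Cfsg.IrrCharacter G =>
      ∀ x ∈ M, (χ : G → ℂ) x = (χ : G → ℂ) 1)) (p := fun χ : Cfsg.IrrCharacter G =>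
      ∀ x ∈ M, (χ : G → ℂ) x = (χ : G → ℂ) 1) (by simp)]
  symm
  apply Fintype.sum_equiv (irrQuotientEquiv M)
  intro ψ
  unfold Cfsg.charDegree
  rfl

/-- If `p` divides the order of `G` and every nontrivial normal subgroup has index prime to
`p`, then `G` has a faithful irreducible character of degree prime to `p`. -/
theorem exists_faithful_irr_not_dvd {p : ℕ} [Fact p.Prime] (hdvd : p ∣ Nat.card G)
    (hmin : ∀ K : Subgroup G, K.Normal → K ≠ ⊥ → ¬ p ∣ K.index) :
    ∃ χ : Cfsg.IrrCharacter G, (∀ g : G, (χ : G → ℂ) g = (χ : G → ℂ) 1 → g = 1) ∧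
      ¬ p ∣ Cfsg.charDegree (χ : G → ℂ) := by
  classical
  have hp : p.Prime := Fact.out
  have := Fintype.ofFinite G
  have := Fintype.ofFinite (Cfsg.IrrCharacter G)
  obtain ⟨P⟩ : Nonempty (Sylow p G) := inferInstance
  let M : Subgroup G := sInf {K : Subgroup G | K.Normal ∧ K ≠ ⊥}
  have hMn : M.Normal := by
    refine ⟨fun m hm g => ?_⟩
    rw [Subgroup.mem_sInf] at hm ⊢
    intro K hK
    exact hK.1.conj_mem m (hm K hK) g
  have hPM : (P : Subgroup G) ≤ M := by
    apply le_sInf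
    intro K hK
    have := hK.1
    exact sylow_le_of_normal_of_not_dvd_index P K (hmin K hK.1 hK.2)
  have hMidx : ¬ p ∣ M.index := fun h =>
    P.not_dvd_index (h.trans (Subgroup.index_dvd_of_le hPM))
  have hMbot : M ≠ ⊥ := by
    intro h
    rw [h, Subgroup.index_bot] at hMidx
    exact hMidx hdvd
  by_contra hcon
  push Not at hcon
  have hsum := sum_charDegree_sq (G := G)
  rw [← Finset.sum_filter_add_sum_filter_not Finset.univ (fun χ : Cfsg.IrrCharacter G =>
      ∀ x ∈ M, (χ : G → ℂ) x = (χ : G → ℂ) 1), sum_charDegree_sq_filter_ker M] at hsum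
  have h1 : p ∣ ∑ χ ∈ Finset.univ.filter (fun χ : Cfsg.IrrCharacter G =>
      ¬ ∀ x ∈ M, (χ : G → ℂ) x = (χ : G → ℂ) 1), Cfsg.charDegree (χ : G → ℂ) ^ 2 := by
    apply Finset.dvd_sum
    intro χ hχ
    have hχM := (Finset.mem_filter.mp hχ).2
    have hfaith : ∀ g : G, (χ : G → ℂ) g = (χ : G → ℂ) 1 → g = 1 := by
      obtain ⟨K, hKn, hKmem⟩ := exists_ker_subgroup (isCharacter_of_isIrrCharacter χ.2)
      have hKbot : K = ⊥ := by
        by_contra hK
        apply hχM
        intro x hx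
        have : M ≤ K := sInf_le ⟨hKn, hK⟩
        exact (hKmem x).mp (this hx)
      intro g hg
      have : g ∈ K := (hKmem g).mpr hg
      rw [hKbot] at this
      exact Subgroup.mem_bot.mp this
    exact Dvd.dvd.pow (hcon χ hfaith) (by norm_num)
  have h2 : p ∣ M.index := by
    have h3 : p ∣ M.index + ∑ χ ∈ Finset.univ.filter (fun χ : Cfsg.IrrCharacter G =>
      ¬ ∀ x ∈ M, (χ : G → ℂ) x = (χ : G → ℂ) 1), Cfsg.charDegree (χ : G → ℂ) ^ 2 := by
      rw [hsum]; exact hdvd
    exact (Nat.dvd_add_left h1).mp h3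
  exact hMidx h2

end Faithful

end Cfsg.Agent.Lib.Helper80

namespace Cfsg.Agent.Lib.Helper80

open scoped ComplexConjugate

section QuotSums

variable {G : Type*} [Group G] [Finite G]

/-- The size of a conjugacy class is the index of the centralizer. -/
theorem card_isConj_eq_index (g : G) :
    Nat.card {h : G // IsConj g h} = (Subgroup.centralizer ({g} : Set G)).index := by
  classical
  have := Fintype.ofFinite G
  rw [← card_conjFinset, Nat.card_eq_fintype_card, Fintype.card_subtype]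
  congr 1

/-- Sums over the irreducible characters with `N` in the kernel are sums over the irreducible
characters of the quotient. -/
theorem sum_filter_ker_eq {β : Type*} [AddCommMonoid β] [Fintype (Cfsg.IrrCharacter G)]
    (N : Subgroup G) [N.Normal] [Fintype (Cfsg.IrrCharacter (G ⧸ N))]
    [DecidablePred fun χ : Cfsg.IrrCharacter G => ∀ x ∈ N, (χ : G → ℂ) x = (χ : G → ℂ) 1]
    (f : Cfsg.IrrCharacter G → β) :
    ∑ χ ∈ Finset.univ.filter (fun χ : Cfsg.IrrCharacter G =>
      ∀ x ∈ N, (χ : G → ℂ) x = (χ : G → ℂ) 1), f χ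
      = ∑ ψ : Cfsg.IrrCharacter (G ⧸ N), f (irrQuotientEquiv N ψ : Cfsg.IrrCharacter G) := by
  classical
  rw [Finset.sum_subtype (Finset.univ.filter (fun χ : Cfsg.IrrCharacter G =>
      ∀ x ∈ N, (χ : G → ℂ) x = (χ : G → ℂ) 1)) (p := fun χ : Cfsg.IrrCharacter G =>
      ∀ x ∈ N, (χ : G → ℂ) x = (χ : G → ℂ) 1) (by simp)]
  symm
  exact Fintype.sum_equiv (irrQuotientEquiv N) _ _ (fun ψ => rfl)

/-- Second orthogonality restricted to the characters with `N` in the kernel. -/
theorem second_orthogonality_filter_ker [Fintype (Cfsg.IrrCharacter G)]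
    (N : Subgroup G) [N.Normal]
    [DecidablePred fun χ : Cfsg.IrrCharacter G => ∀ x ∈ N, (χ : G → ℂ) x = (χ : G → ℂ) 1]
    (g h : G) [Decidable (IsConj (g : G ⧸ N) (h : G ⧸ N))] :
    ∑ χ ∈ Finset.univ.filter (fun χ : Cfsg.IrrCharacter G =>
      ∀ x ∈ N, (χ : G → ℂ) x = (χ : G → ℂ) 1), (χ : G → ℂ) g * conj ((χ : G → ℂ) h)
      = if IsConj (g : G ⧸ N) (h : G ⧸ N)
          then (Nat.card (Subgroup.centralizer ({(g : G ⧸ N)} : Set (G ⧸ N))) : ℂ) else 0 := by
  have := Fintype.ofFinite (G ⧸ N)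
  have := Fintype.ofFinite (Cfsg.IrrCharacter (G ⧸ N))
  rw [sum_filter_ker_eq N]
  exact second_orthogonality (G := G ⧸ N) (g : G ⧸ N) (h : G ⧸ N)

end QuotSums

end Cfsg.Agent.Lib.Helper80
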