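import Mathlib
import Cfsg.Prelude.Def_Blocks
import Cfsg.Agent.Lib.Helper80.Codegree

/-!
# Irreducible characters vanishing on all but two conjugacy classes
-/

set_option autoImplicit false

namespace Cfsg.Agent.Lib.Helper80

open scoped ComplexConjugate

section Sep

variable {G : Type*} [Group G] [Finite G]

/-- The irreducible characters separate the identity. -/
theorem eq_one_of_forall_irr_eq {x : G}
    (h : ∀ ψ : Cfsg.IrrCharacter G, (ψ : G → ℂ) x = (ψ : G → ℂ) 1) : x = 1 := by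
  classical
  have := Fintype.ofFinite G
  have := Fintype.ofFinite (Cfsg.IrrCharacter G)
  by_contra hx
  have hnc : ¬ IsConj x 1 := fun hc => hx (isConj_one_left.mp hc)
  have hsum := second_orthogonality_of_not_isConj (G := G) hnc
  simp_rw [h] at hsum
  have hterm : ∀ ψ : Cfsg.IrrCharacter G, (ψ : G → ℂ) 1 * conj ((ψ : G → ℂ) 1)
      = ((Complex.normSq ((ψ : G → ℂ) 1) : ℝ) : ℂ) := fun ψ => Complex.mul_conj _
  simp_rw [hterm] at hsum
  have hsum' : ∑ ψ : Cfsg.IrrCharacter G, Complex.normSq ((ψ : G → ℂ) 1) = 0 := by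
    exact_mod_cast hsum
  have h0 := (Finset.sum_eq_zero_iff_of_nonneg
    (fun (ψ : Cfsg.IrrCharacter G) _ => Complex.normSq_nonneg ((ψ : G → ℂ) 1))).mp hsum'
    (trivIrr G) (Finset.mem_univ _)
  rw [trivIrr_apply] at h0
  simp at h0

end Sep

section Core

variable {G : Type*} [Group G] [Finite G]

/-- A representative of the nonidentity class on which the character does not vanish. -/
theorem gagola_exists_rep (χ : Cfsg.IrrCharacter G)
    (hχ : Nat.card {C : ConjClasses G // ∃ g ∈ C.carrier, (χ : G → ℂ) g ≠ 0} = 2) :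
    ∃ g₀ : G, g₀ ≠ 1 ∧ (χ : G → ℂ) g₀ ≠ 0 ∧
      ∀ x, (χ : G → ℂ) x ≠ 0 → x = 1 ∨ IsConj g₀ x := by
  rw [Nat.card_eq_two_iff] at hχ
  obtain ⟨c1, c2, hne, huniv⟩ := hχ
  let e1 : {C : ConjClasses G // ∃ g ∈ C.carrier, (χ : G → ℂ) g ≠ 0} :=
    ⟨ConjClasses.mk 1, 1, ConjClasses.mem_carrier_mk, char_one_ne_zero χ.2⟩
  have key : ∀ other : {C : ConjClasses G // ∃ g ∈ C.carrier, (χ : G → ℂ) g ≠ 0},
      other ≠ e1 → (∀ e, e = e1 ∨ e = other) →
      ∃ g₀ : G, g₀ ≠ 1 ∧ (χ : G → ℂ) g₀ ≠ 0 ∧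
        ∀ x, (χ : G → ℂ) x ≠ 0 → x = 1 ∨ IsConj g₀ x := by
    intro other hother hall
    obtain ⟨g₀, hg₀mem, hg₀⟩ := other.2
    have hmk : ConjClasses.mk g₀ = other.1 := ConjClasses.mem_carrier_iff_mk_eq.mp hg₀mem
    refine ⟨g₀, ?_, hg₀, ?_⟩
    · intro h1
      apply hother
      apply Subtype.ext
      rw [← hmk, h1]
    · intro x hx
      let e : {C : ConjClasses G // ∃ g ∈ C.carrier, (χ : G → ℂ) g ≠ 0} :=
        ⟨ConjClasses.mk x, x, ConjClasses.mem_carrier_mk, hx⟩
      rcases hall e with h | h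
      · left
        have h2 : ConjClasses.mk x = ConjClasses.mk 1 := congrArg Subtype.val h
        exact isConj_one_left.mp (ConjClasses.mk_eq_mk_iff_isConj.mp h2)
      · right
        have h2 : ConjClasses.mk x = other.1 := congrArg Subtype.val h
        rw [← hmk] at h2
        exact (ConjClasses.mk_eq_mk_iff_isConj.mp h2).symm
  have hmem : ∀ e : {C : ConjClasses G // ∃ g ∈ C.carrier, (χ : G → ℂ) g ≠ 0},
      e = c1 ∨ e = c2 := by
    intro e
    have : e ∈ ({c1, c2} : Set _) := by rw [huniv]; trivial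
    simpa using this
  rcases hmem e1 with h | h
  · refine key c2 (fun h2 => hne (h2.trans h).symm) ?_
    intro e
    rcases hmem e with h3 | h3
    · left; rw [h3, h]
    · right; exact h3
  · refine key c1 (fun h2 => hne (h2.trans h)) ?_
    intro e
    rcases hmem e with h3 | h3
    · right; exact h3
    · left; rw [h3, h]

/-- Summation against a character supported on the identity and one class. -/
theorem gagola_sum [Fintype G] {χ : G → ℂ} (hχc : Cfsg.IsCharacter G χ) {g₀ : G} (hg₀ : g₀ ≠ 1)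
    (hsupp : ∀ x, χ x ≠ 0 → x = 1 ∨ IsConj g₀ x) (F : G → ℂ)
    (hF : ∀ x, IsConj g₀ x → F x = F g₀) :
    ∑ g, χ g * F g = χ 1 * F 1
      + ((Subgroup.centralizer ({g₀} : Set G)).index : ℂ) * (χ g₀ * F g₀) := by
  classical
  have h1 : ∑ g, χ g * F g = ∑ g ∈ insert 1 (conjFinset g₀), χ g * F g := by
    symm
    apply Finset.sum_subset (Finset.subset_univ _)
    intro x _ hx
    have : χ x = 0 := by
      by_contra hne
      apply hx
      rcases hsupp x hne with h | h
      · rw [h]; exact Finset.mem_insert_self _ _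
      · exact Finset.mem_insert_of_mem ((mem_conjFinset g₀ x).mpr h)
    rw [this, zero_mul]
  have h2 : (1 : G) ∉ conjFinset g₀ := by
    intro h
    exact hg₀ (isConj_one_left.mp ((mem_conjFinset g₀ 1).mp h))
  rw [h1, Finset.sum_insert h2]
  congr 1
  have h3 : ∀ x ∈ conjFinset g₀, χ x * F x = χ g₀ * F g₀ := by
    intro x hx
    have hc := (mem_conjFinset g₀ x).mp hx
    rw [← char_isConj_eq hχc hc, hF x hc]
  rw [Finset.sum_congr rfl h3, Finset.sum_const, card_conjFinset, nsmul_eq_mul]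

/-- The main structural facts about an irreducible character that is nonzero on exactly two
conjugacy classes. -/
theorem gagola_core (hG : 2 < Nat.card G) (χ : Cfsg.IrrCharacter G)
    (hχ : Nat.card {C : ConjClasses G // ∃ g ∈ C.carrier, (χ : G → ℂ) g ≠ 0} = 2) :
    ∃ (g₀ : G) (N : Subgroup G), N.Normal ∧ g₀ ≠ 1 ∧ g₀ ∈ N ∧
      (∀ x, x ∈ N ↔ (χ : G → ℂ) x ≠ 0) ∧
      (∀ x ∈ N, x ≠ 1 → IsConj g₀ x) ∧
      (∀ ψ : Cfsg.IrrCharacter G, ψ ≠ χ → ∀ x ∈ N, (ψ : G → ℂ) x = (ψ : G → ℂ) 1) ∧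
      (∀ g, (χ : G → ℂ) g = (χ : G → ℂ) 1 → g = 1) ∧
      (((Subgroup.centralizer ({g₀} : Set G)).index : ℂ) * (χ : G → ℂ) g₀ = - (χ : G → ℂ) 1) ∧
      (Cfsg.charDegree (χ : G → ℂ) ^ 2 * ((Subgroup.centralizer ({g₀} : Set G)).index + 1)
        = Nat.card G * (Subgroup.centralizer ({g₀} : Set G)).index) := by
  classical
  have := Fintype.ofFinite G
  have := Fintype.ofFinite (Cfsg.IrrCharacter G)
  obtain ⟨g₀, hg₀, hχg₀, hsupp⟩ := gagola_exists_rep χ hχ
  have hχc := isCharacter_of_isIrrCharacter χ.2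
  set k := (Subgroup.centralizer ({g₀} : Set G)).index with hk
  have hk0 : 0 < k := Nat.pos_of_ne_zero Subgroup.index_ne_zero_of_finite
  set d := Cfsg.charDegree (χ : G → ℂ) with hd
  have hd0 : 0 < d := charDegree_pos χ.2
  have hχ1 : (χ : G → ℂ) 1 = (d : ℂ) := char_one_eq_charDegree hχc
  have hGne : (Nat.card G : ℂ) ≠ 0 := by
    exact_mod_cast (Nat.card_pos (α := G)).ne'
  -- χ is not the trivial character
  have hχtriv : χ ≠ trivIrr G := by
    intro h
    have hall : ∀ x : G, x ≠ 1 → IsConj g₀ x := by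
      intro x hx
      have : (χ : G → ℂ) x ≠ 0 := by rw [h, trivIrr_apply]; exact one_ne_zero
      exact (hsupp x this).resolve_left hx
    have hcf : conjFinset g₀ = Finset.univ.erase 1 := by
      ext x
      rw [mem_conjFinset, Finset.mem_erase]
      constructor
      · intro hc
        refine ⟨fun h1 => hg₀ ?_, Finset.mem_univ _⟩
        rw [h1] at hc
        exact isConj_one_left.mp hc
      · intro hx
        exact hall x hx.1
    have hcard : k = Nat.card G - 1 := by
      rw [hk, ← card_conjFinset, hcf, Finset.card_erase_of_mem (Finset.mem_univ _),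
        Finset.card_univ, Nat.card_eq_fintype_card]
    have hdvd : k ∣ Nat.card G := Subgroup.index_dvd_card _
    rw [hcard] at hdvd
    have h2 : Nat.card G - 1 ∣ 1 := by
      have h3 : Nat.card G - 1 ∣ (Nat.card G - 1) + 1 := by
        rw [Nat.sub_add_cancel (by omega)]; exact hdvd
      exact (Nat.dvd_add_right (dvd_refl _)).mp h3
    have := Nat.dvd_one.mp h2
    omega
  -- first row relation
  have hR1 : (k : ℂ) * (χ : G → ℂ) g₀ = - (χ : G → ℂ) 1 := by
    have h1 := classInner_irr χ (trivIrr G)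
    rw [if_neg hχtriv] at h1
    unfold Cfsg.classInner at h1
    have h2 := gagola_sum hχc hg₀ hsupp (fun g => conj (((trivIrr G : Cfsg.IrrCharacter G) : G → ℂ) g))
      (fun x _ => rfl)
    rw [h2] at h1
    simp only [trivIrr_apply, map_one, mul_one] at h1
    rcases mul_eq_zero.mp h1 with h3 | h3
    · exact absurd (inv_eq_zero.mp h3) hGne
    · exact eq_neg_of_add_eq_zero_right h3
  -- other characters are trivial on the class
  have hG3 : ∀ ψ : Cfsg.IrrCharacter G, ψ ≠ χ → (ψ : G → ℂ) g₀ = (ψ : G → ℂ) 1 := by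
    intro ψ hψ
    have hψc := isCharacter_of_isIrrCharacter ψ.2
    have h1 := classInner_irr χ ψ
    rw [if_neg (Ne.symm hψ)] at h1
    unfold Cfsg.classInner at h1
    have h2 := gagola_sum hχc hg₀ hsupp (fun g => conj ((ψ : G → ℂ) g))
      (fun x hx => by rw [char_isConj_eq hψc hx])
    rw [h2] at h1
    have h3 : (χ : G → ℂ) 1 * conj ((ψ : G → ℂ) 1)
        + (k : ℂ) * ((χ : G → ℂ) g₀ * conj ((ψ : G → ℂ) g₀)) = 0 := by
      rcases mul_eq_zero.mp h1 with h3 | h3
      · exact absurd (inv_eq_zero.mp h3) hGne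
      · exact h3
    rw [← mul_assoc, hR1] at h3
    have h4 : (χ : G → ℂ) 1 * (conj ((ψ : G → ℂ) 1) - conj ((ψ : G → ℂ) g₀)) = 0 := by
      rw [mul_sub]; linear_combination h3
    rcases mul_eq_zero.mp h4 with h5 | h5
    · exact absurd h5 (char_one_ne_zero χ.2)
    · have h6 : conj ((ψ : G → ℂ) 1) = conj ((ψ : G → ℂ) g₀) := sub_eq_zero.mp h5
      exact ((starRingEnd ℂ).injective h6).symm
  -- the normal subgroup
  let N : Subgroup G := ⨅ ψ : {ψ : Cfsg.IrrCharacter G // ψ ≠ χ}, irrKer ψ.1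
  have hNn : N.Normal := Subgroup.normal_iInf_normal fun ψ => irrKer_normal ψ.1
  have hNmem : ∀ x, x ∈ N ↔ ∀ ψ : Cfsg.IrrCharacter G, ψ ≠ χ →
      (ψ : G → ℂ) x = (ψ : G → ℂ) 1 := by
    intro x
    simp only [N, Subgroup.mem_iInf, mem_irrKer, Subtype.forall]
  have hg₀N : g₀ ∈ N := (hNmem g₀).mpr hG3
  have hNsupp : ∀ x, x ∈ N ↔ (χ : G → ℂ) x ≠ 0 := by
    intro x
    constructor
    · intro hx
      by_cases hx1 : x = 1
      · rw [hx1]; exact char_one_ne_zero χ.2
      · have hnc : ¬ IsConj x 1 := fun hc => hx1 (isConj_one_left.mp hc)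
        have hsum := second_orthogonality_of_not_isConj (G := G) hnc
        rw [← Finset.add_sum_erase _ _ (Finset.mem_univ χ)] at hsum
        have hrest : ∑ ψ ∈ Finset.univ.erase χ, (ψ : G → ℂ) x * conj ((ψ : G → ℂ) 1)
            = ((∑ ψ ∈ Finset.univ.erase χ, Complex.normSq ((ψ : G → ℂ) 1) : ℝ) : ℂ) := by
          rw [Complex.ofReal_sum]
          refine Finset.sum_congr rfl fun ψ hψ => ?_
          rw [(hNmem x).mp hx ψ (Finset.mem_erase.mp hψ).1, Complex.mul_conj]
        rw [hrest] at hsum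
        intro h0
        rw [h0, zero_mul, zero_add] at hsum
        have hsum' : ∑ ψ ∈ Finset.univ.erase χ, Complex.normSq ((ψ : G → ℂ) 1) = 0 := by
          exact_mod_cast hsum
        have h0' := (Finset.sum_eq_zero_iff_of_nonneg
          (fun (ψ : Cfsg.IrrCharacter G) _ => Complex.normSq_nonneg ((ψ : G → ℂ) 1))).mp hsum'
          (trivIrr G) (Finset.mem_erase.mpr ⟨Ne.symm hχtriv, Finset.mem_univ _⟩)
        rw [trivIrr_apply] at h0'
        simp at h0'
    · intro hx
      rcases hsupp x hx with h | h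
      · rw [h]; exact N.one_mem
      · obtain ⟨c, rfl⟩ := isConj_iff.mp h
        exact hNn.conj_mem g₀ hg₀N c
  have hNconj : ∀ x ∈ N, x ≠ 1 → IsConj g₀ x := by
    intro x hx hx1
    exact (hsupp x ((hNsupp x).mp hx)).resolve_left hx1
  have hfaith : ∀ g, (χ : G → ℂ) g = (χ : G → ℂ) 1 → g = 1 := by
    intro g hg
    by_contra hg1
    have hne : (χ : G → ℂ) g ≠ 0 := by rw [hg]; exact char_one_ne_zero χ.2
    have hc := (hsupp g hne).resolve_left hg1
    have h1 : (χ : G → ℂ) g₀ = (χ : G → ℂ) 1 := by rw [char_isConj_eq hχc hc, hg]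
    rw [h1] at hR1
    have h2 : ((k : ℂ) + 1) * (χ : G → ℂ) 1 = 0 := by linear_combination hR1
    rcases mul_eq_zero.mp h2 with h3 | h3
    · have : ((k + 1 : ℕ) : ℂ) = 0 := by push_cast; exact h3
      exact absurd (Nat.cast_eq_zero.mp this) (Nat.succ_ne_zero k)
    · exact char_one_ne_zero χ.2 h3
  -- the order formula
  have horder : d ^ 2 * (k + 1) = Nat.card G * k := by
    have h1 := classInner_self χ.2
    unfold Cfsg.classInner at h1
    have h2 := gagola_sum hχc hg₀ hsupp (fun g => conj ((χ : G → ℂ) g))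
      (fun x hx => by rw [char_isConj_eq hχc hx])
    rw [h2] at h1
    have h3 : (χ : G → ℂ) 1 * conj ((χ : G → ℂ) 1)
        + (k : ℂ) * ((χ : G → ℂ) g₀ * conj ((χ : G → ℂ) g₀)) = (Nat.card G : ℂ) := by
      have h1' := congrArg (fun z => (Nat.card G : ℂ) * z) h1
      simp only [mul_one] at h1'
      rw [← mul_assoc (Nat.card G : ℂ), mul_inv_cancel₀ hGne, one_mul] at h1'
      exact h1'
    have hk0' : (k : ℂ) ≠ 0 := by exact_mod_cast hk0.ne'
    have ha : (χ : G → ℂ) g₀ = - (d : ℂ) / (k : ℂ) := by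
      rw [← hχ1, ← hR1]
      field_simp
    have hca : conj ((χ : G → ℂ) g₀) = - (d : ℂ) / (k : ℂ) := by
      rw [ha, map_div₀, map_neg, Complex.conj_natCast, Complex.conj_natCast]
    rw [hca, ha, hχ1, Complex.conj_natCast] at h3
    have h4 : (d : ℂ) ^ 2 * ((k : ℂ) + 1) = (Nat.card G : ℂ) * (k : ℂ) := by
      rw [← h3]
      field_simp
    exact_mod_cast h4
  exact ⟨g₀, N, hNn, hg₀, hg₀N, hNsupp, hNconj, fun ψ hψ x hx => (hNmem x).mp hx ψ hψ,
    hfaith, hR1, horder⟩

end Core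

end Cfsg.Agent.Lib.Helper80
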