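import Mathlib
import Cfsg.Prelude.Def_Characters
import Cfsg.Prelude.Def_Blocks
import Cfsg.Prelude.Def_Local
import Cfsg.Agent.Lib.Helper80.CharOps
import Cfsg.Agent.Lib.Helper80.Orthogonality
import Cfsg.Agent.Lib.Helper80.CharKer
import Cfsg.Agent.Lib.Helper80.Codegree
import Cfsg.Agent.Lib.Helper75.CliffordCorr
import Cfsg.Agent.Lib.Helper69.PSolvable
import Cfsg.Agent.Lib.Helper67.SylowLemmas
import Cfsg.Agent.S0169

/-!
# Ito's theorem and its converse for `p`-solvable groups

A finite `p`-solvable group has a normal abelian Sylow `p`-subgroup iff `p` divides no irreducible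
character degree.
-/

set_option autoImplicit false
set_option linter.style.haveILetI false

open scoped ComplexConjugate

namespace Cfsg.Agent.Lib.Helper80

universe u

section Over

variable {G : Type u} [Group G] [Fintype G]

/-- Every irreducible character of a subgroup lies under an irreducible character of the group. -/
theorem exists_irr_over (H : Subgroup G) [Fintype H] {θ : H → ℂ}
    (hθ : Cfsg.IsIrrCharacter H θ) :
    ∃ χ : G → ℂ, Cfsg.IsIrrCharacter G χ ∧ Cfsg.classInner (fun n : H => χ n) θ ≠ 0 := by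
  classical
  haveI : Fintype (Cfsg.IrrCharacter G) := Fintype.ofFinite _
  have hind := isCharacter_indFun H (isCharacter_of_isIrrCharacter hθ)
  obtain ⟨m, hm, hexp⟩ := character_expansion hind
  have h1 : Cfsg.indFun H θ 1 ≠ 0 := by
    rw [indFun_one]
    refine mul_ne_zero ?_ (char_one_ne_zero hθ)
    exact_mod_cast (Subgroup.index_ne_zero_of_finite (H := H))
  have : ∃ χ : Cfsg.IrrCharacter G, m χ ≠ 0 := by
    by_contra hcon
    push Not at hcon
    apply h1
    rw [hexp]
    simp [hcon]
  obtain ⟨χ, hχ⟩ := this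
  refine ⟨χ, χ.2, ?_⟩
  have hfr := frobenius_reciprocity H θ (χ : G → ℂ)
    (isClassFunction_of_isCharacter (isCharacter_of_isIrrCharacter χ.2))
  rw [hm χ] at hfr
  rw [← classInner_conj_symm, ← hfr]
  simpa using hχ

end Over

section Clifford

variable {G : Type u} [Group G] [Fintype G] (N : Subgroup G) [N.Normal] [Fintype N]

/-- Clifford: `χ(1) = e · |G : I_G(θ)| · θ(1)`. -/
theorem charDegree_eq_mul_index_inertia {χ : G → ℂ} (hχ : Cfsg.IsIrrCharacter G χ) {θ : N → ℂ}
    (hθ : Cfsg.IsIrrCharacter N θ) (h : Cfsg.classInner (fun n : N => χ n) θ ≠ 0) :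
    ∃ e : ℕ, Cfsg.charDegree χ = e * (Helper75.inertia N θ).index * Cfsg.charDegree θ := by
  obtain ⟨e, he⟩ := classInner_nat (isCharacter_restrict N (isCharacter_of_isIrrCharacter hχ))
    (isCharacter_of_isIrrCharacter hθ)
  refine ⟨e, ?_⟩
  have h1 := Helper75.res_one_eq N hχ hθ h
  rw [Helper75.card_constit_eq_index_inertia N hχ hθ h, he,
    char_one_eq_charDegree (isCharacter_of_isIrrCharacter hχ),
    char_one_eq_charDegree (isCharacter_of_isIrrCharacter hθ)] at h1
  exact_mod_cast h1

/-- If `p` divides no irreducible character degree of `G`, the same holds for a normal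
subgroup. -/
theorem not_dvd_charDegree_of_normal {p : ℕ}
    (hdeg : ∀ χ : Cfsg.IrrCharacter G, ¬ p ∣ Cfsg.charDegree (χ : G → ℂ))
    (θ : Cfsg.IrrCharacter N) : ¬ p ∣ Cfsg.charDegree (θ : N → ℂ) := by
  obtain ⟨χ, hχ, h⟩ := exists_irr_over N θ.2
  obtain ⟨e, he⟩ := charDegree_eq_mul_index_inertia N hχ θ.2 h
  intro hdvd
  apply hdeg ⟨χ, hχ⟩
  rw [he]
  exact Dvd.dvd.mul_left hdvd _

/-- If all irreducible characters of `N` are `G`-invariant, then `G` fixes every conjugacy class
of `N`. -/
theorem isConj_conjNormal_of_invariant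
    (hinv : ∀ θ : Cfsg.IrrCharacter N, Helper75.inertia N (θ : N → ℂ) = ⊤) (g : G) (n : N) :
    IsConj n (MulAut.conjNormal g n) := by
  classical
  haveI : Fintype (Cfsg.IrrCharacter N) := Fintype.ofFinite _
  by_contra hnc
  have h0 := second_orthogonality_of_not_isConj (G := N) hnc
  have h1 := second_orthogonality_of_isConj (G := N) (IsConj.refl n)
  have h2 : ∀ θ : Cfsg.IrrCharacter N,
      (θ : N → ℂ) (MulAut.conjNormal g n) = (θ : N → ℂ) n := by
    intro θ
    have hg : g ∈ Helper75.inertia N (θ : N → ℂ) := by rw [hinv θ]; trivial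
    have := (Helper75.mem_inertia_iff' N (θ : N → ℂ) g).mp hg n
    rw [← this]
    congr 1
  simp_rw [h2] at h0
  rw [h0] at h1
  have : (Nat.card (Subgroup.centralizer ({n} : Set N)) : ℂ) ≠ 0 := by
    exact_mod_cast Nat.card_pos.ne'
  exact this h1.symm

/-- If all irreducible characters of the normal `p'`-subgroup `N` are `G`-invariant, every
`p`-subgroup centralizes `N`. -/
theorem le_centralizer_of_invariant {p : ℕ} [Fact p.Prime]
    (hinv : ∀ θ : Cfsg.IrrCharacter N, Helper75.inertia N (θ : N → ℂ) = ⊤)
    (P : Subgroup G) (hP : IsPGroup p P) (hN : ¬ p ∣ Nat.card N) :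
    N ≤ Subgroup.centralizer (P : Set G) := by
  classical
  have key : ((Subgroup.centralizer (P : Set G)).subgroupOf N) = ⊤ := by
    apply Helper67.eq_top_of_forall_exists_conj_mem
    intro n
    let K := {x : N // IsConj n x}
    letI : MulAction P K :=
      { smul := fun u x => ⟨MulAut.conjNormal (u : G) x.1,
          x.2.trans (isConj_conjNormal_of_invariant N hinv u x.1)⟩
        one_smul := fun x => Subtype.ext (by
          show MulAut.conjNormal ((1 : P) : G) x.1 = x.1
          simp)
        mul_smul := fun u v x => Subtype.ext (by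
          show MulAut.conjNormal ((u * v : P) : G) x.1 =
            MulAut.conjNormal (u : G) (MulAut.conjNormal (v : G) x.1)
          simp [map_mul]) }
    have hcard : ¬ p ∣ Nat.card K := by
      rw [card_isConj_eq_index]
      intro hdvd
      exact hN (hdvd.trans (Subgroup.index_dvd_card _))
    obtain ⟨x, hx⟩ := hP.nonempty_fixed_point_of_prime_not_dvd_card K hcard
    obtain ⟨c, hc⟩ := isConj_iff.mp x.2
    refine ⟨c, ?_⟩
    rw [hc, Subgroup.mem_subgroupOf, Subgroup.mem_centralizer_iff]
    intro u hu
    have h3 := hx ⟨u, hu⟩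
    have h4 : MulAut.conjNormal (u : G) x.1 = x.1 := congrArg Subtype.val h3
    have h5 : u * (x.1 : G) * u⁻¹ = (x.1 : G) := by
      have := congrArg Subtype.val h4
      rwa [MulAut.conjNormal_apply] at this
    calc u * (x.1 : G) = u * (x.1 : G) * u⁻¹ * u := by group
      _ = (x.1 : G) * u := by rw [h5]
  intro n hn
  have : (⟨n, hn⟩ : N) ∈ (Subgroup.centralizer (P : Set G)).subgroupOf N := by
    rw [key]; trivial
  exact Subgroup.mem_subgroupOf.mp this

end Clifford

section Quot

/-- If `p` divides no irreducible character degree of `G`, the same holds for a quotient. -/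
theorem not_dvd_charDegree_quotient {G : Type u} [Group G] (N : Subgroup G) [N.Normal] {p : ℕ}
    (hdeg : ∀ χ : Cfsg.IrrCharacter G, ¬ p ∣ Cfsg.charDegree (χ : G → ℂ))
    (ψ : Cfsg.IrrCharacter (G ⧸ N)) : ¬ p ∣ Cfsg.charDegree (ψ : G ⧸ N → ℂ) :=
  hdeg ⟨_, isIrrCharacter_inflate N ψ.2⟩

/-- A finite group all of whose irreducible characters are linear is abelian. -/
theorem isMulCommutative_of_forall_charDegree_eq_one {G : Type u} [Group G] [Finite G]
    (h : ∀ χ : Cfsg.IrrCharacter G, Cfsg.charDegree (χ : G → ℂ) = 1) : IsMulCommutative G := by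
  classical
  haveI := Fintype.ofFinite G
  haveI : Fintype (Cfsg.IrrCharacter G) := Fintype.ofFinite _
  have h1 := sum_charDegree_sq (G := G)
  simp_rw [h] at h1
  have h2 := card_irr_eq_card_conjClasses (G := G)
  have h3 : Nat.card (ConjClasses G) = Nat.card G := by
    rw [← h2, ← h1, Nat.card_eq_fintype_card]
    simp
  rw [← commProb_eq_one_iff, commProb_def', h3]
  have : (Nat.card G : ℚ) ≠ 0 := by exact_mod_cast Nat.card_pos.ne'
  exact div_self this

end Quot

section Main

/-- Induction for the converse of Ito's theorem in `p`-solvable groups: normality. -/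
theorem sylow_normal_of_not_dvd_charDegree_aux (p : ℕ) [Fact p.Prime] :
    ∀ (n : ℕ) (G : Type u) [Group G] [Finite G], Nat.card G = n → Cfsg.IsPSolvable p G →
      (∀ χ : Cfsg.IrrCharacter G, ¬ p ∣ Cfsg.charDegree (χ : G → ℂ)) →
      ∀ P : Sylow p G, (P : Subgroup G).Normal := by
  intro n
  induction n using Nat.strong_induction_on with
  | _ n ih =>
  intro G _ _ hcard hsolv hdeg P
  classical
  haveI := Fintype.ofFinite G
  have hp : p.Prime := Fact.out
  rcases subsingleton_or_nontrivial G with hsub | hnt
  · have : (P : Subgroup G) = ⊥ := Subsingleton.elim _ _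
    rw [this]; infer_instance
  obtain ⟨N, hNn, hNbot, hN⟩ := Helper69.exists_normal_of_isPSolv p hsolv
  haveI := hNn
  haveI : Fintype N := Fintype.ofFinite _
  -- the quotient
  have hQcard : Nat.card (G ⧸ N) < n := by
    rw [← hcard, ← Subgroup.index_eq_card, ← Subgroup.index_mul_card N]
    have h1 : 1 < Nat.card N := N.one_lt_card_iff_ne_bot.mpr hNbot
    have h2 : 0 < N.index := Nat.pos_of_ne_zero Subgroup.index_ne_zero_of_finite
    nlinarith
  have hQ := ih _ hQcard (G ⧸ N) rfl
    (Helper69.isPSolvable_of_surj p (QuotientGroup.mk' N) (QuotientGroup.mk'_surjective N) hsolv)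
    (not_dvd_charDegree_quotient N hdeg) (P.mapSurjective (QuotientGroup.mk'_surjective N))
  have hPN : ((P : Subgroup G) ⊔ N).Normal := by
    have h1 : ((P : Subgroup G).map (QuotientGroup.mk' N)).comap (QuotientGroup.mk' N)
        = (P : Subgroup G) ⊔ N := by
      rw [Subgroup.comap_map_eq, QuotientGroup.ker_mk']
    rw [← h1]
    exact Subgroup.Normal.comap hQ _
  rcases hN with hNp | hNp'
  · -- `N` is a `p`-group, so `N ≤ P`
    have hle : N ≤ (P : Subgroup G) := by
      obtain ⟨Q, hQ'⟩ := hNp.exists_le_sylow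
      obtain ⟨g, rfl⟩ := MulAction.exists_smul_eq G Q P
      intro x hx
      rw [Sylow.coe_subgroup_smul, Subgroup.mem_pointwise_smul_iff_inv_smul_mem]
      apply hQ'
      have := hNn.conj_mem x hx g⁻¹
      simpa [MulAut.smul_def] using this
    rwa [sup_of_le_left hle] at hPN
  · by_cases htop : (P : Subgroup G) ⊔ N = ⊤
    · -- `G = PN`: every irreducible character of `N` is invariant
      have hQp : IsPGroup p (G ⧸ N) := by
        have h1 : (P : Subgroup G).map (QuotientGroup.mk' N) = ⊤ := by
          have : ((P : Subgroup G) ⊔ N).map (QuotientGroup.mk' N) = ⊤ := by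
            rw [htop]
            exact Subgroup.map_top_of_surjective _ (QuotientGroup.mk'_surjective N)
          rwa [Subgroup.map_sup, QuotientGroup.map_mk'_self, sup_bot_eq] at this
        have h2 : IsPGroup p ((P : Subgroup G).map (QuotientGroup.mk' N)) := P.2.map _
        rw [h1] at h2
        exact h2.of_equiv Subgroup.topEquiv
      obtain ⟨k, hk⟩ := IsPGroup.iff_card.mp hQp
      have hinv : ∀ θ : Cfsg.IrrCharacter N, Helper75.inertia N (θ : N → ℂ) = ⊤ := by
        intro θ
        obtain ⟨χ, hχ, h⟩ := exists_irr_over N θ.2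
        obtain ⟨e, he⟩ := charDegree_eq_mul_index_inertia N hχ θ.2 h
        have hd1 : (Helper75.inertia N (θ : N → ℂ)).index ∣ p ^ k := by
          rw [← hk, ← Subgroup.index_eq_card]
          exact Subgroup.index_dvd_of_le (Helper75.le_inertia N
            (isClassFunction_of_isCharacter (isCharacter_of_isIrrCharacter θ.2)))
        obtain ⟨j, -, hj⟩ := (Nat.dvd_prime_pow hp).mp hd1
        rw [← Subgroup.index_eq_one]
        rcases Nat.eq_zero_or_pos j with rfl | hjpos
        · simpa using hj
        · exfalso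
          apply hdeg ⟨χ, hχ⟩
          rw [he, hj]
          exact ((dvd_pow_self p hjpos.ne').mul_left e).mul_right _
      have hcent := le_centralizer_of_invariant N hinv (P : Subgroup G) P.2
        (fun hdvd => hp.one_lt.ne' (Nat.eq_one_of_dvd_coprimes hNp' hdvd (dvd_refl p)))
      have hnorm : Subgroup.normalizer ((P : Subgroup G) : Set G) = ⊤ := by
        rw [eq_top_iff, ← htop]
        exact sup_le Subgroup.le_normalizer
          (hcent.trans (Subgroup.centralizer_le_normalizer _))
      exact Subgroup.normalizer_eq_top_iff.mp hnorm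
    · -- `PN` is a proper normal subgroup
      have hMcard : Nat.card ((P : Subgroup G) ⊔ N : Subgroup G) < n := by
        rw [← hcard, ← Subgroup.index_mul_card ((P : Subgroup G) ⊔ N)]
        have h1 : ((P : Subgroup G) ⊔ N).index ≠ 1 := fun h => htop (Subgroup.index_eq_one.mp h)
        have h2 : ((P : Subgroup G) ⊔ N).index ≠ 0 := Subgroup.index_ne_zero_of_finite
        have h3 : 0 < Nat.card ((P : Subgroup G) ⊔ N : Subgroup G) := Nat.card_pos
        have h4 : 2 ≤ ((P : Subgroup G) ⊔ N).index := by omega
        nlinarith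
      haveI : Fintype ((P : Subgroup G) ⊔ N : Subgroup G) := Fintype.ofFinite _
      have hM' := ih _ hMcard ((P : Subgroup G) ⊔ N : Subgroup G) rfl
        (Helper69.isPSolvable_subgroup p hsolv _)
        (not_dvd_charDegree_of_normal ((P : Subgroup G) ⊔ N) hdeg)
        (P.subtype le_sup_left)
      haveI := hM'
      haveI hchar := Sylow.characteristic_of_normal (P.subtype le_sup_left) hM'
      have hnm := ConjAct.normal_of_characteristic_of_normal (H := (P : Subgroup G) ⊔ N)
        (K := ((P.subtype (le_sup_left (b := N)) : Sylow p ((P : Subgroup G) ⊔ N : Subgroup G)) :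
          Subgroup ((P : Subgroup G) ⊔ N : Subgroup G)))
      have hmap : ((P.subtype (le_sup_left (b := N)) :
          Sylow p ((P : Subgroup G) ⊔ N : Subgroup G)) :
          Subgroup ((P : Subgroup G) ⊔ N : Subgroup G)).map
          ((P : Subgroup G) ⊔ N).subtype = (P : Subgroup G) := by
        rw [Sylow.coe_subtype]
        exact Subgroup.map_subgroupOf_eq_of_le le_sup_left
      rwa [hmap] at hnm

/-- Converse of Ito's theorem for `p`-solvable groups: if `p` divides no irreducible character
degree, the Sylow `p`-subgroup is normal and abelian. -/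
theorem sylow_normal_comm_of_not_dvd_charDegree {G : Type u} [Group G] [Finite G] (p : ℕ)
    [Fact p.Prime] (hsolv : Cfsg.IsPSolvable p G)
    (hdeg : ∀ χ : Cfsg.IrrCharacter G, ¬ p ∣ Cfsg.charDegree (χ : G → ℂ)) (P : Sylow p G) :
    (P : Subgroup G).Normal ∧ IsMulCommutative P := by
  have hp : p.Prime := Fact.out
  have hn := sylow_normal_of_not_dvd_charDegree_aux p _ G rfl hsolv hdeg P
  refine ⟨hn, ?_⟩
  haveI := hn
  haveI := Fintype.ofFinite G
  haveI : Fintype (P : Subgroup G) := Fintype.ofFinite _
  apply isMulCommutative_of_forall_charDegree_eq_one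
  intro θ
  have h1 := not_dvd_charDegree_of_normal (P : Subgroup G) hdeg θ
  have h2 := charDegree_dvd_card θ.2
  obtain ⟨k, hk⟩ := IsPGroup.iff_card.mp P.2
  rw [hk] at h2
  obtain ⟨j, -, hj⟩ := (Nat.dvd_prime_pow hp).mp h2
  rcases Nat.eq_zero_or_pos j with rfl | hjpos
  · simpa using hj
  · exfalso
    apply h1
    rw [hj]
    exact dvd_pow_self p hjpos.ne'

/-- Ito's theorem for a normal abelian Sylow `p`-subgroup: `p` divides no irreducible character
degree. -/
theorem not_dvd_charDegree_of_sylow_normal_comm {G : Type u} [Group G] [Finite G] (p : ℕ)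
    [Fact p.Prime] (P : Sylow p G) (hn : (P : Subgroup G).Normal)
    (hc : ∀ a ∈ (P : Subgroup G), ∀ b ∈ (P : Subgroup G), a * b = b * a)
    (χ : Cfsg.IrrCharacter G) : ¬ p ∣ Cfsg.charDegree (χ : G → ℂ) := by
  obtain ⟨χ, n, ρ, hirr, rfl⟩ := χ
  haveI := hirr
  haveI := hn
  have h := Cfsg.Agent.S0169.result ρ (P : Subgroup G) hc
  rw [Module.finrank_fin_fun] at h
  show ¬ p ∣ Cfsg.charDegree ρ.character
  rw [charDegree_char]
  intro hdvd
  exact P.not_dvd_index (hdvd.trans h)

end Main

end Cfsg.Agent.Lib.Helper80
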