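import Mathlib
import Cfsg.Prelude.Def_Blocks
import Cfsg.Prelude.Def_Transfer
import Cfsg.Agent.Lib.Helper80.Gagola

/-!
# The minimal normal subgroup attached to a character vanishing off two classes
-/

set_option autoImplicit false

namespace Cfsg.Agent.Lib.Helper80

open scoped ComplexConjugate

section GagolaN

variable {G : Type*} [Group G] [Finite G]

/-- A normal subgroup on which all irreducible characters with nontrivial kernel are trivial lies
in every nontrivial normal subgroup. -/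
theorem le_of_forall_nonfaithful_trivial {N : Subgroup G}
    (h : ∀ ψ : Cfsg.IrrCharacter G, (∃ k : G, k ≠ 1 ∧ (ψ : G → ℂ) k = (ψ : G → ℂ) 1) →
      ∀ x ∈ N, (ψ : G → ℂ) x = (ψ : G → ℂ) 1)
    (K : Subgroup G) [hK : K.Normal] (hK1 : K ≠ ⊥) : N ≤ K := by
  intro x hx
  obtain ⟨⟨k, hkK⟩, hk1'⟩ := (Subgroup.ne_bot_iff_exists_ne_one).mp hK1
  have hk1 : k ≠ 1 := fun h => hk1' (Subtype.ext h)
  have hx1 : ((x : G) : G ⧸ K) = 1 := by
    apply eq_one_of_forall_irr_eq
    intro ψ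
    have hψ := h (irrQuotientEquiv K ψ) ⟨k, hk1, ?_⟩ x hx
    · rw [irrQuotientEquiv_apply, irrQuotientEquiv_apply] at hψ
      exact hψ
    · rw [irrQuotientEquiv_apply, irrQuotientEquiv_apply,
        (QuotientGroup.eq_one_iff k).mpr hkK, QuotientGroup.mk_one]
  exact (QuotientGroup.eq_one_iff _).mp hx1

/-- A normal subgroup of a finite group all of whose nonidentity elements are conjugate in the
group is an elementary abelian `p`-group. -/
theorem elementaryAbelian_of_conj {N : Subgroup G} [hN : N.Normal] {g₀ : G} (hg₀ : g₀ ≠ 1)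
    (hg₀N : g₀ ∈ N) (hconj : ∀ x ∈ N, x ≠ 1 → IsConj g₀ x) :
    ∃ p : ℕ, p.Prime ∧ orderOf g₀ = p ∧ IsPGroup p N ∧ Cfsg.IsElementaryAbelian p N := by
  have hord : orderOf g₀ ≠ 1 := fun h => hg₀ (orderOf_eq_one_iff.mp h)
  set p := (orderOf g₀).minFac with hp
  have hpp : p.Prime := Nat.minFac_prime hord
  have hpd : p ∣ orderOf g₀ := Nat.minFac_dvd _
  have ho0 : 0 < orderOf g₀ := orderOf_pos g₀
  -- an element of order p in N
  set g₁ := g₀ ^ (orderOf g₀ / p) with hg₁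
  have hg₁o : orderOf g₁ = p := by
    rw [hg₁, orderOf_pow' g₀ (by
      intro h0
      have := Nat.div_mul_cancel hpd
      rw [h0, zero_mul] at this
      omega)]
    rw [Nat.gcd_eq_right (Nat.div_dvd_of_dvd hpd)]
    exact Nat.div_div_self hpd ho0.ne'
  have hg₁N : g₁ ∈ N := N.pow_mem hg₀N _
  have hg₁1 : g₁ ≠ 1 := by
    intro h
    rw [h, orderOf_one] at hg₁o
    exact hpp.one_lt.ne hg₁o
  have hop : orderOf g₀ = p := by
    have hc := hconj g₁ hg₁N hg₁1
    obtain ⟨c, hc⟩ := isConj_iff.mp hc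
    rw [← hg₁o, ← hc, ← MulAut.conj_apply]
    exact (MulEquiv.orderOf_eq (MulAut.conj c) g₀).symm
  have hpow : ∀ a ∈ N, a ^ p = 1 := by
    intro a ha
    by_cases ha1 : a = 1
    · rw [ha1, one_pow]
    · obtain ⟨c, hc⟩ := isConj_iff.mp (hconj a ha ha1)
      rw [← hc, conj_pow, ← hop, pow_orderOf_eq_one, mul_one, mul_inv_cancel]
  have hNp : IsPGroup p N := by
    intro a
    refine ⟨1, ?_⟩
    rw [pow_one]
    apply Subtype.ext
    rw [Subgroup.coe_pow, Subgroup.coe_one]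
    exact hpow a a.2
  refine ⟨p, hpp, hop, hNp, ?_, hpow⟩
  -- commutativity
  have : Fact p.Prime := ⟨hpp⟩
  have : Nontrivial N := ⟨⟨⟨g₀, hg₀N⟩, 1, fun h => hg₀ (congrArg Subtype.val h)⟩⟩
  have := hNp.center_nontrivial
  obtain ⟨z, hz⟩ := exists_ne (1 : Subgroup.center N)
  have hz1 : ((z : N) : G) ≠ 1 := by
    intro h
    apply hz
    apply Subtype.ext
    apply Subtype.ext
    exact h
  have hzc : ∀ b : N, b * (z : N) = (z : N) * b := fun b => Subgroup.mem_center_iff.mp z.2 b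
  have hcentral : ∀ a ∈ N, ∀ b ∈ N, a * b = b * a := by
    intro a ha b hb
    by_cases ha1 : a = 1
    · rw [ha1, one_mul, mul_one]
    · have hc1 := hconj a ha ha1
      have hc2 := hconj (z : N) (z : N).2 hz1
      obtain ⟨c, hc⟩ := isConj_iff.mp (hc2.symm.trans hc1)
      have hb' : c⁻¹ * b * c ∈ N := by
        have := hN.conj_mem b hb c⁻¹
        rwa [inv_inv] at this
      have h1 := congrArg Subtype.val (hzc ⟨c⁻¹ * b * c, hb'⟩)
      simp only [Subgroup.coe_mul] at h1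
      rw [← hc]
      calc c * ((z : N) : G) * c⁻¹ * b = c * (((z : N) : G) * (c⁻¹ * b * c)) * c⁻¹ := by group
        _ = c * ((c⁻¹ * b * c) * ((z : N) : G)) * c⁻¹ := by rw [h1]
        _ = b * (c * ((z : N) : G) * c⁻¹) := by group
  exact ⟨⟨fun a b => Subtype.ext (hcentral a a.2 b b.2)⟩⟩

/-- The structure of the support of an irreducible character that is nonzero on exactly two
classes, stated for a given subgroup that equals the support. -/
theorem gagola_structure (hG : 2 < Nat.card G) (χ : Cfsg.IrrCharacter G)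
    (hχ : Nat.card {C : ConjClasses G // ∃ g ∈ C.carrier, (χ : G → ℂ) g ≠ 0} = 2) :
    ∃ (g₀ : G) (N : Subgroup G) (p : ℕ), N.Normal ∧ p.Prime ∧ g₀ ≠ 1 ∧ g₀ ∈ N ∧ orderOf g₀ = p ∧
      (∀ x, x ∈ N ↔ (χ : G → ℂ) x ≠ 0) ∧
      (∀ x ∈ N, x ≠ 1 → IsConj g₀ x) ∧
      (∀ ψ : Cfsg.IrrCharacter G, ψ ≠ χ → ∀ x ∈ N, (ψ : G → ℂ) x = (ψ : G → ℂ) 1) ∧
      (∀ g, (χ : G → ℂ) g = (χ : G → ℂ) 1 → g = 1) ∧
      (((Subgroup.centralizer ({g₀} : Set G)).index : ℂ) * (χ : G → ℂ) g₀ = - (χ : G → ℂ) 1) ∧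
      (Cfsg.charDegree (χ : G → ℂ) ^ 2 * ((Subgroup.centralizer ({g₀} : Set G)).index + 1)
        = Nat.card G * (Subgroup.centralizer ({g₀} : Set G)).index) ∧
      IsPGroup p N ∧ Cfsg.IsElementaryAbelian p N ∧
      (∀ K : Subgroup G, K.Normal → K ≠ ⊥ → N ≤ K) := by
  obtain ⟨g₀, N, hNn, hg₀, hg₀N, hNsupp, hNconj, hother, hfaith, hR1, horder⟩ :=
    gagola_core hG χ hχ
  obtain ⟨p, hpp, hop, hNp, hel⟩ := elementaryAbelian_of_conj hg₀ hg₀N hNconj
  refine ⟨g₀, N, p, hNn, hpp, hg₀, hg₀N, hop, hNsupp, hNconj, hother, hfaith, hR1, horder, hNp,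
    hel, ?_⟩
  intro K hK hK1
  have := hK
  apply le_of_forall_nonfaithful_trivial _ K hK1
  rintro ψ ⟨k, hk1, hk⟩ x hx
  apply hother ψ _ x hx
  rintro rfl
  exact hk1 (hfaith k hk)

end GagolaN

end Cfsg.Agent.Lib.Helper80
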