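import Mathlib
import Cfsg.Prelude.Def_Blocks
import Cfsg.Prelude.Def_Transfer
import Cfsg.Agent.Lib.Helper80.GagolaN

/-!
# Centralizers and inertia groups for a character vanishing off two classes
-/

set_option autoImplicit false

namespace Cfsg.Agent.Lib.Helper80

open scoped ComplexConjugate

section Abelian

variable {A : Type*} [Group A] [Finite A]

theorem card_conjClasses_of_comm (hA : ∀ a b : A, a * b = b * a) :
    Nat.card (ConjClasses A) = Nat.card A := by
  symm
  apply Nat.card_congr
  refine Equiv.ofBijective ConjClasses.mk ⟨?_, ConjClasses.mk_surjective⟩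
  intro a b h
  obtain ⟨c, hc⟩ := isConj_iff.mp (ConjClasses.mk_eq_mk_iff_isConj.mp h)
  rw [← hc, hA c a, mul_inv_cancel_right]

/-- Irreducible characters of an abelian group have degree one. -/
theorem charDegree_eq_one_of_comm (hA : ∀ a b : A, a * b = b * a) (μ : Cfsg.IrrCharacter A) :
    Cfsg.charDegree (μ : A → ℂ) = 1 := by
  classical
  have := Fintype.ofFinite A
  have := Fintype.ofFinite (Cfsg.IrrCharacter A)
  have h1 := sum_charDegree_sq (G := A)
  have h2 : Nat.card (Cfsg.IrrCharacter A) = Nat.card A := by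
    rw [card_irr_eq_card_conjClasses, card_conjClasses_of_comm hA]
  have h3 : ∑ _χ : Cfsg.IrrCharacter A, 1
      = ∑ χ : Cfsg.IrrCharacter A, Cfsg.charDegree (χ : A → ℂ) ^ 2 := by
    rw [h1, ← h2, Finset.sum_const, Finset.card_univ, Nat.card_eq_fintype_card]
    simp
  have hle : ∀ χ ∈ (Finset.univ : Finset (Cfsg.IrrCharacter A)),
      1 ≤ Cfsg.charDegree (χ : A → ℂ) ^ 2 := fun χ _ =>
    Nat.one_le_pow _ _ (charDegree_pos χ.2)
  have h4 := (Finset.sum_eq_sum_iff_of_le hle).mp h3 μ (Finset.mem_univ _)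
  have h5 : Cfsg.charDegree (μ : A → ℂ) ^ 2 = 1 ^ 2 := by rw [← h4, one_pow]
  exact Nat.pow_left_injective (by norm_num : 2 ≠ 0) h5

end Abelian

section Arith

/-- The arithmetic behind the Sylow property of the centralizers. -/
theorem gagola_arith {n c k d p a : ℕ} (hp : p.Prime) (hn : n = c * k) (hn0 : n ≠ 0)
    (ha : a ≠ 0) (hk : k + 1 = p ^ a) (hord : d ^ 2 * (k + 1) = n * k)
    (hq : ∀ q : ℕ, q.Prime → q ≠ p → q ^ n.factorization q ∣ d) :
    c = p ^ n.factorization p := by
  have hc0 : c ≠ 0 := by rintro rfl; simp at hn; exact hn0 hn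
  have hk0 : k ≠ 0 := by rintro rfl; simp at hn; exact hn0 hn
  have hd0 : d ≠ 0 := by
    rintro rfl
    have : n * k = 0 := by rw [← hord]; simp
    rcases Nat.mul_eq_zero.mp this with h | h
    · exact hn0 h
    · exact hk0 h
  have hpk : ¬ p ∣ k := by
    intro h
    have h1 : p ∣ k + 1 := by rw [hk]; exact dvd_pow_self p ha
    have h2 : p ∣ 1 := (Nat.dvd_add_right h).mp h1
    exact hp.one_lt.ne' (Nat.dvd_one.mp h2)
  have hfn : n.factorization = c.factorization + k.factorization := by
    rw [hn, Nat.factorization_mul hc0 hk0]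
  have hkp : k.factorization p = 0 := Nat.factorization_eq_zero_of_not_dvd hpk
  have hfo : (d ^ 2 * p ^ a).factorization = (c * k * k).factorization := by
    rw [← hk, hord, hn]
  rw [Nat.factorization_mul (pow_ne_zero 2 hd0) (pow_ne_zero a hp.ne_zero),
    Nat.factorization_mul (Nat.mul_ne_zero hc0 hk0) hk0, Nat.factorization_mul hc0 hk0,
    Nat.factorization_pow, Nat.factorization_pow] at hfo
  have hcq : ∀ q : ℕ, q.Prime → q ≠ p → c.factorization q = 0 := by
    intro q hqp hne
    have h1 := DFunLike.congr_fun hfo q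
    simp only [Finsupp.coe_add, Pi.add_apply, Finsupp.coe_smul, Pi.smul_apply, smul_eq_mul] at h1
    rw [hp.factorization, Finsupp.single_apply, if_neg (Ne.symm hne)] at h1
    have h2 := (hqp.pow_dvd_iff_le_factorization hd0).mp (hq q hqp hne)
    have h3 := DFunLike.congr_fun hfn q
    simp only [Finsupp.coe_add, Pi.add_apply] at h3
    omega
  apply Nat.eq_of_factorization_eq hc0 (pow_ne_zero _ hp.ne_zero)
  intro q
  rw [hp.factorization_pow, Finsupp.single_apply]
  by_cases hqp : q.Prime
  · by_cases hne : q = p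
    · subst hne
      rw [if_pos rfl, hfn]
      simp only [Finsupp.coe_add, Pi.add_apply]
      omega
    · rw [if_neg (Ne.symm hne)]
      exact hcq q hqp hne
  · rw [Nat.factorization_eq_zero_of_not_prime _ hqp]
    split_ifs with h
    · exact absurd (h ▸ hp) hqp
    · rfl

end Arith

section Vanish

variable {G : Type*} [Group G] [Finite G]

/-- If a character vanishes on the nonidentity elements of a subgroup, then the order of the
subgroup divides its degree. -/
theorem card_dvd_charDegree_of_vanish {χ : G → ℂ} (hχ : Cfsg.IsCharacter G χ) (Q : Subgroup G)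
    (hQ : ∀ x ∈ Q, x ≠ 1 → χ x = 0) : Nat.card Q ∣ Cfsg.charDegree χ := by
  classical
  have := Fintype.ofFinite Q
  obtain ⟨m, hm⟩ := classInner_nat (isCharacter_restrict (H := Q) hχ) (isCharacter_one (G := Q))
  unfold Cfsg.classInner at hm
  have hsum : ∑ g : Q, χ g * conj (1 : ℂ) = χ 1 := by
    rw [Finset.sum_eq_single (1 : Q)]
    · simp
    · intro b _ hb
      rw [hQ b b.2 (fun h => hb (Subtype.ext h)), zero_mul]
    · intro h; exact absurd (Finset.mem_univ _) h
  rw [hsum, char_one_eq_charDegree hχ] at hm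
  have hQ0 : (Nat.card Q : ℂ) ≠ 0 := by exact_mod_cast (Nat.card_pos (α := Q)).ne'
  have h2 : (Cfsg.charDegree χ : ℂ) = ((Nat.card Q * m : ℕ) : ℂ) := by
    push_cast
    rw [← hm, ← mul_assoc, mul_inv_cancel₀ hQ0, one_mul]
  exact ⟨m, by exact_mod_cast h2⟩

end Vanish

section SylowFacts

variable {G : Type*} [Group G] [Finite G]

/-- If the nonidentity elements of the normal subgroup `N` form a single class of `G`, then the
order of `N` is one more than the size of that class. -/
theorem card_eq_index_add_one {N : Subgroup G} [hN : N.Normal] {g₀ : G} (hg₀ : g₀ ≠ 1)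
    (hg₀N : g₀ ∈ N) (hconj : ∀ x ∈ N, x ≠ 1 → IsConj g₀ x) :
    Nat.card N = (Subgroup.centralizer ({g₀} : Set G)).index + 1 := by
  classical
  have := Fintype.ofFinite G
  have hcf : conjFinset g₀ = (Finset.univ.filter (· ∈ N)).erase 1 := by
    ext x
    rw [mem_conjFinset, Finset.mem_erase, Finset.mem_filter]
    constructor
    · intro hc
      refine ⟨fun h1 => hg₀ ?_, Finset.mem_univ _, ?_⟩
      · rw [h1] at hc
        exact isConj_one_left.mp hc
      · obtain ⟨c, rfl⟩ := isConj_iff.mp hc
        exact hN.conj_mem g₀ hg₀N c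
    · rintro ⟨hx1, -, hxN⟩
      exact hconj x hxN hx1
  have h1 : (1 : G) ∈ Finset.univ.filter (· ∈ N) := by simp [N.one_mem]
  rw [← card_conjFinset, hcf, Finset.card_erase_of_mem h1, Nat.card_eq_fintype_card,
    Fintype.card_subtype]
  have := Finset.card_pos.mpr ⟨1, h1⟩
  omega

theorem index_centralizer_eq_of_isConj {g h : G} (hc : IsConj g h) :
    (Subgroup.centralizer ({g} : Set G)).index = (Subgroup.centralizer ({h} : Set G)).index := by
  classical
  have := Fintype.ofFinite G
  rw [← card_conjFinset, ← card_conjFinset]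
  congr 1
  ext x
  rw [mem_conjFinset, mem_conjFinset]
  exact ⟨fun hx => hc.symm.trans hx, fun hx => hc.trans hx⟩

theorem card_centralizer_eq_of_isConj {g h : G} (hc : IsConj g h) :
    Nat.card (Subgroup.centralizer ({g} : Set G))
      = Nat.card (Subgroup.centralizer ({h} : Set G)) := by
  have h1 := Subgroup.card_mul_index (Subgroup.centralizer ({g} : Set G))
  have h2 := Subgroup.card_mul_index (Subgroup.centralizer ({h} : Set G))
  rw [index_centralizer_eq_of_isConj hc, ← h2] at h1
  exact Nat.eq_of_mul_eq_mul_right (Nat.pos_of_ne_zero Subgroup.index_ne_zero_of_finite) h1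

/-- The centralizer of the class representative has the order of a Sylow `p`-subgroup. -/
theorem gagola_card_centralizer {χ : G → ℂ} (hχ : Cfsg.IsCharacter G χ) {N : Subgroup G}
    [hN : N.Normal] {p : ℕ} [Fact p.Prime] (hNp : IsPGroup p N)
    (hsupp : ∀ x, x ∈ N ↔ χ x ≠ 0) {g₀ : G} (hg₀ : g₀ ≠ 1) (hg₀N : g₀ ∈ N)
    (hconj : ∀ x ∈ N, x ≠ 1 → IsConj g₀ x)
    (horder : Cfsg.charDegree χ ^ 2 * ((Subgroup.centralizer ({g₀} : Set G)).index + 1)
      = Nat.card G * (Subgroup.centralizer ({g₀} : Set G)).index) :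
    Nat.card (Subgroup.centralizer ({g₀} : Set G)) = p ^ (Nat.card G).factorization p := by
  have hp : p.Prime := Fact.out
  have hcard := card_eq_index_add_one hg₀ hg₀N hconj
  obtain ⟨a, ha⟩ := IsPGroup.iff_card.mp hNp
  have ha0 : a ≠ 0 := by
    rintro rfl
    rw [pow_zero] at ha
    have := Subgroup.eq_bot_of_card_eq N ha
    rw [this, Subgroup.mem_bot] at hg₀N
    exact hg₀ hg₀N
  apply gagola_arith hp (Subgroup.card_mul_index _).symm Nat.card_pos.ne' ha0
    (by rw [← hcard, ha]) horder
  intro q hq hne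
  have : Fact q.Prime := ⟨hq⟩
  obtain Q : Sylow q G := default
  rw [← Sylow.card_eq_multiplicity Q]
  apply card_dvd_charDegree_of_vanish hχ
  intro x hxQ hx1
  by_contra hne0
  have hxN := (hsupp x).mpr hne0
  have hdisj := IsPGroup.disjoint_of_ne q p hne _ _ Q.isPGroup' hNp
  exact hx1 (Subgroup.disjoint_def.mp hdisj hxQ hxN)

/-- The stabilizer of a function on a normal subgroup under conjugation. -/
def conjStabilizer (N : Subgroup G) [N.Normal] (f : N → ℂ) : Subgroup G where
  carrier := {g | ∀ n : N, f (MulAut.conjNormal g n) = f n}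
  one_mem' := by
    intro n
    rw [map_one, MulAut.one_apply]
  mul_mem' := by
    intro g h hg hh n
    rw [map_mul, MulAut.mul_apply, hg, hh]
  inv_mem' := by
    intro g hg n
    have := hg (MulAut.conjNormal g⁻¹ n)
    rw [← MulAut.mul_apply, ← map_mul, mul_inv_cancel, map_one, MulAut.one_apply] at this
    exact this.symm

theorem mem_conjStabilizer (N : Subgroup G) [N.Normal] (f : N → ℂ) (g : G) :
    g ∈ conjStabilizer N f ↔ ∀ n : N, f (MulAut.conjNormal g n) = f n := Iff.rfl

theorem mem_conjStabilizer' (N : Subgroup G) [N.Normal] (f : N → ℂ) (g : G) :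
    g ∈ conjStabilizer N f ↔ ∀ n n' : N, (n' : G) = g * n * g⁻¹ → f n' = f n := by
  rw [mem_conjStabilizer]
  constructor
  · intro h n n' hn'
    have : n' = MulAut.conjNormal g n := Subtype.ext (by rw [MulAut.conjNormal_apply]; exact hn')
    rw [this, h]
  · intro h n
    exact h n _ (MulAut.conjNormal_apply g n)

/-- The inertia group of a nontrivial irreducible character of the abelian normal subgroup `N`
has index equal to the class size. -/
theorem gagola_card_inertia {N : Subgroup G} [hN : N.Normal] (hNc : ∀ a b : N, a * b = b * a)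
    {g₀ : G} (hg₀ : g₀ ≠ 1) (hg₀N : g₀ ∈ N) (hconj : ∀ x ∈ N, x ≠ 1 → IsConj g₀ x)
    (μ : Cfsg.IrrCharacter N) (hμ : (μ : N → ℂ) ≠ fun _ => 1) :
    Nat.card (conjStabilizer N (μ : N → ℂ)) * (Subgroup.centralizer ({g₀} : Set G)).index
      = Nat.card G := by
  classical
  have := Fintype.ofFinite G
  have := Fintype.ofFinite N
  set T := conjStabilizer N (μ : N → ℂ) with hTdef
  set k := (Subgroup.centralizer ({g₀} : Set G)).index with hk
  have hcard : Nat.card N = k + 1 := card_eq_index_add_one hg₀ hg₀N hconj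
  have hNne : (Nat.card N : ℂ) ≠ 0 := by exact_mod_cast (Nat.card_pos (α := N)).ne'
  have hμc := isCharacter_of_isIrrCharacter μ.2
  have hμ1 : (μ : N → ℂ) 1 = 1 := by
    rw [char_one_eq_charDegree hμc, charDegree_eq_one_of_comm hNc μ, Nat.cast_one]
  have hμtriv : μ ≠ trivIrr N := by
    intro h
    apply hμ
    rw [h]
    rfl
  have hsum0 : ∑ n : N, (μ : N → ℂ) n = 0 := by
    have h1 := classInner_irr μ (trivIrr N)
    rw [if_neg hμtriv] at h1
    unfold Cfsg.classInner at h1
    simp only [trivIrr_apply, map_one, mul_one] at h1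
    rcases mul_eq_zero.mp h1 with h | h
    · exact absurd (inv_eq_zero.mp h) hNne
    · exact h
  have hsum0' : ∑ n : N, conj ((μ : N → ℂ) n) = 0 := by
    rw [← map_sum, hsum0, map_zero]
  set F : N → ℂ := fun n => ∑ g : G, (μ : N → ℂ) (MulAut.conjNormal g n) with hF
  have hF1 : F 1 = (Nat.card G : ℂ) := by
    simp only [hF, map_one, hμ1, Finset.sum_const, Finset.card_univ, nsmul_eq_mul, mul_one,
      Nat.card_eq_fintype_card]
  set n₀ : N := ⟨g₀, hg₀N⟩ with hn₀
  have hFc : ∀ n : N, n ≠ 1 → F n = F n₀ := by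
    intro n hn
    have hc := hconj n n.2 (fun h => hn (Subtype.ext h))
    obtain ⟨c, hc⟩ := isConj_iff.mp hc
    have hn' : n = MulAut.conjNormal c n₀ :=
      Subtype.ext (by rw [MulAut.conjNormal_apply]; exact hc.symm)
    simp only [hF]
    rw [hn']
    symm
    refine Fintype.sum_equiv (Equiv.mulRight c⁻¹) _ _ (fun g => ?_)
    rw [Equiv.coe_mulRight, ← MulAut.mul_apply, ← map_mul, inv_mul_cancel_right]
  have hFsum : ∑ n : N, F n = 0 := by
    simp only [hF]
    rw [Finset.sum_comm]
    apply Finset.sum_eq_zero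
    intro g _
    rw [← hsum0]
    exact Fintype.sum_equiv (MulAut.conjNormal g).toEquiv _ _ (fun n => rfl)
  have hFn₀ : (k : ℂ) * F n₀ = - (Nat.card G : ℂ) := by
    rw [← Finset.add_sum_erase _ _ (Finset.mem_univ (1 : N)),
      Finset.sum_congr rfl (fun n hn => hFc n (Finset.ne_of_mem_erase hn)), Finset.sum_const,
      Finset.card_erase_of_mem (Finset.mem_univ _), Finset.card_univ,
      ← Nat.card_eq_fintype_card, hcard, Nat.add_sub_cancel, hF1, nsmul_eq_mul] at hFsum
    linear_combination hFsum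
  have hinner : ∀ g : G, Cfsg.classInner (fun n : N => (μ : N → ℂ) (MulAut.conjNormal g n))
      (μ : N → ℂ) = if g ∈ T then 1 else 0 := by
    intro g
    rw [classInner_irr_fun (isIrrCharacter_comp_mulEquiv (MulAut.conjNormal g) μ.2) μ.2]
    refine if_congr ?_ rfl rfl
    rw [hTdef, mem_conjStabilizer]
    exact funext_iff
  have hTcard : (Nat.card T : ℂ) = ∑ g : G, if g ∈ T then (1 : ℂ) else 0 := by
    rw [Finset.sum_boole, Nat.card_eq_fintype_card, Fintype.card_subtype]
  have hmain : (Nat.card N : ℂ) * (Nat.card T : ℂ)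
      = (Nat.card G : ℂ) - F n₀ := by
    rw [hTcard]
    simp_rw [← hinner]
    unfold Cfsg.classInner
    rw [← Finset.mul_sum, ← mul_assoc, mul_inv_cancel₀ hNne, one_mul, Finset.sum_comm]
    simp_rw [← Finset.sum_mul]
    change ∑ n : N, F n * conj ((μ : N → ℂ) n) = _
    rw [← Finset.add_sum_erase _ _ (Finset.mem_univ (1 : N)), hF1, hμ1, map_one, mul_one,
      Finset.sum_congr rfl (fun n hn => by rw [hFc n (Finset.ne_of_mem_erase hn)]),
      ← Finset.mul_sum]
    have h2 : ∑ n ∈ Finset.univ.erase (1 : N), conj ((μ : N → ℂ) n) = -1 := by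
      rw [← Finset.add_sum_erase _ _ (Finset.mem_univ (1 : N)), hμ1, map_one] at hsum0'
      linear_combination hsum0'
    rw [h2]
    ring
  have hk0 : (k : ℂ) ≠ 0 := by
    have : 0 < k := Nat.pos_of_ne_zero Subgroup.index_ne_zero_of_finite
    exact_mod_cast this.ne'
  have hfinal : ((Nat.card T * k : ℕ) : ℂ) = (Nat.card G : ℂ) := by
    have hN' : (Nat.card N : ℂ) = (k : ℂ) + 1 := by rw [hcard]; push_cast; rfl
    rw [hN'] at hmain
    have hk1 : (k : ℂ) + 1 ≠ 0 := by rw [← hN']; exact hNne
    push_cast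
    apply mul_left_cancel₀ hk1
    linear_combination (k : ℂ) * hmain - hFn₀
  exact_mod_cast hfinal

end SylowFacts

end Cfsg.Agent.Lib.Helper80
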