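import Mathlib
import Cfsg.Prelude.Def_Characters
import Cfsg.Prelude.Def_Blocks
import Cfsg.Prelude.Def_Transfer
import Cfsg.Agent.Lib.Helper80.ItoConverse
import Cfsg.Agent.Lib.Helper80.Schur
import Cfsg.Agent.Lib.Helper80.Gagola
import Cfsg.Agent.Lib.Helper80.GagolaSylow
import Cfsg.Agent.Lib.Helper15.LinChar
import Cfsg.Agent.Lib.Helper47.Frat
import Cfsg.Agent.Lib.Helper2.FrattiniP

/-!
# Groups with exactly one irreducible character of degree divisible by `p`

Central characters, the "unique character not containing `M` in its kernel" lemmas, and the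
nilpotent case: such a group is an extraspecial `2`-group.
-/

set_option autoImplicit false
set_option linter.style.haveILetI false

open scoped ComplexConjugate commutatorElement

namespace Cfsg.Agent.Lib.Helper80

universe u

section Central

variable {G : Type u} [Group G] [Finite G]

omit [Finite G] in
/-- Schur: a central element acts on an irreducible character by a root of unity. -/
theorem central_char_mul {χ : G → ℂ} (hχ : Cfsg.IsIrrCharacter G χ) {z : G}
    (hz : z ∈ Subgroup.center G) :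
    ∃ ω : ℂ, ω ^ orderOf z = 1 ∧ ∀ g, χ (z * g) = ω * χ g := by
  obtain ⟨n, ρ, hirr, rfl⟩ := hχ
  haveI := hirr
  have hT : ∀ g, ρ z * ρ g = ρ g * ρ z := by
    intro g
    rw [← map_mul, ← map_mul, (Subgroup.mem_center_iff.mp hz g)]
  obtain ⟨c, hc⟩ := schur_scalar ρ (ρ z) hT
  refine ⟨c, ?_, fun g => ?_⟩
  · have h1 : (ρ z) ^ orderOf z = 1 := by rw [← map_pow, pow_orderOf_eq_one, map_one]
    rw [hc, smul_pow, one_pow] at h1
    have := nontrivial_of_isIrreducible ρ
    obtain ⟨v, hv⟩ := exists_ne (0 : Fin n → ℂ)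
    have h2 := congrArg (fun T : Module.End ℂ (Fin n → ℂ) => T v) h1
    simp only [LinearMap.smul_apply, Module.End.one_apply] at h2
    have h3 : (c ^ orderOf z - 1) • v = 0 := by rw [sub_smul, h2, one_smul, sub_self]
    rcases smul_eq_zero.mp h3 with h | h
    · exact sub_eq_zero.mp h
    · exact absurd h hv
  · show ρ.character (z * g) = c * ρ.character g
    simp only [Representation.character]
    rw [map_mul, hc, smul_mul_assoc, one_mul, map_smul, smul_eq_mul]

/-- An irreducible character has absolute value `χ(1)` on the centre. -/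
theorem norm_char_central {χ : G → ℂ} (hχ : Cfsg.IsIrrCharacter G χ) {z : G}
    (hz : z ∈ Subgroup.center G) : ‖χ z‖ = ‖χ 1‖ := by
  obtain ⟨ω, hω, h⟩ := central_char_mul hχ hz
  have h1 := h 1
  rw [mul_one] at h1
  rw [h1, norm_mul, Complex.norm_eq_one_of_pow_eq_one hω (orderOf_pos z).ne', one_mul]

end Central

section Unique

variable {G : Type u} [Group G] [Finite G]

/-- If `χ₀` is the only irreducible character not having the normal subgroup `M` in its kernel,
then `χ₀(1)² + |G : M| = |G|`. -/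
theorem charDegree_sq_add_index_of_unique (M : Subgroup G) [M.Normal] (χ₀ : Cfsg.IrrCharacter G)
    (h₀ : ¬ ∀ x ∈ M, (χ₀ : G → ℂ) x = (χ₀ : G → ℂ) 1)
    (huniq : ∀ χ : Cfsg.IrrCharacter G, χ ≠ χ₀ → ∀ x ∈ M, (χ : G → ℂ) x = (χ : G → ℂ) 1) :
    Cfsg.charDegree (χ₀ : G → ℂ) ^ 2 + M.index = Nat.card G := by
  classical
  haveI := Fintype.ofFinite G
  haveI : Fintype (Cfsg.IrrCharacter G) := Fintype.ofFinite _
  have h1 := sum_charDegree_sq (G := G)
  have h2 := sum_charDegree_sq_filter_ker (G := G) M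
  have hfilter : Finset.univ.filter (fun χ : Cfsg.IrrCharacter G =>
      ∀ x ∈ M, (χ : G → ℂ) x = (χ : G → ℂ) 1) = Finset.univ.erase χ₀ := by
    ext χ
    simp only [Finset.mem_filter, Finset.mem_univ, true_and, Finset.mem_erase, and_true]
    constructor
    · intro h hne; rw [hne] at h; exact h₀ h
    · intro hne; exact huniq χ hne
  rw [hfilter] at h2
  rw [← h1, ← h2]
  exact Finset.add_sum_erase Finset.univ
    (fun χ : Cfsg.IrrCharacter G => Cfsg.charDegree (χ : G → ℂ) ^ 2) (Finset.mem_univ χ₀)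

/-- If `χ₀` is the only irreducible character not having the normal subgroup `M` in its kernel,
then `χ₀` vanishes off `M`. -/
theorem eq_zero_of_unique (M : Subgroup G) [M.Normal] (χ₀ : Cfsg.IrrCharacter G)
    (h₀ : ¬ ∀ x ∈ M, (χ₀ : G → ℂ) x = (χ₀ : G → ℂ) 1)
    (huniq : ∀ χ : Cfsg.IrrCharacter G, χ ≠ χ₀ → ∀ x ∈ M, (χ : G → ℂ) x = (χ : G → ℂ) 1)
    {g : G} (hg : g ∉ M) : (χ₀ : G → ℂ) g = 0 := by
  classical
  haveI := Fintype.ofFinite G
  haveI : Fintype (Cfsg.IrrCharacter G) := Fintype.ofFinite _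
  have hfilter : Finset.univ.filter (fun χ : Cfsg.IrrCharacter G =>
      ∀ x ∈ M, (χ : G → ℂ) x = (χ : G → ℂ) 1) = Finset.univ.erase χ₀ := by
    ext χ
    simp only [Finset.mem_filter, Finset.mem_univ, true_and, Finset.mem_erase, and_true]
    constructor
    · intro h hne; rw [hne] at h; exact h₀ h
    · intro hne; exact huniq χ hne
  have hg1 : ¬ IsConj g 1 := fun h => hg (by rw [isConj_one_left.mp h]; exact M.one_mem)
  have h1 := second_orthogonality_of_not_isConj (G := G) hg1
  have h2 := second_orthogonality_filter_ker (G := G) M g 1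
  have hnc : ¬ IsConj (g : G ⧸ M) ((1 : G) : G ⧸ M) := by
    intro h
    rw [QuotientGroup.mk_one, isConj_one_left] at h
    exact hg ((QuotientGroup.eq_one_iff g).mp h)
  rw [if_neg hnc, hfilter] at h2
  rw [← Finset.add_sum_erase Finset.univ
    (fun χ : Cfsg.IrrCharacter G => (χ : G → ℂ) g * conj ((χ : G → ℂ) 1)) (Finset.mem_univ χ₀),
    h2, add_zero] at h1
  rcases mul_eq_zero.mp h1 with h | h
  · exact h
  · exfalso
    exact char_one_ne_zero χ₀.2 ((map_eq_zero _).mp h)

end Unique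

section SylowKer

variable {G : Type u} [Group G] [Finite G]

/-- For a normal Sylow `p`-subgroup `P`: `p ∣ χ(1)` iff `P'` is not in the kernel of `χ`. -/
theorem dvd_charDegree_iff_of_normal_sylow {p : ℕ} [Fact p.Prime] (P : Sylow p G)
    [hP : (P : Subgroup G).Normal] (χ : Cfsg.IrrCharacter G) :
    p ∣ Cfsg.charDegree (χ : G → ℂ) ↔
      ¬ ∀ x ∈ ⁅(P : Subgroup G), (P : Subgroup G)⁆, (χ : G → ℂ) x = (χ : G → ℂ) 1 := by
  classical
  have hp : p.Prime := Fact.out
  haveI := Fintype.ofFinite G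
  constructor
  · intro hdvd hker
    haveI : (⁅(P : Subgroup G), (P : Subgroup G)⁆).Normal := Subgroup.commutator_normal _ _
    obtain ⟨ψ, hψ, hψχ⟩ :=
      exists_isIrrCharacter_deflate ⁅(P : Subgroup G), (P : Subgroup G)⁆ χ.2 hker
    have hsurj := QuotientGroup.mk'_surjective ⁅(P : Subgroup G), (P : Subgroup G)⁆
    have hnd := not_dvd_charDegree_of_sylow_normal_comm p (P.mapSurjective hsurj)
      (by rw [Sylow.coe_mapSurjective]; exact Subgroup.Normal.map hP _ hsurj)
      (by
        rw [Sylow.coe_mapSurjective]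
        rintro _ ⟨a, ha, rfl⟩ _ ⟨b, hb, rfl⟩
        rw [← map_mul, ← map_mul]
        apply (QuotientGroup.mk'_eq_mk' _).mpr
        refine ⟨(a * b)⁻¹ * (b * a), ?_, by group⟩
        have h1 : ⁅b⁻¹, a⁻¹⁆ ∈ ⁅(P : Subgroup G), (P : Subgroup G)⁆ :=
          Subgroup.commutator_mem_commutator (inv_mem hb) (inv_mem ha)
        have h2 : (a * b)⁻¹ * (b * a) = ⁅b⁻¹, a⁻¹⁆ := by
          rw [commutatorElement_def]; group
        rw [h2]
        exact h1) ⟨ψ, hψ⟩
    apply hnd
    have h3 : Cfsg.charDegree ψ = Cfsg.charDegree (χ : G → ℂ) := by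
      unfold Cfsg.charDegree
      rw [← hψχ 1]
      rfl
    show p ∣ Cfsg.charDegree ψ
    rwa [h3]
  · intro hker
    by_contra hnd
    apply hker
    haveI : Fintype (P : Subgroup G) := Fintype.ofFinite _
    haveI : Fintype (Cfsg.IrrCharacter (P : Subgroup G)) := Fintype.ofFinite _
    obtain ⟨m, hm, hexp⟩ := character_expansion
      (isCharacter_restrict (P : Subgroup G) (isCharacter_of_isIrrCharacter χ.2))
    obtain ⟨k, hk⟩ := IsPGroup.iff_card.mp P.2
    -- constituents are linear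
    have hlin : ∀ μ : Cfsg.IrrCharacter (P : Subgroup G), m μ ≠ 0 →
        (μ : ↥(P : Subgroup G) → ℂ) 1 = 1 := by
      intro μ hμ
      have hne : Cfsg.classInner (fun n : (P : Subgroup G) => (χ : G → ℂ) n)
          (μ : ↥(P : Subgroup G) → ℂ) ≠ 0 := by
        rw [hm μ]; exact_mod_cast hμ
      obtain ⟨e, he⟩ := charDegree_eq_mul_index_inertia (P : Subgroup G) χ.2 μ.2 hne
      have h2 := charDegree_dvd_card μ.2
      rw [hk] at h2
      obtain ⟨j, -, hj⟩ := (Nat.dvd_prime_pow hp).mp h2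
      rw [char_one_eq_charDegree (isCharacter_of_isIrrCharacter μ.2)]
      rcases Nat.eq_zero_or_pos j with rfl | hjpos
      · rw [hj]; simp
      · exfalso
        apply hnd
        rw [he, hj]
        exact Dvd.dvd.mul_left (dvd_pow_self p hjpos.ne') _
    -- so `χ` is trivial on commutators of `P`
    have hcomm : ∀ a ∈ (P : Subgroup G), ∀ b ∈ (P : Subgroup G),
        (χ : G → ℂ) ⁅a, b⁆ = (χ : G → ℂ) 1 := by
      intro a ha b hb
      have h1 := congrFun hexp (⁅(⟨a, ha⟩ : (P : Subgroup G)), ⟨b, hb⟩⁆)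
      have h2 := congrFun hexp 1
      simp only [Finset.sum_apply, Pi.smul_apply, smul_eq_mul] at h1 h2
      have h3 : ∀ μ : Cfsg.IrrCharacter (P : Subgroup G),
          (m μ : ℂ) * (μ : ↥(P : Subgroup G) → ℂ) ⁅(⟨a, ha⟩ : (P : Subgroup G)), ⟨b, hb⟩⁆
            = (m μ : ℂ) * (μ : ↥(P : Subgroup G) → ℂ) 1 := by
        intro μ
        by_cases hμ : m μ = 0
        · simp [hμ]
        · have hμc := isCharacter_of_isIrrCharacter μ.2
          have hμ1 := hlin μ hμ
          congr 1
          rw [commutatorElement_def, Helper15.linChar_mul hμc hμ1, Helper15.linChar_mul hμc hμ1,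
            Helper15.linChar_mul hμc hμ1, Helper15.linChar_inv hμc hμ1,
            Helper15.linChar_inv hμc hμ1, hμ1]
          have hane := Helper15.linChar_ne_zero hμc hμ1 ⟨a, ha⟩
          have hbne := Helper15.linChar_ne_zero hμc hμ1 ⟨b, hb⟩
          field_simp
      rw [Finset.sum_congr rfl (fun μ _ => h3 μ), ← h2] at h1
      exact h1
    intro x hx
    have hle : ⁅(P : Subgroup G), (P : Subgroup G)⁆ ≤ irrKer χ := by
      rw [Subgroup.commutator_le]
      intro a ha b hb
      rw [mem_irrKer]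
      exact hcomm a ha b hb
    exact (mem_irrKer χ x).mp (hle hx)

end SylowKer

section Nilpotent

variable {G : Type u} [Group G] [Finite G]

omit [Finite G] in
/-- In a group of order two any two nonidentity elements agree. -/
theorem eq_of_card_two {H : Subgroup G} (hH : Nat.card H = 2) {a b : G} (ha : a ∈ H) (hb : b ∈ H)
    (ha1 : a ≠ 1) (hb1 : b ≠ 1) : a = b := by
  obtain ⟨y, -, hy⟩ := (Nat.card_eq_two_iff' (1 : H)).mp hH
  have h1 := hy ⟨a, ha⟩ (fun h => ha1 (by simpa using congrArg Subtype.val h))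
  have h2 := hy ⟨b, hb⟩ (fun h => hb1 (by simpa using congrArg Subtype.val h))
  exact congrArg Subtype.val (h1.trans h2.symm)

/-- A finite nilpotent group with exactly one irreducible character of degree divisible by `p`
is an extraspecial `2`-group (and `p = 2`). -/
theorem extraspecial_of_unique_dvd [Group.IsNilpotent G] (p : ℕ) [Fact p.Prime]
    (h : Nat.card {χ : Cfsg.IrrCharacter G // p ∣ Cfsg.charDegree (χ : G → ℂ)} = 1) :
    p = 2 ∧ Cfsg.IsExtraspecial 2 G := by
  classical
  have hp : p.Prime := Fact.out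
  haveI := Fintype.ofFinite G
  obtain ⟨hsub, ⟨⟨χ₀, hχ₀⟩⟩⟩ := Nat.card_eq_one_iff_unique.mp h
  let P : Sylow p G := default
  haveI hPn : (P : Subgroup G).Normal := inferInstance
  set M : Subgroup G := ⁅(P : Subgroup G), (P : Subgroup G)⁆ with hM
  haveI hMn : M.Normal := Subgroup.commutator_normal _ _
  have hMP : M ≤ (P : Subgroup G) := Subgroup.commutator_le_right _ _
  have h₀ : ¬ ∀ x ∈ M, (χ₀ : G → ℂ) x = (χ₀ : G → ℂ) 1 :=
    (dvd_charDegree_iff_of_normal_sylow P χ₀).mp hχ₀
  have huniq : ∀ χ : Cfsg.IrrCharacter G, χ ≠ χ₀ →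
      ∀ x ∈ M, (χ : G → ℂ) x = (χ : G → ℂ) 1 := by
    intro χ hne
    by_contra hcon
    have hd := (dvd_charDegree_iff_of_normal_sylow P χ).mpr hcon
    have := hsub.elim (⟨χ, hd⟩ : {χ : Cfsg.IrrCharacter G // p ∣ Cfsg.charDegree (χ : G → ℂ)})
      ⟨χ₀, hχ₀⟩
    exact hne (congrArg Subtype.val this)
  obtain ⟨x₀, hx₀M, hx₀⟩ : ∃ x ∈ M, (χ₀ : G → ℂ) x ≠ (χ₀ : G → ℂ) 1 := by
    by_contra hcon
    push Not at hcon
    exact h₀ hcon
  have hx₀1 : x₀ ≠ 1 := fun h => hx₀ (by rw [h])
  -- `G` is a `p`-group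
  have hprime : ∀ {q : ℕ}, q.Prime → q ∣ Nat.card G → q = p := by
    intro q hq hqd
    by_contra hne
    haveI : Fact q.Prime := ⟨hq⟩
    let Q : Sylow q G := default
    haveI hQn : (Q : Subgroup G).Normal := inferInstance
    have hdisj : Disjoint (P : Subgroup G) (Q : Subgroup G) :=
      IsPGroup.disjoint_of_ne p q (fun h => hne h.symm) _ _ P.2 Q.2
    have hQbot : (Q : Subgroup G) ≠ ⊥ := Q.ne_bot_of_dvd_card hqd
    obtain ⟨y, hyQ, hy1⟩ := ((Q : Subgroup G).bot_or_exists_ne_one).resolve_left hQbot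
    have hyM : y ∉ M := fun hy =>
      hy1 (Subgroup.disjoint_def.mp hdisj (hMP hy) hyQ)
    have hx₀Q : x₀ ∉ (Q : Subgroup G) := fun hx =>
      hx₀1 (Subgroup.disjoint_def.mp hdisj (hMP hx₀M) hx)
    have hy0 := eq_zero_of_unique M χ₀ h₀ huniq hyM
    -- a character of `G ⧸ Q` not trivial at `x₀`
    have hx₀q : (x₀ : G ⧸ (Q : Subgroup G)) ≠ 1 := fun h => hx₀Q ((QuotientGroup.eq_one_iff x₀).mp h)
    obtain ⟨ψ, hψ⟩ : ∃ ψ : Cfsg.IrrCharacter (G ⧸ (Q : Subgroup G)),
        (ψ : G ⧸ (Q : Subgroup G) → ℂ) (x₀ : G ⧸ (Q : Subgroup G)) ≠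
          (ψ : G ⧸ (Q : Subgroup G) → ℂ) 1 := by
      by_contra hcon
      push Not at hcon
      exact hx₀q (eq_one_of_forall_irr_eq hcon)
    have hχ : (⟨_, isIrrCharacter_inflate (Q : Subgroup G) ψ.2⟩ : Cfsg.IrrCharacter G) = χ₀ := by
      by_contra hne'
      exact hψ (huniq _ hne' x₀ hx₀M)
    have h1 : (χ₀ : G → ℂ) y = (χ₀ : G → ℂ) 1 := by
      rw [← hχ]
      show (ψ : G ⧸ (Q : Subgroup G) → ℂ) (y : G ⧸ (Q : Subgroup G)) =
        (ψ : G ⧸ (Q : Subgroup G) → ℂ) ((1 : G) : G ⧸ (Q : Subgroup G))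
      rw [(QuotientGroup.eq_one_iff y).mpr hyQ, QuotientGroup.mk_one]
    rw [hy0] at h1
    exact char_one_ne_zero χ₀.2 h1.symm
  obtain ⟨n, hcard⟩ : ∃ n : ℕ, Nat.card G = p ^ n :=
    ⟨_, Nat.eq_prime_pow_of_unique_prime_dvd Nat.card_pos.ne' hprime⟩
  have hG : IsPGroup p G := IsPGroup.of_card hcard
  have hPtop : (P : Subgroup G) = ⊤ := by
    have := P.3 (Q := ⊤) (hG.to_subgroup ⊤) le_top
    exact this.symm
  have hMcomm : M = commutator G := by rw [hM, hPtop, commutator_def]
  -- arithmetic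
  have hU1 := charDegree_sq_add_index_of_unique M χ₀ h₀ huniq
  have hMbot : M ≠ ⊥ := fun h => hx₀1 (by rw [h] at hx₀M; exact Subgroup.mem_bot.mp hx₀M)
  obtain ⟨c, hc⟩ := IsPGroup.iff_card.mp (hG.to_subgroup M)
  have hc0 : c ≠ 0 := by
    rintro rfl
    rw [pow_zero] at hc
    exact hMbot (Subgroup.card_eq_one.mp hc)
  have hdd := charDegree_dvd_card χ₀.2
  rw [hcard] at hdd
  obtain ⟨a, -, ha⟩ := (Nat.dvd_prime_pow hp).mp hdd
  have hidx : M.index * Nat.card M = Nat.card G := Subgroup.index_mul_card M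
  have hidxpos : 0 < M.index := Nat.pos_of_ne_zero Subgroup.index_ne_zero_of_finite
  have hpc1 : 1 ≤ p ^ c := Nat.one_le_pow _ _ hp.pos
  have hkey : Cfsg.charDegree (χ₀ : G → ℂ) ^ 2 = M.index * (p ^ c - 1) := by
    have h1 : M.index * (p ^ c - 1) + M.index = M.index * p ^ c := by
      rw [Nat.mul_sub, mul_one, Nat.sub_add_cancel (Nat.le_mul_of_pos_right _ (by omega))]
    have h2 : Cfsg.charDegree (χ₀ : G → ℂ) ^ 2 + M.index = M.index * p ^ c := by
      rw [hU1, ← hidx, hc]
    omega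
  have hdvd : p ^ c - 1 ∣ p ^ (2 * a) := by
    rw [pow_mul', ← ha, hkey]
    exact Dvd.intro_left _ rfl
  obtain ⟨j, -, hj⟩ := (Nat.dvd_prime_pow hp).mp hdvd
  have hj0 : j = 0 := by
    by_contra hj0
    have h1 : p ∣ p ^ c - 1 := by rw [hj]; exact dvd_pow_self p hj0
    have h2 : p ∣ p ^ c := dvd_pow_self p hc0
    have h3 : p ∣ 1 := by
      have := (Nat.dvd_sub h2 h1)
      rwa [Nat.sub_sub_self hpc1] at this
    exact hp.one_lt.ne' (Nat.dvd_one.mp h3)
  rw [hj0, pow_zero] at hj
  have hpc2 : p ^ c = 2 := by omega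
  have hp2 : p = 2 := by
    have : p ∣ 2 := by rw [← hpc2]; exact dvd_pow_self p hc0
    exact (Nat.prime_dvd_prime_iff_eq hp Nat.prime_two).mp this
  have hMcard : Nat.card M = 2 := by rw [hc, hpc2]
  -- the centre
  have hMZ : M ≤ Subgroup.center G := by
    intro x hx
    rw [Subgroup.mem_center_iff]
    intro g
    by_cases hx1 : x = 1
    · rw [hx1]; simp
    · have h1 : g * x * g⁻¹ ∈ M := hMn.conj_mem x hx g
      have h2 : g * x * g⁻¹ ≠ 1 := by
        intro h
        apply hx1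
        have : x = g⁻¹ * (g * x * g⁻¹) * g := by group
        rw [this, h]; group
      have h3 := eq_of_card_two hMcard h1 hx h2 hx1
      calc g * x = g * x * g⁻¹ * g := by group
        _ = x * g := by rw [h3]
  have hZM : Subgroup.center G ≤ M := by
    intro z hz
    by_contra hzM
    have h1 := eq_zero_of_unique M χ₀ h₀ huniq hzM
    have h2 := norm_char_central χ₀.2 hz
    rw [h1, norm_zero] at h2
    exact char_one_ne_zero χ₀.2 (norm_eq_zero.mp h2.symm)
  have hZ : Subgroup.center G = M := le_antisymm hZM hMZ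
  have hG2 : IsPGroup 2 G := hp2 ▸ hG
  refine ⟨hp2, ⟨hG2, ?_, ?_⟩, ?_⟩
  · -- Frattini subgroup
    haveI : Fact (Nat.Prime 2) := ⟨Nat.prime_two⟩
    apply le_antisymm
    · have h1 := Helper47.frattini_le_ker_of_elementary (p := 2)
        (QuotientGroup.mk' (Subgroup.center G))
        (fun u v => by
          rw [← map_mul, ← map_mul]
          apply (QuotientGroup.mk'_eq_mk' _).mpr
          refine ⟨(u * v)⁻¹ * (v * u), ?_, by group⟩
          rw [hZ, hMcomm, commutator_def]
          have h2 : (u * v)⁻¹ * (v * u) = ⁅v⁻¹, u⁻¹⁆ := by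
            rw [commutatorElement_def]; group
          rw [h2]
          exact Subgroup.commutator_mem_commutator (Subgroup.mem_top _) (Subgroup.mem_top _))
        (fun u => by
          rw [← map_pow]
          apply (QuotientGroup.eq_one_iff _).mpr
          rw [Subgroup.mem_center_iff]
          intro g
          -- `c = ⁅u, g⁆` is central of order at most two
          have hcM : ⁅u, g⁆ ∈ M := by
            rw [hMcomm, commutator_def]
            exact Subgroup.commutator_mem_commutator (Subgroup.mem_top _) (Subgroup.mem_top _)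
          have hcz := Subgroup.mem_center_iff.mp (hMZ hcM)
          have hc2 : ⁅u, g⁆ * ⁅u, g⁆ = 1 := by
            have h3 : (⟨⁅u, g⁆, hcM⟩ : M) ^ Nat.card M = 1 := pow_card_eq_one'
            rw [hMcard] at h3
            have h4 := congrArg Subtype.val h3
            simpa [pow_two] using h4
          have hug : u * g = ⁅u, g⁆ * (g * u) := by
            rw [commutatorElement_def]; group
          calc g * u ^ 2 = g * u * u := by rw [pow_two, mul_assoc]
            _ = ⁅u, g⁆ * ⁅u, g⁆ * (g * u * u) := by rw [hc2, one_mul]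
            _ = ⁅u, g⁆ * (⁅u, g⁆ * (g * u)) * u := by group
            _ = ⁅u, g⁆ * (u * g) * u := by rw [← hug]
            _ = u * (⁅u, g⁆ * (g * u)) := by
                rw [← mul_assoc, ← hcz u]; group
            _ = u * (u * g) := by rw [← hug]
            _ = u ^ 2 * g := by rw [pow_two, mul_assoc])
      rwa [QuotientGroup.ker_mk'] at h1
    · rw [hZ, hMcomm]
      exact Helper2.commutator_le_frattini hG2
  · rw [hZ, hMcomm]
  · rw [hZ, hMcard]

end Nilpotent

section Extraspecial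

variable {G : Type u} [Group G] [Finite G]

/-- In a group whose centre has order two and equals the derived subgroup, an irreducible
character not trivial on the centre satisfies `2 χ(1)² = |G|`. -/
theorem two_mul_charDegree_sq_of_center (hcomm : commutator G = Subgroup.center G)
    (hcard : Nat.card (Subgroup.center G) = 2) (χ : Cfsg.IrrCharacter G)
    (hχ : ¬ ∀ x ∈ Subgroup.center G, (χ : G → ℂ) x = (χ : G → ℂ) 1) :
    2 * Cfsg.charDegree (χ : G → ℂ) ^ 2 = Nat.card G := by
  classical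
  haveI := Fintype.ofFinite G
  obtain ⟨z, hzZ, hz⟩ : ∃ x ∈ Subgroup.center G, (χ : G → ℂ) x ≠ (χ : G → ℂ) 1 := by
    by_contra hcon
    push Not at hcon
    exact hχ hcon
  have hz1 : z ≠ 1 := fun h => hz (by rw [h])
  have hχc := isCharacter_of_isIrrCharacter χ.2
  obtain ⟨ω, hω, hmul⟩ := central_char_mul χ.2 hzZ
  -- `z` has order two
  have hz2 : z ^ 2 = 1 := by
    have h3 : (⟨z, hzZ⟩ : Subgroup.center G) ^ Nat.card (Subgroup.center G) = 1 :=
      pow_card_eq_one'
    rw [hcard] at h3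
    simpa using congrArg Subtype.val h3
  have hord : orderOf z = 2 := orderOf_eq_prime hz2 hz1
  rw [hord] at hω
  have hω1 : ω ≠ 1 := by
    intro h
    apply hz
    have := hmul 1
    rwa [mul_one, h, one_mul] at this
  have hωneg : ω = -1 := by
    have h1 : (ω - 1) * (ω + 1) = 0 := by ring_nf; rw [hω]; ring
    rcases mul_eq_zero.mp h1 with h | h
    · exact absurd (sub_eq_zero.mp h) hω1
    · exact eq_neg_of_add_eq_zero_left h
  -- vanishing off the centre
  have hvan : ∀ g : G, g ∉ Subgroup.center G → (χ : G → ℂ) g = 0 := by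
    intro g hg
    rw [Subgroup.mem_center_iff] at hg
    push Not at hg
    obtain ⟨h, hh⟩ := hg
    have hcM : ⁅h, g⁆ ∈ Subgroup.center G := by
      rw [← hcomm, commutator_def]
      exact Subgroup.commutator_mem_commutator (Subgroup.mem_top _) (Subgroup.mem_top _)
    have hc1 : ⁅h, g⁆ ≠ 1 := by
      intro h1
      apply hh
      have : h * g = ⁅h, g⁆ * (g * h) := by rw [commutatorElement_def]; group
      rw [this, h1, one_mul]
    have hcz : ⁅h, g⁆ = z := eq_of_card_two hcard hcM hzZ hc1 hz1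
    have h2 : h * g * h⁻¹ = z * g := by
      rw [← hcz, commutatorElement_def]; group
    have h3 : (χ : G → ℂ) (h * g * h⁻¹) = (χ : G → ℂ) g := char_conj_eq hχc g h
    rw [h2, hmul g, hωneg] at h3
    have h4 : (2 : ℂ) * (χ : G → ℂ) g = 0 := by linear_combination -h3
    rcases mul_eq_zero.mp h4 with h5 | h5
    · norm_num at h5
    · exact h5
  -- the norm equation
  have hsum := sum_norm_sq_eq_card χ.2
  have hsub : ∑ g : G, ‖(χ : G → ℂ) g‖ ^ 2 = ∑ g ∈ ({1, z} : Finset G), ‖(χ : G → ℂ) g‖ ^ 2 := by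
    symm
    apply Finset.sum_subset (Finset.subset_univ _)
    intro g _ hg
    have hgZ : g ∉ Subgroup.center G := by
      intro hgZ
      apply hg
      by_cases hg1 : g = 1
      · simp [hg1]
      · have := eq_of_card_two hcard hgZ hzZ hg1 hz1
        simp [this]
    rw [hvan g hgZ, norm_zero]
    simp
  rw [hsub, Finset.sum_pair (Ne.symm hz1), norm_char_central χ.2 hzZ,
    char_one_eq_charDegree hχc] at hsum
  have h5 : ((2 * Cfsg.charDegree (χ : G → ℂ) ^ 2 : ℕ) : ℝ) = (Nat.card G : ℝ) := by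
    rw [← hsum]
    push_cast
    rw [Complex.norm_natCast]
    ring
  exact_mod_cast h5

/-- An extraspecial `2`-group has exactly one irreducible character of even degree. -/
theorem unique_dvd_of_extraspecial (h : Cfsg.IsExtraspecial 2 G) :
    Nat.card {χ : Cfsg.IrrCharacter G // 2 ∣ Cfsg.charDegree (χ : G → ℂ)} = 1 := by
  classical
  haveI : Fact (Nat.Prime 2) := ⟨Nat.prime_two⟩
  haveI := Fintype.ofFinite G
  haveI : Fintype (Cfsg.IrrCharacter G) := Fintype.ofFinite _
  obtain ⟨⟨hG, -, hcomm⟩, hcard⟩ := h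
  -- the Sylow 2-subgroup is everything
  let P : Sylow 2 G := default
  have hPtop : (P : Subgroup G) = ⊤ := (P.3 (Q := ⊤) (hG.to_subgroup ⊤) le_top).symm
  haveI hPn : (P : Subgroup G).Normal := by rw [hPtop]; infer_instance
  have hiff : ∀ χ : Cfsg.IrrCharacter G, 2 ∣ Cfsg.charDegree (χ : G → ℂ) ↔
      ¬ ∀ x ∈ Subgroup.center G, (χ : G → ℂ) x = (χ : G → ℂ) 1 := by
    intro χ
    have := dvd_charDegree_iff_of_normal_sylow P χ
    rwa [hPtop, ← commutator_def, hcomm] at this
  -- existence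
  have hZbot : Subgroup.center G ≠ ⊥ := by
    intro h
    rw [h, Subgroup.card_bot] at hcard
    norm_num at hcard
  obtain ⟨z, hzZ, hz1⟩ := ((Subgroup.center G).bot_or_exists_ne_one).resolve_left hZbot
  obtain ⟨χ₀, hχ₀⟩ : ∃ χ : Cfsg.IrrCharacter G, (χ : G → ℂ) z ≠ (χ : G → ℂ) 1 := by
    by_contra hcon
    push Not at hcon
    exact hz1 (eq_one_of_forall_irr_eq hcon)
  have hχ₀' : ¬ ∀ x ∈ Subgroup.center G, (χ₀ : G → ℂ) x = (χ₀ : G → ℂ) 1 :=
    fun hall => hχ₀ (hall z hzZ)
  rw [Nat.card_eq_one_iff_unique]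
  refine ⟨⟨?_⟩, ⟨⟨χ₀, (hiff χ₀).mpr hχ₀'⟩⟩⟩
  rintro ⟨χ₁, h1⟩ ⟨χ₂, h2⟩
  rw [Subtype.mk.injEq]
  by_contra hne
  have e1 := two_mul_charDegree_sq_of_center hcomm hcard χ₁ ((hiff χ₁).mp h1)
  have e2 := two_mul_charDegree_sq_of_center hcomm hcard χ₂ ((hiff χ₂).mp h2)
  have hsq := sum_charDegree_sq (G := G)
  have ht1 : trivIrr G ≠ χ₁ := by
    intro ht
    apply (hiff χ₁).mp h1
    intro x _
    rw [← ht, trivIrr_apply, trivIrr_apply]
  have ht2 : trivIrr G ≠ χ₂ := by
    intro ht
    apply (hiff χ₂).mp h2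
    intro x _
    rw [← ht, trivIrr_apply, trivIrr_apply]
  have hle : ∑ χ ∈ ({trivIrr G, χ₁, χ₂} : Finset (Cfsg.IrrCharacter G)),
      Cfsg.charDegree (χ : G → ℂ) ^ 2 ≤ ∑ χ : Cfsg.IrrCharacter G,
      Cfsg.charDegree (χ : G → ℂ) ^ 2 :=
    Finset.sum_le_sum_of_subset (Finset.subset_univ _)
  rw [Finset.sum_insert (by simp [ht1, ht2]), Finset.sum_pair hne, charDegree_trivIrr, hsq] at hle
  omega

end Extraspecial

end Cfsg.Agent.Lib.Helper80
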