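import Mathlib
import Cfsg.Prelude.Def_Characters
import Cfsg.Prelude.Def_Blocks
import Cfsg.Agent.Lib.Helper80.OneDegree
import Cfsg.Agent.Lib.Helper80.Codegree
import Cfsg.Agent.Lib.Helper15.LinIrr
import Cfsg.Agent.Lib.Helper75.GaloisChar
import Cfsg.Agent.Lib.Helper53.PGroups

/-!
# `p`-groups whose nonlinear irreducible characters of equal degree are Galois conjugate

Such a (non-abelian) `p`-group has cyclic centre and derived subgroup of order `p`, and
conversely.
-/

set_option autoImplicit false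
set_option linter.style.haveILetI false

open scoped ComplexConjugate commutatorElement

namespace Cfsg.Agent.Lib.Helper80

universe u

section CenterMod

variable {G : Type u} [Group G]

/-- The preimage in `G` of the centre of `G ⧸ K`. -/
def centerMod (K : Subgroup G) [K.Normal] : Subgroup G :=
  (Subgroup.center (G ⧸ K)).comap (QuotientGroup.mk' K)

theorem mem_centerMod {K : Subgroup G} [K.Normal] {c : G} :
    c ∈ centerMod K ↔ ∀ x : G, ⁅c, x⁆ ∈ K := by
  unfold centerMod
  rw [Subgroup.mem_comap, Subgroup.mem_center_iff]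
  constructor
  · intro h x
    have h1 := h (x : G ⧸ K)
    rw [← QuotientGroup.eq_one_iff]
    have h2 : ((⁅c, x⁆ : G) : G ⧸ K) = ⁅(c : G ⧸ K), (x : G ⧸ K)⁆ := rfl
    rw [h2, commutatorElement_eq_one_iff_mul_comm]
    exact h1.symm
  · intro h q
    obtain ⟨x, rfl⟩ := QuotientGroup.mk_surjective q
    have h1 := h x
    rw [← QuotientGroup.eq_one_iff] at h1
    have h2 : ((⁅c, x⁆ : G) : G ⧸ K) = ⁅(c : G ⧸ K), (x : G ⧸ K)⁆ := rfl
    rw [h2, commutatorElement_eq_one_iff_mul_comm] at h1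
    exact h1.symm

theorem le_centerMod (K : Subgroup G) [K.Normal] : K ≤ centerMod K := by
  intro c hc
  rw [mem_centerMod]
  intro x
  have h1 : ⁅c, x⁆ = c * (x * c⁻¹ * x⁻¹) := by
    rw [commutatorElement_def]; group
  rw [h1]
  exact K.mul_mem hc (Subgroup.Normal.conj_mem inferInstance _ (K.inv_mem hc) x)

theorem center_le_centerMod (K : Subgroup G) [K.Normal] : Subgroup.center G ≤ centerMod K := by
  intro c hc
  rw [mem_centerMod]
  intro x
  have h1 : ⁅c, x⁆ = 1 := by
    rw [commutatorElement_eq_one_iff_mul_comm]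
    exact (Subgroup.mem_center_iff.mp hc x).symm
  rw [h1]
  exact K.one_mem

theorem centerMod_bot : centerMod (⊥ : Subgroup G) = Subgroup.center G := by
  apply le_antisymm
  · intro c hc
    rw [mem_centerMod] at hc
    rw [Subgroup.mem_center_iff]
    intro x
    have h1 := hc x
    rw [Subgroup.mem_bot, commutatorElement_eq_one_iff_mul_comm] at h1
    exact h1.symm
  · exact center_le_centerMod ⊥

variable [Finite G]

/-- An element which is central modulo a normal subgroup contained in the kernel of the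
irreducible character `χ` acts on `χ` by a scalar of absolute value one. -/
theorem char_mul_of_mem_centerMod (χ : Cfsg.IrrCharacter G) (K : Subgroup G) [K.Normal]
    (hK : K ≤ irrKer χ) {c : G} (hc : c ∈ centerMod K) :
    ∃ ω : ℂ, ‖ω‖ = 1 ∧ ∀ g, (χ : G → ℂ) (c * g) = ω * (χ : G → ℂ) g := by
  have hN : ∀ x ∈ K, (χ : G → ℂ) x = (χ : G → ℂ) 1 := fun x hx => (mem_irrKer χ x).mp (hK hx)
  obtain ⟨ψ, hψ, hψχ⟩ := exists_isIrrCharacter_deflate K χ.2 hN
  obtain ⟨ω, hω, h⟩ := central_char_mul hψ (z := (c : G ⧸ K)) hc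
  refine ⟨ω, Complex.norm_eq_one_of_pow_eq_one hω (orderOf_pos _).ne', fun g => ?_⟩
  rw [← hψχ, ← hψχ]
  exact h (g : G ⧸ K)

theorem norm_char_of_mem_centerMod (χ : Cfsg.IrrCharacter G) (K : Subgroup G) [K.Normal]
    (hK : K ≤ irrKer χ) {c : G} (hc : c ∈ centerMod K) :
    ‖(χ : G → ℂ) c‖ = ‖(χ : G → ℂ) 1‖ := by
  obtain ⟨ω, hω, h⟩ := char_mul_of_mem_centerMod χ K hK hc
  have h1 := h 1
  rw [mul_one] at h1
  rw [h1, norm_mul, hω, one_mul]

/-- If the commutator `⁅g, y⁆` is central modulo the kernel of `χ` but not in the kernel, then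
`χ g = 0`. -/
theorem char_eq_zero_of_commutator (χ : Cfsg.IrrCharacter G) (K : Subgroup G) [K.Normal]
    (hK : K ≤ irrKer χ) {g y : G} (hc : ⁅g, y⁆ ∈ centerMod K) (hnk : ⁅g, y⁆ ∉ irrKer χ) :
    (χ : G → ℂ) g = 0 := by
  obtain ⟨ω, -, h⟩ := char_mul_of_mem_centerMod χ K hK hc
  have hχc := isCharacter_of_isIrrCharacter χ.2
  have h1 : ⁅g, y⁆ * (y * g * y⁻¹) = g := by
    rw [commutatorElement_def]; group
  have h2 := h (y * g * y⁻¹)
  rw [h1, char_conj_eq hχc] at h2
  have h3 := h 1
  rw [mul_one] at h3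
  have hω1 : ω ≠ 1 := by
    intro hω
    rw [hω, one_mul] at h3
    exact hnk ((mem_irrKer χ _).mpr h3)
  have h4 : (1 - ω) * (χ : G → ℂ) g = 0 := by linear_combination h2
  rcases mul_eq_zero.mp h4 with h5 | h5
  · exact absurd (sub_eq_zero.mp h5).symm hω1
  · exact h5

/-- If `χ` vanishes off the subgroup `Z`, on which it has absolute value `χ(1)`, then
`χ(1)² |Z| = |G|`. -/
theorem charDegree_sq_mul_card_of_vanish (χ : Cfsg.IrrCharacter G) (Z : Subgroup G)
    (hZ : ∀ c ∈ Z, ‖(χ : G → ℂ) c‖ = ‖(χ : G → ℂ) 1‖) (hv : ∀ g, g ∉ Z → (χ : G → ℂ) g = 0) :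
    Cfsg.charDegree (χ : G → ℂ) ^ 2 * Nat.card Z = Nat.card G := by
  classical
  haveI := Fintype.ofFinite G
  have h1 := sum_norm_sq_eq_card χ.2
  have h2 : ∑ g : G, ‖(χ : G → ℂ) g‖ ^ 2
      = ∑ g : G, if g ∈ Z then ((Cfsg.charDegree (χ : G → ℂ) : ℝ)) ^ 2 else 0 := by
    refine Finset.sum_congr rfl fun g _ => ?_
    by_cases hg : g ∈ Z
    · rw [if_pos hg, hZ g hg, char_one_eq_charDegree (isCharacter_of_isIrrCharacter χ.2),
        Complex.norm_natCast]
    · rw [if_neg hg, hv g hg, norm_zero]; norm_num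
  rw [h2, ← Finset.sum_filter, Finset.sum_const, nsmul_eq_mul] at h1
  have h3 : (Finset.univ.filter (fun g : G => g ∈ Z)).card = Nat.card Z := by
    rw [Nat.card_eq_fintype_card, Fintype.card_subtype]
  rw [h3] at h1
  have h4 : ((Cfsg.charDegree (χ : G → ℂ) ^ 2 * Nat.card Z : ℕ) : ℝ) = (Nat.card G : ℝ) := by
    push_cast
    linarith
  exact_mod_cast h4

/-- `χ(1)² |Z(G)| ≤ |G|`. -/
theorem charDegree_sq_mul_card_center_le (χ : Cfsg.IrrCharacter G) :
    Cfsg.charDegree (χ : G → ℂ) ^ 2 * Nat.card (Subgroup.center G) ≤ Nat.card G := by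
  classical
  haveI := Fintype.ofFinite G
  have h1 := sum_norm_sq_eq_card χ.2
  have h2 : ∑ g : G, (if g ∈ Subgroup.center G then ((Cfsg.charDegree (χ : G → ℂ) : ℝ)) ^ 2 else 0)
      ≤ ∑ g : G, ‖(χ : G → ℂ) g‖ ^ 2 := by
    refine Finset.sum_le_sum fun g _ => ?_
    by_cases hg : g ∈ Subgroup.center G
    · rw [if_pos hg, norm_char_central χ.2 hg,
        char_one_eq_charDegree (isCharacter_of_isIrrCharacter χ.2), Complex.norm_natCast]
    · rw [if_neg hg]; positivity
  rw [h1, ← Finset.sum_filter, Finset.sum_const, nsmul_eq_mul] at h2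
  have h3 : (Finset.univ.filter (fun g : G => g ∈ Subgroup.center G)).card
      = Nat.card (Subgroup.center G) := by
    rw [Nat.card_eq_fintype_card, Fintype.card_subtype]
  rw [h3] at h2
  have h4 : ((Cfsg.charDegree (χ : G → ℂ) ^ 2 * Nat.card (Subgroup.center G) : ℕ) : ℝ)
      ≤ (Nat.card G : ℝ) := by
    push_cast
    linarith
  exact_mod_cast h4

/-- Fully ramified characters: if `G'` is central modulo the kernel `K` of `χ`, then
`χ(1)² |Z(G mod K)| = |G|`. -/
theorem charDegree_sq_mul_card_centerMod (χ : Cfsg.IrrCharacter G)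
    (h : commutator G ≤ centerMod (irrKer χ)) :
    Cfsg.charDegree (χ : G → ℂ) ^ 2 * Nat.card (centerMod (irrKer χ)) = Nat.card G := by
  apply charDegree_sq_mul_card_of_vanish χ (centerMod (irrKer χ))
  · intro c hc
    exact norm_char_of_mem_centerMod χ (irrKer χ) le_rfl hc
  · intro g hg
    rw [mem_centerMod] at hg
    push Not at hg
    obtain ⟨x, hx⟩ := hg
    exact char_eq_zero_of_commutator χ (irrKer χ) le_rfl
      (h (Subgroup.commutator_mem_commutator (Subgroup.mem_top g) (Subgroup.mem_top x))) hx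

end CenterMod

section SameDeg

/-- Any two irreducible characters of the same degree greater than one are Galois conjugate. -/
def SameDegGal (P : Type u) [Group P] : Prop :=
  ∀ χ ψ : Cfsg.IrrCharacter P, Cfsg.charDegree (χ : P → ℂ) ≠ 1 →
    Cfsg.charDegree (χ : P → ℂ) = Cfsg.charDegree (ψ : P → ℂ) →
    ∃ k : ℕ, Nat.Coprime k (Nat.card P) ∧ ∀ g : P, (ψ : P → ℂ) g = (χ : P → ℂ) (g ^ k)

variable {P : Type u} [Group P] [Finite P]

omit [Finite P] in
/-- The property passes to quotients. -/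
theorem SameDegGal.quotient (h : SameDegGal P) (N : Subgroup P) [N.Normal] :
    SameDegGal (P ⧸ N) := by
  intro χ ψ h1 hdeg
  obtain ⟨k, hk, hkv⟩ := h (inflateIrr N χ).1 (inflateIrr N ψ).1 h1 hdeg
  refine ⟨k, Nat.Coprime.coprime_dvd_right (Subgroup.card_quotient_dvd_card N) hk, fun q => ?_⟩
  obtain ⟨g, rfl⟩ := QuotientGroup.mk_surjective q
  exact hkv g

/-- Galois conjugate characters have the same kernel. -/
theorem irrKer_eq_of_pow (χ ψ : Cfsg.IrrCharacter P) (k : ℕ) (hk : Nat.Coprime k (Nat.card P))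
    (h : ∀ g : P, (ψ : P → ℂ) g = (χ : P → ℂ) (g ^ k)) : irrKer ψ = irrKer χ := by
  have h1 : (ψ : P → ℂ) 1 = (χ : P → ℂ) 1 := by rw [h 1, one_pow]
  ext g
  rw [mem_irrKer, mem_irrKer, h g, h1]
  constructor
  · intro hg
    have h2 : g ^ k ∈ irrKer χ := (mem_irrKer χ _).mpr hg
    have hco : Nat.Coprime (orderOf g) k :=
      Nat.Coprime.coprime_dvd_left (orderOf_dvd_natCard g) hk.symm
    obtain ⟨m, hm⟩ := exists_pow_eq_self_of_coprime hco.symm
    have h4 : g ∈ irrKer χ := by
      rw [← hm]; exact (irrKer χ).pow_mem h2 m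
    exact (mem_irrKer χ g).mp h4
  · intro hg
    have h2 : g ∈ irrKer χ := (mem_irrKer χ g).mpr hg
    exact (mem_irrKer χ _).mp ((irrKer χ).pow_mem h2 k)

/-- Linear characters separate the elements outside the commutator subgroup. -/
theorem exists_lin_ne_one_of_not_mem_commutator {g : P} (hg : g ∉ commutator P) :
    ∃ f : P →* ℂˣ, f g ≠ 1 := by
  have h1 : Abelianization.of g ≠ 1 := by
    intro h
    apply hg
    rw [← Abelianization.ker_of, MonoidHom.mem_ker]
    exact h
  obtain ⟨φ, hφ⟩ := CommGroup.exists_apply_ne_one_of_hasEnoughRootsOfUnity (Abelianization P) ℂ h1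
  exact ⟨φ.comp Abelianization.of, hφ⟩

/-- Under `SameDegGal` the kernel of a nonlinear irreducible character lies in `P'`. -/
theorem irrKer_le_commutator (h : SameDegGal P) (χ : Cfsg.IrrCharacter P)
    (hχ : Cfsg.charDegree (χ : P → ℂ) ≠ 1) : irrKer χ ≤ commutator P := by
  intro g hg
  by_contra hgc
  obtain ⟨f, hf⟩ := exists_lin_ne_one_of_not_mem_commutator hgc
  have hβ := Helper15.isCharacter_of_hom f
  have hβ1 : (fun x => ((f x : ℂˣ) : ℂ)) 1 = 1 := by simp
  have hirr := Helper15.isIrrCharacter_lin_mul hβ hβ1 χ.2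
  have hdeg : Cfsg.charDegree (χ : P → ℂ)
      = Cfsg.charDegree (((fun x => ((f x : ℂˣ) : ℂ)) * (χ : P → ℂ) : P → ℂ)) := by
    unfold Cfsg.charDegree
    simp
  obtain ⟨k, hk, hkv⟩ := h χ ⟨_, hirr⟩ hχ hdeg
  have h1 := hkv g
  have h2 : (χ : P → ℂ) (g ^ k) = (χ : P → ℂ) 1 :=
    (mem_irrKer χ _).mp ((irrKer χ).pow_mem hg k)
  have h3 : (χ : P → ℂ) g = (χ : P → ℂ) 1 := (mem_irrKer χ g).mp hg
  simp only [Pi.mul_apply] at h1
  rw [h2, h3] at h1
  have h4 : ((f g : ℂˣ) : ℂ) = 1 := by
    have hne := char_one_ne_zero χ.2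
    have : (((f g : ℂˣ) : ℂ) - 1) * (χ : P → ℂ) 1 = 0 := by linear_combination h1
    rcases mul_eq_zero.mp this with h5 | h5
    · exact sub_eq_zero.mp h5
    · exact absurd h5 hne
  exact hf (Units.ext h4)

/-- A character whose kernel contains the commutator subgroup is linear. -/
theorem charDegree_eq_one_of_commutator_le (χ : Cfsg.IrrCharacter P)
    (h : commutator P ≤ irrKer χ) : Cfsg.charDegree (χ : P → ℂ) = 1 := by
  have hN : ∀ x ∈ commutator P, (χ : P → ℂ) x = (χ : P → ℂ) 1 :=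
    fun x hx => (mem_irrKer χ x).mp (h hx)
  obtain ⟨ψ, hψ, hψχ⟩ := exists_isIrrCharacter_deflate (commutator P) χ.2 hN
  have hcomm : ∀ a b : P ⧸ commutator P, a * b = b * a :=
    show ∀ a b : Abelianization P, a * b = b * a from fun a b => mul_comm a b
  have h1 := charDegree_eq_one_of_comm hcomm ⟨ψ, hψ⟩
  have h2 : Cfsg.charDegree ψ = Cfsg.charDegree (χ : P → ℂ) := by
    unfold Cfsg.charDegree
    have : ψ 1 = (χ : P → ℂ) 1 := hψχ 1
    rw [this]
  rw [← h2]
  exact h1

/-- A non-abelian group has a nonlinear irreducible character. -/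
theorem exists_nonlinear (hna : ¬ IsMulCommutative P) :
    ∃ χ : Cfsg.IrrCharacter P, Cfsg.charDegree (χ : P → ℂ) ≠ 1 := by
  by_contra h
  push Not at h
  exact hna (isMulCommutative_of_forall_charDegree_eq_one h)

/-- A group with a faithful irreducible character has cyclic centre. -/
theorem isCyclic_center_of_faithful (χ : Cfsg.IrrCharacter P) (hf : irrKer χ = ⊥) :
    IsCyclic (Subgroup.center P) := by
  have hne := char_one_ne_zero χ.2
  let f : Subgroup.center P →* ℂ :=
    { toFun := fun z => (χ : P → ℂ) (z : P) / (χ : P → ℂ) 1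
      map_one' := by
        show (χ : P → ℂ) ((1 : Subgroup.center P) : P) / (χ : P → ℂ) 1 = 1
        rw [Subgroup.coe_one, div_self hne]
      map_mul' := by
        intro z w
        show (χ : P → ℂ) ((z * w : Subgroup.center P) : P) / (χ : P → ℂ) 1
          = (χ : P → ℂ) (z : P) / (χ : P → ℂ) 1 * ((χ : P → ℂ) (w : P) / (χ : P → ℂ) 1)
        obtain ⟨ω, -, hω⟩ := central_char_mul χ.2 z.2
        have h1 := hω 1
        rw [mul_one] at h1
        rw [Subgroup.coe_mul, hω, h1]
        field_simp }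
  have hinj : Function.Injective f := by
    rw [injective_iff_map_eq_one]
    intro z hz
    have h1 : (χ : P → ℂ) (z : P) = (χ : P → ℂ) 1 := by
      have h2 : (χ : P → ℂ) (z : P) / (χ : P → ℂ) 1 = 1 := hz
      rw [div_eq_one_iff_eq hne] at h2
      exact h2
    have h3 : (z : P) ∈ irrKer χ := (mem_irrKer χ _).mpr h1
    rw [hf, Subgroup.mem_bot] at h3
    exact Subtype.ext h3
  exact isCyclic_of_injective_ringHom f hinj

end SameDeg

section PGroupAux

variable {P : Type u} [Group P]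

/-- A subgroup of the centre is normal. -/
theorem normal_of_le_center' (N : Subgroup P) (h : N ≤ Subgroup.center P) : N.Normal := by
  refine ⟨fun n hn g => ?_⟩
  have h1 : g * n * g⁻¹ = n := by
    have := Subgroup.mem_center_iff.mp (h hn) g
    rw [this, mul_assoc, mul_inv_cancel, mul_one]
  rw [h1]; exact hn

/-- In a finite `p`-group a normal subgroup of order `p` is central. -/
theorem le_center_of_normal_of_card_prime [Finite P] {p : ℕ} [Fact p.Prime] (hP : IsPGroup p P)
    (N : Subgroup P) [N.Normal] (hN : Nat.card N = p) : N ≤ Subgroup.center P := by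
  have hp := (Fact.out : p.Prime)
  have hne : N ≠ ⊥ := by
    intro h
    rw [h, Subgroup.card_bot] at hN
    exact hp.one_lt.ne hN
  obtain ⟨z, hzN, hz1, hzc⟩ := Helper53.exists_mem_center_of_normal_of_ne_bot hP N hne
  have h1 : Subgroup.zpowers z ≤ N := by rw [Subgroup.zpowers_le]; exact hzN
  have h2 : Nat.card (Subgroup.zpowers z) = p := by
    rw [Nat.card_zpowers]
    have h3 : orderOf z ∣ p := by
      rw [← hN]
      have h4 : orderOf (⟨z, hzN⟩ : N) ∣ Nat.card N := orderOf_dvd_natCard _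
      rwa [Subgroup.orderOf_mk] at h4
    rcases (Nat.dvd_prime hp).mp h3 with h5 | h5
    · exact absurd (orderOf_eq_one_iff.mp h5) hz1
    · exact h5
  have h3 : Subgroup.zpowers z = N := Subgroup.eq_of_le_of_card_ge h1 (by rw [h2, hN])
  rw [← h3, Subgroup.zpowers_le]
  exact hzc

/-- The class-two power identity for commutators. -/
theorem commutatorElement_pow_left {c x : P} (h : ⁅c, x⁆ ∈ Subgroup.center P) (n : ℕ) :
    ⁅c ^ n, x⁆ = ⁅c, x⁆ ^ n := by
  induction n with
  | zero => simp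
  | succ n ih =>
    have h1 : ⁅c ^ (n + 1), x⁆ = c * ⁅c ^ n, x⁆ * c⁻¹ * ⁅c, x⁆ := by
      simp only [commutatorElement_def, pow_succ']
      group
    rw [h1, ih]
    have h2 : c * ⁅c, x⁆ ^ n = ⁅c, x⁆ ^ n * c :=
      Subgroup.mem_center_iff.mp ((Subgroup.center P).pow_mem h n) c
    rw [h2, mul_assoc (⁅c, x⁆ ^ n), mul_inv_cancel, mul_one, pow_succ]

variable [Finite P]

/-- If `K` is central of exponent dividing `p` and `P ⧸ K` has cyclic centre, then the preimage
of `Z(P ⧸ K)` has order at most `p |Z(P)|`. -/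
theorem card_centerMod_le (p : ℕ) (hp0 : 0 < p) (K : Subgroup P) [K.Normal]
    (hK : K ≤ Subgroup.center P) (hKp : ∀ k ∈ K, k ^ p = 1)
    (hcyc : IsCyclic (Subgroup.center (P ⧸ K))) :
    Nat.card (centerMod K) ≤ p * Nat.card (Subgroup.center P) := by
  obtain ⟨q₀, hq₀⟩ := hcyc.exists_generator
  obtain ⟨c₀, hc₀⟩ := QuotientGroup.mk_surjective (q₀ : P ⧸ K)
  have hc₀mem : c₀ ∈ centerMod K := by
    show (c₀ : P ⧸ K) ∈ Subgroup.center (P ⧸ K)
    rw [hc₀]; exact q₀.2
  have hc₀p : c₀ ^ p ∈ Subgroup.center P := by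
    rw [Subgroup.mem_center_iff]
    intro x
    have h1 : ⁅c₀, x⁆ ∈ K := mem_centerMod.mp hc₀mem x
    have h2 := commutatorElement_pow_left (hK h1) p
    rw [hKp _ h1, commutatorElement_eq_one_iff_mul_comm] at h2
    exact h2.symm
  -- the surjection
  let f : Fin p × Subgroup.center P → P := fun a => c₀ ^ (a.1 : ℕ) * (a.2 : P)
  have hsurj : ∀ c ∈ centerMod K, ∃ a, f a = c := by
    intro c hc
    have hcq : (⟨(c : P ⧸ K), hc⟩ : Subgroup.center (P ⧸ K)) ∈ Subgroup.zpowers q₀ := hq₀ _
    rw [← mem_powers_iff_mem_zpowers] at hcq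
    obtain ⟨j, hj⟩ := hcq
    have hj' : ((c₀ ^ j : P) : P ⧸ K) = (c : P ⧸ K) := by
      have := congrArg Subtype.val hj
      simp only [Subgroup.coe_pow] at this
      rw [← hc₀] at this
      exact this
    have hk : (c₀ ^ j)⁻¹ * c ∈ K := QuotientGroup.eq.mp hj'
    have hjdecomp : c₀ ^ j = c₀ ^ (j % p) * (c₀ ^ p) ^ (j / p) := by
      rw [← pow_mul, ← pow_add, Nat.mod_add_div]
    have hz : (c₀ ^ p) ^ (j / p) * ((c₀ ^ j)⁻¹ * c) ∈ Subgroup.center P :=
      (Subgroup.center P).mul_mem ((Subgroup.center P).pow_mem hc₀p _) (hK hk)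
    refine ⟨(⟨j % p, Nat.mod_lt _ hp0⟩, ⟨_, hz⟩), ?_⟩
    show c₀ ^ (j % p) * ((c₀ ^ p) ^ (j / p) * ((c₀ ^ j)⁻¹ * c)) = c
    rw [← mul_assoc, ← hjdecomp, ← mul_assoc, mul_inv_cancel, one_mul]
  have h3 : Nat.card (centerMod K) ≤ Nat.card (Fin p × Subgroup.center P) := by
    classical
    let g : centerMod K → Fin p × Subgroup.center P := fun c => (hsurj c.1 c.2).choose
    have hg : Function.Injective g := by
      intro c d hcd
      have h1 := (hsurj c.1 c.2).choose_spec
      have h2 := (hsurj d.1 d.2).choose_spec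
      apply Subtype.ext
      rw [← h1, ← h2]
      exact congrArg f hcd
    exact Nat.card_le_card_of_injective g hg
  rw [Nat.card_prod, Nat.card_fin] at h3
  exact h3

end PGroupAux

section Converse

variable {P : Type u} [Group P] [Finite P]

/-- Case `|P'| = p`: under `SameDegGal` the centre is cyclic. -/
theorem isCyclic_center_of_card_commutator (p : ℕ) [Fact p.Prime] (h : SameDegGal P)
    (hna : ¬ IsMulCommutative P) (hc : Nat.card (commutator P) = p) :
    IsCyclic (Subgroup.center P) := by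
  have hp := (Fact.out : p.Prime)
  obtain ⟨χ, hχ⟩ := exists_nonlinear hna
  have h1 := irrKer_le_commutator h χ hχ
  have h2 : Nat.card (irrKer χ) ∣ p := by
    rw [← hc]; exact Subgroup.card_dvd_of_le h1
  rcases (Nat.dvd_prime hp).mp h2 with h3 | h3
  · exact isCyclic_center_of_faithful χ (Subgroup.card_eq_one.mp h3)
  · exfalso
    have h4 : irrKer χ = commutator P := Subgroup.eq_of_le_of_card_ge h1 (by rw [h3, hc])
    exact hχ (charDegree_eq_one_of_commutator_le χ h4.ge)

/-- In a `p`-group with cyclic centre and `|P'| = p`, a nonlinear irreducible character is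
faithful on the centre and vanishes off it. -/
theorem nonlinear_of_cyclic_center (p : ℕ) [Fact p.Prime] (hP : IsPGroup p P)
    (hcyc : IsCyclic (Subgroup.center P)) (hc : Nat.card (commutator P) = p)
    (χ : Cfsg.IrrCharacter P) (hχ : Cfsg.charDegree (χ : P → ℂ) ≠ 1) :
    (∀ g, g ∉ Subgroup.center P → (χ : P → ℂ) g = 0) ∧
      ∀ z ∈ Subgroup.center P, (χ : P → ℂ) z = (χ : P → ℂ) 1 → z = 1 := by
  classical
  have hp := (Fact.out : p.Prime)
  have hcz : commutator P ≤ Subgroup.center P := le_center_of_normal_of_card_prime hP _ hc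
  -- the kernel meets `P'` trivially
  have hker : ∀ c ∈ commutator P, c ∈ irrKer χ → c = 1 := by
    intro c hc1 hc2
    have h1 : Nat.card (irrKer χ ⊓ commutator P : Subgroup P) ∣ p := by
      rw [← hc]; exact Subgroup.card_dvd_of_le inf_le_right
    rcases (Nat.dvd_prime hp).mp h1 with h3 | h3
    · have h4 := Subgroup.card_eq_one.mp h3
      have h5 : c ∈ (irrKer χ ⊓ commutator P : Subgroup P) := ⟨hc2, hc1⟩
      rw [h4, Subgroup.mem_bot] at h5
      exact h5
    · exfalso
      have h4 : (irrKer χ ⊓ commutator P : Subgroup P) = commutator P :=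
        Subgroup.eq_of_le_of_card_ge inf_le_right (by rw [h3, hc])
      exact hχ (charDegree_eq_one_of_commutator_le χ (by rw [← h4]; exact inf_le_left))
  refine ⟨?_, ?_⟩
  · intro g hg
    rw [Subgroup.mem_center_iff] at hg
    push Not at hg
    obtain ⟨y, hy⟩ := hg
    have hcomm : ⁅g, y⁆ ∈ commutator P :=
      Subgroup.commutator_mem_commutator (Subgroup.mem_top g) (Subgroup.mem_top y)
    have hne : ⁅g, y⁆ ≠ 1 := by
      intro h1
      rw [commutatorElement_eq_one_iff_mul_comm] at h1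
      exact hy h1.symm
    apply char_eq_zero_of_commutator χ ⊥ bot_le (g := g) (y := y)
    · rw [centerMod_bot]; exact hcz hcomm
    · intro h1; exact hne (hker _ hcomm h1)
  · intro z hz hz1
    by_contra hne
    -- an element of order `p` in `⟨z⟩`
    have hzk : z ∈ irrKer χ := (mem_irrKer χ z).mpr hz1
    obtain ⟨k, hk⟩ := (hP.to_subgroup (Subgroup.center P)).exists_card_eq
    have hord : orderOf z ∣ p ^ k := by
      rw [← hk]
      have h4 : orderOf (⟨z, hz⟩ : Subgroup.center P) ∣ Nat.card (Subgroup.center P) :=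
        orderOf_dvd_natCard _
      rwa [Subgroup.orderOf_mk] at h4
    obtain ⟨m, hm, hm2⟩ := (Nat.dvd_prime_pow hp).mp hord
    have hm0 : m ≠ 0 := by
      intro h0
      rw [h0, pow_zero] at hm2
      exact hne (orderOf_eq_one_iff.mp hm2)
    have hpdvd : p ∣ orderOf z := by
      rw [hm2]; exact dvd_pow_self p hm0
    set w := z ^ (orderOf z / p) with hw
    have hwo : orderOf w = p := orderOf_pow_orderOf_div (orderOf_pos z).ne' hpdvd
    have hwz : w ∈ Subgroup.center P := (Subgroup.center P).pow_mem hz _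
    have hwk : w ∈ irrKer χ := (irrKer χ).pow_mem hzk _
    -- elements of order dividing `p` in the cyclic centre lie in `P'`
    haveI := hcyc
    haveI : Fintype (Subgroup.center P) := Fintype.ofFinite _
    have hle := IsCyclic.card_pow_eq_one_le (α := Subgroup.center P) hp.pos
    have hsub : (Finset.univ.filter (fun a : Subgroup.center P => (a : P) ∈ commutator P))
        ⊆ Finset.univ.filter (fun a : Subgroup.center P => a ^ p = 1) := by
      intro a ha
      simp only [Finset.mem_filter, Finset.mem_univ, true_and] at ha ⊢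
      apply Subtype.ext
      rw [Subgroup.coe_pow, Subgroup.coe_one]
      have h4 : orderOf (⟨(a : P), ha⟩ : commutator P) ∣ Nat.card (commutator P) :=
        orderOf_dvd_natCard _
      rw [Subgroup.orderOf_mk, hc] at h4
      exact orderOf_dvd_iff_pow_eq_one.mp h4
    have hcard : (Finset.univ.filter (fun a : Subgroup.center P => (a : P) ∈ commutator P)).card
        = p := by
      rw [← hc]
      have : Nat.card ((commutator P).subgroupOf (Subgroup.center P)) = Nat.card (commutator P) :=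
        Nat.card_congr (Subgroup.subgroupOfEquivOfLe hcz).toEquiv
      rw [← this, Nat.card_eq_fintype_card, Fintype.card_subtype]
      rfl
    have heq := Finset.eq_of_subset_of_card_le hsub (by rw [hcard]; exact hle)
    have hwin : (⟨w, hwz⟩ : Subgroup.center P) ∈
        Finset.univ.filter (fun a : Subgroup.center P => a ^ p = 1) := by
      simp only [Finset.mem_filter, Finset.mem_univ, true_and]
      apply Subtype.ext
      rw [Subgroup.coe_pow, Subgroup.coe_one]
      show w ^ p = 1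
      rw [← hwo]; exact pow_orderOf_eq_one w
    rw [← heq] at hwin
    simp only [Finset.mem_filter, Finset.mem_univ, true_and] at hwin
    have hw1 := hker w hwin hwk
    rw [hw1, orderOf_one] at hwo
    exact hp.one_lt.ne hwo

/-- The converse direction: cyclic centre and `|P'| = p` force `SameDegGal`. -/
theorem sameDegGal_of_cyclic_center (p : ℕ) [Fact p.Prime] (hP : IsPGroup p P)
    (hcyc : IsCyclic (Subgroup.center P)) (hc : Nat.card (commutator P) = p) : SameDegGal P := by
  classical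
  have hp := (Fact.out : p.Prime)
  intro χ ψ hχ hdeg
  have hψ : Cfsg.charDegree (ψ : P → ℂ) ≠ 1 := by rw [← hdeg]; exact hχ
  obtain ⟨hχv, hχf⟩ := nonlinear_of_cyclic_center p hP hcyc hc χ hχ
  obtain ⟨hψv, hψf⟩ := nonlinear_of_cyclic_center p hP hcyc hc ψ hψ
  obtain ⟨z₀, hz₀⟩ := hcyc.exists_generator
  obtain ⟨ω, hω, hωm⟩ := central_char_mul χ.2 z₀.2
  obtain ⟨ω', hω', hωm'⟩ := central_char_mul ψ.2 z₀.2
  have hpowχ : ∀ j : ℕ, ∀ g, (χ : P → ℂ) ((z₀ : P) ^ j * g) = ω ^ j * (χ : P → ℂ) g := by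
    intro j
    induction j with
    | zero => intro g; simp
    | succ j ih =>
      intro g
      rw [pow_succ', mul_assoc, hωm, ih, pow_succ']
      ring
  have hpowψ : ∀ j : ℕ, ∀ g, (ψ : P → ℂ) ((z₀ : P) ^ j * g) = ω' ^ j * (ψ : P → ℂ) g := by
    intro j
    induction j with
    | zero => intro g; simp
    | succ j ih =>
      intro g
      rw [pow_succ', mul_assoc, hωm', ih, pow_succ']
      ring
  have hprim : IsPrimitiveRoot ω (orderOf (z₀ : P)) := by
    rw [IsPrimitiveRoot.iff_def]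
    refine ⟨hω, fun l hl => ?_⟩
    have h1 := hpowχ l 1
    rw [mul_one, hl, one_mul] at h1
    have h2 := hχf _ ((Subgroup.center P).pow_mem z₀.2 l) h1
    exact orderOf_dvd_of_pow_eq_one h2
  have hprim' : IsPrimitiveRoot ω' (orderOf (z₀ : P)) := by
    rw [IsPrimitiveRoot.iff_def]
    refine ⟨hω', fun l hl => ?_⟩
    have h1 := hpowψ l 1
    rw [mul_one, hl, one_mul] at h1
    have h2 := hψf _ ((Subgroup.center P).pow_mem z₀.2 l) h1
    exact orderOf_dvd_of_pow_eq_one h2
  haveI : NeZero (orderOf (z₀ : P)) := ⟨(orderOf_pos _).ne'⟩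
  obtain ⟨i, -, hiω⟩ := hprim.eq_pow_of_pow_eq_one hprim'.pow_eq_one
  have hico : i.Coprime (orderOf (z₀ : P)) := by
    rw [← hprim.pow_iff_coprime (orderOf_pos _) i, hiω]
    exact hprim'
  obtain ⟨m, hm⟩ := hP.exists_card_eq
  -- `p` divides the order of `z₀`
  have hcz : commutator P ≤ Subgroup.center P := le_center_of_normal_of_card_prime hP _ hc
  have hz₀ne : (z₀ : P) ≠ 1 := by
    intro h1
    have h2 : ∀ c ∈ commutator P, c = 1 := by
      intro c hc1
      have h3 : (⟨c, hcz hc1⟩ : Subgroup.center P) ∈ Subgroup.zpowers z₀ := hz₀ _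
      have h4 : z₀ = 1 := Subtype.ext h1
      rw [h4, Subgroup.zpowers_one_eq_bot, Subgroup.mem_bot] at h3
      exact congrArg Subtype.val h3
    have h5 : commutator P = ⊥ := by
      rw [Subgroup.eq_bot_iff_forall]; exact h2
    rw [h5, Subgroup.card_bot] at hc
    exact hp.one_lt.ne hc
  have hpn : p ∣ orderOf (z₀ : P) := by
    have h1 : orderOf (z₀ : P) ∣ p ^ m := by rw [← hm]; exact orderOf_dvd_natCard _
    obtain ⟨e, -, he⟩ := (Nat.dvd_prime_pow hp).mp h1
    have he0 : e ≠ 0 := by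
      intro h0
      rw [h0, pow_zero] at he
      exact hz₀ne (orderOf_eq_one_iff.mp he)
    rw [he]; exact dvd_pow_self p he0
  have hicoP : i.Coprime (Nat.card P) := by
    rw [hm]
    exact Nat.Coprime.pow_right m (Nat.Coprime.coprime_dvd_right hpn hico)
  have h11 : (ψ : P → ℂ) 1 = (χ : P → ℂ) 1 := by
    rw [char_one_eq_charDegree (isCharacter_of_isIrrCharacter ψ.2),
      char_one_eq_charDegree (isCharacter_of_isIrrCharacter χ.2), hdeg]
  refine ⟨i, hicoP, fun g => ?_⟩
  by_cases hg : g ∈ Subgroup.center P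
  · have h1 : (⟨g, hg⟩ : Subgroup.center P) ∈ Subgroup.zpowers z₀ := hz₀ _
    rw [← mem_powers_iff_mem_zpowers] at h1
    obtain ⟨j, hj⟩ := h1
    have hj' : (z₀ : P) ^ j = g := by
      have := congrArg Subtype.val hj
      simpa using this
    have h2 := hpowψ j 1
    rw [mul_one, hj'] at h2
    have h3 := hpowχ (j * i) 1
    rw [mul_one, pow_mul, hj'] at h3
    rw [h2, h3, ← hiω, h11, ← pow_mul, mul_comm i j]
  · rw [hψv g hg]
    have h1 : g ^ i ∉ Subgroup.center P := by
      intro h2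
      have hco : Nat.Coprime i (orderOf g) :=
        Nat.Coprime.coprime_dvd_right (orderOf_dvd_natCard g) hicoP
      obtain ⟨m', hm'⟩ := exists_pow_eq_self_of_coprime hco
      apply hg
      rw [← hm']
      exact (Subgroup.center P).pow_mem h2 m'
    rw [hχv _ h1]

end Converse

section Core

variable {P : Type u} [Group P] [Finite P]

/-- A linear character is trivial on the commutator subgroup. -/
theorem commutator_le_irrKer_of_linear (χ : Cfsg.IrrCharacter P)
    (h : Cfsg.charDegree (χ : P → ℂ) = 1) : commutator P ≤ irrKer χ := by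
  have hχc := isCharacter_of_isIrrCharacter χ.2
  have h1 : (χ : P → ℂ) 1 = 1 := by rw [char_one_eq_charDegree hχc, h]; simp
  intro x hx
  have h2 := Abelianization.commutator_subset_ker (Helper15.linCharHom hχc h1) hx
  rw [MonoidHom.mem_ker] at h2
  have h3 := congrArg (fun u : ℂˣ => (u : ℂ)) h2
  simp only [Helper15.linCharHom_apply, Units.val_one] at h3
  rw [mem_irrKer, h3, h1]

/-- If `P ⧸ N` is not abelian there is a nonlinear irreducible character with `N` in its
kernel. -/
theorem exists_nonlinear_ker_ge (N : Subgroup P) [N.Normal] (h : ¬ commutator P ≤ N) :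
    ∃ χ : Cfsg.IrrCharacter P, Cfsg.charDegree (χ : P → ℂ) ≠ 1 ∧ N ≤ irrKer χ := by
  have hna : ¬ IsMulCommutative (P ⧸ N) := by
    intro hcomm
    apply h
    rw [commutator_def, Subgroup.commutator_le]
    intro a _ b _
    rw [← QuotientGroup.eq_one_iff]
    have h2 : ((⁅a, b⁆ : P) : P ⧸ N) = ⁅(a : P ⧸ N), (b : P ⧸ N)⁆ := rfl
    rw [h2, commutatorElement_eq_one_iff_mul_comm]
    exact hcomm.is_comm.comm _ _
  obtain ⟨ψ, hψ⟩ := exists_nonlinear hna
  refine ⟨(inflateIrr N ψ).1, hψ, fun x hx => ?_⟩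
  exact (mem_irrKer _ x).mpr ((inflateIrr N ψ).2 x hx)

/-- Irreducible characters separate the identity. -/
theorem exists_irr_not_mem_irrKer {z : P} (hz : z ≠ 1) :
    ∃ χ : Cfsg.IrrCharacter P, z ∉ irrKer χ := by
  by_contra h
  push Not at h
  exact hz (eq_one_of_forall_irr_eq (fun ψ => (mem_irrKer ψ z).mp (h ψ)))

/-- The centre of `P ⧸ ker χ` is cyclic. -/
theorem isCyclic_center_quotient_irrKer (χ : Cfsg.IrrCharacter P) (K : Subgroup P) [K.Normal]
    (hK : K = irrKer χ) : IsCyclic (Subgroup.center (P ⧸ K)) := by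
  have hN : ∀ x ∈ K, (χ : P → ℂ) x = (χ : P → ℂ) 1 := fun x hx => (mem_irrKer χ x).mp (hK ▸ hx)
  obtain ⟨ψ, hψ, hψχ⟩ := exists_isIrrCharacter_deflate K χ.2 hN
  apply isCyclic_center_of_faithful ⟨ψ, hψ⟩
  rw [Subgroup.eq_bot_iff_forall]
  intro q hq
  obtain ⟨g, rfl⟩ := QuotientGroup.mk_surjective q
  rw [mem_irrKer] at hq
  have h1 : (χ : P → ℂ) g = (χ : P → ℂ) 1 := by
    have h2 : ψ ((g : P) : P ⧸ K) = ψ (((1 : P) : P ⧸ K)) := hq
    rw [hψχ, hψχ] at h2
    exact h2
  rw [QuotientGroup.eq_one_iff, hK]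
  exact (mem_irrKer χ g).mpr h1

theorem sq_ne_prime_mul_sq {p : ℕ} (hp : p.Prime) (a b : ℕ) (hb : b ≠ 0) :
    a ^ 2 ≠ p * b ^ 2 := by
  intro h
  haveI : Fact p.Prime := ⟨hp⟩
  have h1 := congrArg (padicValNat p) h
  rw [padicValNat.pow, padicValNat.mul hp.ne_zero (pow_ne_zero 2 hb), padicValNat_self,
    padicValNat.pow] at h1
  omega

theorem geom_identity (q : ℕ) : ∀ b : ℕ, 1 ≤ b →
    q * (∑ a ∈ Finset.Ico 1 b, q ^ a) + q = (∑ a ∈ Finset.Ico 1 b, q ^ a) + q ^ b := by
  intro b hb
  induction b, hb using Nat.le_induction with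
  | base => simp
  | succ b hb ih =>
    rw [Finset.sum_Ico_succ_top hb]
    have : q * (∑ a ∈ Finset.Ico 1 b, q ^ a + q ^ b) + q
        = (q * (∑ a ∈ Finset.Ico 1 b, q ^ a) + q) + q ^ (b + 1) := by ring
    rw [this, ih]

/-- The kernel of a nonlinear character has order `1` or `p` when `|P'| = p²`. -/
theorem card_irrKer_of_card_commutator_sq (p : ℕ) [Fact p.Prime] (h : SameDegGal P)
    (h2 : Nat.card (commutator P) = p ^ 2) (χ : Cfsg.IrrCharacter P)
    (hχ : Cfsg.charDegree (χ : P → ℂ) ≠ 1) :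
    Nat.card (irrKer χ) = 1 ∨ Nat.card (irrKer χ) = p := by
  have hp := (Fact.out : p.Prime)
  have h1 := irrKer_le_commutator h χ hχ
  have h3 : Nat.card (irrKer χ) ∣ p ^ 2 := by
    rw [← h2]; exact Subgroup.card_dvd_of_le h1
  obtain ⟨m, hm, hm2⟩ := (Nat.dvd_prime_pow hp).mp h3
  interval_cases m
  · left; simpa using hm2
  · right; simpa using hm2
  · exfalso
    have h4 : irrKer χ = commutator P := Subgroup.eq_of_le_of_card_ge h1 (by rw [hm2, h2])
    exact hχ (charDegree_eq_one_of_commutator_le χ h4.ge)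

omit [Finite P] in
/-- Elements of a subgroup of order `1` or `p` have `p`-th power one. -/
theorem pow_eq_one_of_card (p : ℕ) (K : Subgroup P)
    (hK : Nat.card K = 1 ∨ Nat.card K = p) {k : P} (hk : k ∈ K) : k ^ p = 1 := by
  have h1 : orderOf (⟨k, hk⟩ : K) ∣ Nat.card K := orderOf_dvd_natCard _
  rw [Subgroup.orderOf_mk] at h1
  rcases hK with h | h
  · rw [h, Nat.dvd_one, orderOf_eq_one_iff] at h1
    rw [h1, one_pow]
  · rw [h] at h1
    exact orderOf_dvd_iff_pow_eq_one.mp h1

/-- Degree data of a nonlinear character when `P' ≤ Z(P)` has order `p²`. -/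
theorem degree_data_of_central (p : ℕ) [Fact p.Prime] (hP : IsPGroup p P) (h : SameDegGal P)
    (h2 : Nat.card (commutator P) = p ^ 2) (hab : commutator P ≤ Subgroup.center P)
    (χ : Cfsg.IrrCharacter P) (hχ : Cfsg.charDegree (χ : P → ℂ) ≠ 1) :
    ∃ A : ℕ, Cfsg.charDegree (χ : P → ℂ) ^ 2 * A = Nat.card P ∧
      (A = Nat.card (Subgroup.center P) ∨ A = p * Nat.card (Subgroup.center P)) := by
  have hp := (Fact.out : p.Prime)
  have hK1 := irrKer_le_commutator h χ hχ
  have hKz : irrKer χ ≤ Subgroup.center P := hK1.trans hab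
  have hKcard := card_irrKer_of_card_commutator_sq p h h2 χ hχ
  refine ⟨Nat.card (centerMod (irrKer χ)), ?_, ?_⟩
  · exact charDegree_sq_mul_card_centerMod χ (hab.trans (center_le_centerMod _))
  · have hle := card_centerMod_le p hp.pos (irrKer χ) hKz
      (fun k hk => pow_eq_one_of_card p (irrKer χ) hKcard hk)
      (isCyclic_center_quotient_irrKer χ (irrKer χ) rfl)
    have hdvd : Nat.card (Subgroup.center P) ∣ Nat.card (centerMod (irrKer χ)) :=
      Subgroup.card_dvd_of_le (center_le_centerMod _)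
    obtain ⟨a, ha⟩ := (hP.to_subgroup (centerMod (irrKer χ))).exists_card_eq
    obtain ⟨b, hb⟩ := (hP.to_subgroup (Subgroup.center P)).exists_card_eq
    rw [ha, hb] at hdvd hle ⊢
    have h3 : b ≤ a := (Nat.pow_dvd_pow_iff_le_right hp.one_lt).mp hdvd
    have h4 : a ≤ b + 1 := by
      rw [← pow_succ'] at hle
      exact (Nat.pow_le_pow_iff_right hp.one_lt).mp hle
    rcases Nat.lt_or_ge b a with h5 | h5
    · right
      have : a = b + 1 := by omega
      rw [this, pow_succ']
    · left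
      have : a = b := by omega
      rw [this]

/-- Case `P' ≤ Z(P)`, `|P'| = p²`: contradiction. -/
theorem false_of_central (p : ℕ) [Fact p.Prime] (hP : IsPGroup p P) (h : SameDegGal P)
    (N : Subgroup P) [N.Normal] (hN : Nat.card N = p) (hNc : N ≤ commutator P)
    (h2 : Nat.card (commutator P) = p ^ 2) (hab : commutator P ≤ Subgroup.center P) : False := by
  have hp := (Fact.out : p.Prime)
  -- a nonlinear character with `N` in the kernel
  have hnle : ¬ commutator P ≤ N := by
    intro hle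
    have h3 := Nat.le_of_dvd (by rw [hN]; exact hp.pos) (Subgroup.card_dvd_of_le hle)
    rw [h2, hN] at h3
    nlinarith [hp.one_lt]
  obtain ⟨χ₁, hχ₁, hN₁⟩ := exists_nonlinear_ker_ge N hnle
  -- a character without `N` in the kernel
  have hNne : N ≠ ⊥ := by
    intro hb
    rw [hb, Subgroup.card_bot] at hN
    exact hp.one_lt.ne hN
  obtain ⟨z, hz1⟩ := (Subgroup.ne_bot_iff_exists_ne_one.mp hNne)
  have hz1' : (z : P) ≠ 1 := fun hh => hz1 (Subtype.ext hh)
  obtain ⟨χ₂, hχ₂z⟩ := exists_irr_not_mem_irrKer hz1'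
  have hχ₂ : Cfsg.charDegree (χ₂ : P → ℂ) ≠ 1 := by
    intro h1
    exact hχ₂z (commutator_le_irrKer_of_linear χ₂ h1 (hNc z.2))
  obtain ⟨A₁, hA₁, hA₁'⟩ := degree_data_of_central p hP h h2 hab χ₁ hχ₁
  obtain ⟨A₂, hA₂, hA₂'⟩ := degree_data_of_central p hP h h2 hab χ₂ hχ₂
  have hd₁ := charDegree_pos χ₁.2
  have hd₂ := charDegree_pos χ₂.2
  have hZpos : 0 < Nat.card (Subgroup.center P) := Nat.card_pos
  have hdeg : Cfsg.charDegree (χ₁ : P → ℂ) = Cfsg.charDegree (χ₂ : P → ℂ) := by
    have hEq : Cfsg.charDegree (χ₁ : P → ℂ) ^ 2 * A₁ = Cfsg.charDegree (χ₂ : P → ℂ) ^ 2 * A₂ := by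
      rw [hA₁, hA₂]
    rcases hA₁' with e1 | e1 <;> rcases hA₂' with e2 | e2
    · rw [e1, e2] at hEq
      have := Nat.eq_of_mul_eq_mul_right hZpos hEq
      exact Nat.pow_left_injective (by norm_num : (2 : ℕ) ≠ 0) this
    · exfalso
      rw [e1, e2] at hEq
      have h5 : Cfsg.charDegree (χ₁ : P → ℂ) ^ 2 = p * Cfsg.charDegree (χ₂ : P → ℂ) ^ 2 := by
        apply Nat.eq_of_mul_eq_mul_right hZpos
        rw [hEq]; ring
      exact sq_ne_prime_mul_sq hp _ _ hd₂.ne' h5
    · exfalso
      rw [e1, e2] at hEq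
      have h5 : Cfsg.charDegree (χ₂ : P → ℂ) ^ 2 = p * Cfsg.charDegree (χ₁ : P → ℂ) ^ 2 := by
        apply Nat.eq_of_mul_eq_mul_right hZpos
        rw [← hEq]; ring
      exact sq_ne_prime_mul_sq hp _ _ hd₁.ne' h5
    · rw [e1, e2] at hEq
      have hpZ : 0 < p * Nat.card (Subgroup.center P) := Nat.mul_pos hp.pos hZpos
      have := Nat.eq_of_mul_eq_mul_right hpZ hEq
      exact Nat.pow_left_injective (by norm_num : (2 : ℕ) ≠ 0) this
  obtain ⟨k, hk, hkv⟩ := h χ₁ χ₂ hχ₁ hdeg
  have hker := irrKer_eq_of_pow χ₁ χ₂ k hk hkv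
  exact hχ₂z (hker ▸ hN₁ z.2)

omit [Group P] [Finite P] in
theorem final_arith (p SF I cardP X T S : ℕ) (hp2 : 2 ≤ p) (hXpos : 0 < X)
    (hFsum : SF + I = cardP) (hidx : I * p = cardP) (hf : X * p ^ 2 = cardP)
    (hbound : SF ≤ T * S) (htot : T + p ^ 2 = p ^ 3) (hS : p ^ 2 * S + p ^ 2 = S + X) : False := by
  zify at hp2 hXpos hFsum hidx hf hbound htot hS
  have hp0 : (p : ℤ) ≠ 0 := by linarith
  have hI : (I : ℤ) = X * p := by
    apply mul_right_cancel₀ hp0
    rw [hidx, ← hf]; ring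
  have e1 : (SF : ℤ) = X * (p : ℤ) ^ 2 - X * p := by linarith
  have e5 : (T : ℤ) = (p : ℤ) ^ 3 - (p : ℤ) ^ 2 := by linarith
  have e6 : ((p : ℤ) ^ 2 - 1) * S = X - (p : ℤ) ^ 2 := by linarith
  have key : ((p : ℤ) + 1) * SF ≤ ((p : ℤ) + 1) * (T * S) :=
    mul_le_mul_of_nonneg_left hbound (by linarith)
  have e7 : ((p : ℤ) + 1) * (T * S) = (p : ℤ) ^ 2 * (X - (p : ℤ) ^ 2) := by
    rw [e5]; linear_combination ((p : ℤ) ^ 2) * e6
  rw [e7, e1] at key
  have h10 : (1 : ℤ) ≤ (p : ℤ) ^ 2 - p - 1 := by nlinarith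
  have h11 : (0 : ℤ) ≤ (X : ℤ) * p * ((p : ℤ) ^ 2 - p - 1) :=
    mul_nonneg (mul_nonneg hXpos.le (by linarith)) (by linarith)
  have h12 : (0 : ℤ) < (p : ℤ) ^ 4 := by positivity
  nlinarith [key, h11, h12]

/-- Variant of `charDegree_sq_mul_card_centerMod` for a subgroup equal to the kernel. -/
theorem charDegree_sq_mul_card_centerMod' (χ : Cfsg.IrrCharacter P) (K : Subgroup P) [K.Normal]
    (hK : K = irrKer χ) (h : commutator P ≤ centerMod K) :
    Cfsg.charDegree (χ : P → ℂ) ^ 2 * Nat.card (centerMod K) = Nat.card P := by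
  subst hK
  exact charDegree_sq_mul_card_centerMod χ h

/-- Case `P' ⊄ Z(P)`, `|P'| = p²`: contradiction. -/
theorem false_of_noncentral (p : ℕ) [Fact p.Prime] (hP : IsPGroup p P) (h : SameDegGal P)
    (N : Subgroup P) [N.Normal] (hN : Nat.card N = p) (hNc : N ≤ commutator P)
    (hNz : N ≤ Subgroup.center P) (hq : Nat.card (commutator (P ⧸ N)) = p)
    (h2 : Nat.card (commutator P) = p ^ 2) (hnc : ¬ commutator P ≤ Subgroup.center P) :
    False := by
  classical
  have hp := (Fact.out : p.Prime)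
  haveI := Fintype.ofFinite P
  haveI : Fintype (Cfsg.IrrCharacter P) := Fintype.ofFinite _
  have hNne : N ≠ ⊥ := by
    intro hb
    rw [hb, Subgroup.card_bot] at hN
    exact hp.one_lt.ne hN
  -- `P' ∩ Z(P) = N`
  have hinf : commutator P ⊓ Subgroup.center P = N := by
    have hle : N ≤ commutator P ⊓ Subgroup.center P := le_inf hNc hNz
    have h3 : Nat.card (commutator P ⊓ Subgroup.center P : Subgroup P) ∣ p ^ 2 := by
      rw [← h2]; exact Subgroup.card_dvd_of_le inf_le_left
    obtain ⟨m, hm, hm2⟩ := (Nat.dvd_prime_pow hp).mp h3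
    have hNdvd : p ∣ p ^ m := by
      rw [← hm2, ← hN]; exact Subgroup.card_dvd_of_le hle
    interval_cases m
    · exfalso
      rw [pow_zero, Nat.dvd_one] at hNdvd
      exact hp.one_lt.ne' hNdvd
    · exact (Subgroup.eq_of_le_of_card_ge hle (by rw [hm2, hN, pow_one])).symm
    · exfalso
      apply hnc
      have h4 : (commutator P ⊓ Subgroup.center P : Subgroup P) = commutator P :=
        Subgroup.eq_of_le_of_card_ge inf_le_left (by rw [hm2, h2])
      rw [← h4]; exact inf_le_right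
  -- kernels of nonlinear characters
  have hker : ∀ χ : Cfsg.IrrCharacter P, Cfsg.charDegree (χ : P → ℂ) ≠ 1 →
      irrKer χ = ⊥ ∨ irrKer χ = N := by
    intro χ hχ
    rcases card_irrKer_of_card_commutator_sq p h h2 χ hχ with h3 | h3
    · left; exact Subgroup.card_eq_one.mp h3
    · right
      have h4 : irrKer χ ≤ Subgroup.center P :=
        le_center_of_normal_of_card_prime hP (irrKer χ) h3
      have h5 : irrKer χ ≤ N := by
        rw [← hinf]; exact le_inf (irrKer_le_commutator h χ hχ) h4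
      exact Subgroup.eq_of_le_of_card_ge h5 (by rw [h3, hN])
  -- `Z(P) = N`
  have hZ : Subgroup.center P = N := by
    obtain ⟨ψ, hψ, hψZ⟩ := exists_nonlinear_ker_ge (Subgroup.center P) hnc
    rcases hker ψ hψ with h3 | h3
    · exfalso
      apply hNne
      rw [eq_bot_iff, ← h3]
      exact hNz.trans hψZ
    · exact le_antisymm (h3 ▸ hψZ) hNz
  have hZcard : Nat.card (Subgroup.center P) = p := by rw [hZ, hN]
  -- a nonlinear character with kernel `N`
  have hnle : ¬ commutator P ≤ N := by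
    intro hle
    have h3 := Nat.le_of_dvd (by rw [hN]; exact hp.pos) (Subgroup.card_dvd_of_le hle)
    rw [h2, hN] at h3
    nlinarith [hp.one_lt]
  obtain ⟨χ₁, hχ₁, hN₁⟩ := exists_nonlinear_ker_ge N hnle
  have hk₁ : irrKer χ₁ = N := by
    rcases hker χ₁ hχ₁ with h3 | h3
    · exfalso
      apply hNne
      rw [eq_bot_iff, ← h3]
      exact hN₁
    · exact h3
  -- `P'` is central modulo `N`
  have hqc : commutator (P ⧸ N) ≤ Subgroup.center (P ⧸ N) :=
    le_center_of_normal_of_card_prime (hP.to_quotient N) _ hq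
  have hmapc : ∀ c ∈ commutator P, ((c : P) : P ⧸ N) ∈ commutator (P ⧸ N) := by
    intro c hc
    have hle : (commutator P).map (QuotientGroup.mk' N) ≤ commutator (P ⧸ N) := by
      rw [commutator_def, Subgroup.map_commutator, commutator_def]
      exact Subgroup.commutator_mono le_top le_top
    exact hle (Subgroup.mem_map_of_mem _ hc)
  have hPc : commutator P ≤ centerMod N := fun c hc => hqc (hmapc c hc)
  have hf := charDegree_sq_mul_card_centerMod' χ₁ N hk₁.symm hPc
  have hcyc := isCyclic_center_quotient_irrKer χ₁ N hk₁.symm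
  have hle := card_centerMod_le p hp.pos N hNz
    (fun k hk => pow_eq_one_of_card p N (Or.inr hN) hk) hcyc
  rw [hZcard] at hle
  have hge : p ^ 2 ≤ Nat.card (centerMod N) := by
    rw [← h2]; exact Nat.le_of_dvd Nat.card_pos (Subgroup.card_dvd_of_le hPc)
  have hA : Nat.card (centerMod N) = p ^ 2 := le_antisymm (by rw [sq]; exact hle) hge
  have hcm : commutator P = centerMod N := Subgroup.eq_of_le_of_card_ge hPc (by rw [hA, h2])
  rw [hA] at hf
  -- the exponent of `P` divides `p³`
  have hexp : ∀ g : P, g ^ (p ^ 3) = 1 := by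
    intro g
    have h3 : g ^ p ∈ centerMod N := by
      rw [mem_centerMod]
      intro x
      rw [← QuotientGroup.eq_one_iff]
      have h4 : (((⁅g ^ p, x⁆ : P)) : P ⧸ N) = ⁅(g : P ⧸ N) ^ p, (x : P ⧸ N)⁆ := rfl
      have h5 : ⁅(g : P ⧸ N), (x : P ⧸ N)⁆ ∈ commutator (P ⧸ N) :=
        Subgroup.commutator_mem_commutator (Subgroup.mem_top _) (Subgroup.mem_top _)
      rw [h4, commutatorElement_pow_left (hqc h5)]
      exact pow_eq_one_of_card p (commutator (P ⧸ N)) (Or.inr hq) h5
    rw [← hcm] at h3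
    have h6 : (g ^ p) ^ (p ^ 2) = 1 := by
      have h7 : orderOf (⟨g ^ p, h3⟩ : commutator P) ∣ Nat.card (commutator P) :=
        orderOf_dvd_natCard _
      rw [Subgroup.orderOf_mk, h2] at h7
      exact orderOf_dvd_iff_pow_eq_one.mp h7
    rw [← pow_mul] at h6
    rw [show p ^ 3 = p * p ^ 2 by ring]
    exact h6
  -- degrees
  obtain ⟨n, hn⟩ := hP.exists_card_eq
  obtain ⟨b, hb⟩ : ∃ b, Cfsg.charDegree (χ₁ : P → ℂ) = p ^ b := by
    have h3 : Cfsg.charDegree (χ₁ : P → ℂ) ∣ p ^ n := by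
      rw [← hn]; exact charDegree_dvd_card χ₁.2
    obtain ⟨b, -, hb⟩ := (Nat.dvd_prime_pow hp).mp h3
    exact ⟨b, hb⟩
  have hb1 : 1 ≤ b := by
    rcases Nat.eq_zero_or_pos b with h0 | h0
    · exfalso; apply hχ₁; rw [hb, h0, pow_zero]
    · exact h0
  have hpdvd : p ∣ Nat.card P := by
    rw [← hf]; exact Dvd.dvd.mul_left (dvd_pow_self p (by norm_num)) _
  set F := Finset.univ.filter (fun χ : Cfsg.IrrCharacter P =>
    ¬ ∀ x ∈ N, (χ : P → ℂ) x = (χ : P → ℂ) 1) with hF
  have hFfacts : ∀ χ ∈ F, ∃ a, 1 ≤ a ∧ a < b ∧ Cfsg.charDegree (χ : P → ℂ) = p ^ a := by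
    intro χ hχF
    rw [hF, Finset.mem_filter] at hχF
    have hχF' := hχF.2
    have hnl : Cfsg.charDegree (χ : P → ℂ) ≠ 1 := by
      intro h1
      apply hχF'
      intro x hx
      exact (mem_irrKer χ x).mp (commutator_le_irrKer_of_linear χ h1 (hNc hx))
    have hk : irrKer χ = ⊥ := by
      rcases hker χ hnl with h3 | h3
      · exact h3
      · exfalso
        apply hχF'
        intro x hx
        exact (mem_irrKer χ x).mp (h3 ▸ hx)
    have hdvd : Cfsg.charDegree (χ : P → ℂ) ∣ p ^ n := by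
      rw [← hn]; exact charDegree_dvd_card χ.2
    obtain ⟨a, -, ha⟩ := (Nat.dvd_prime_pow hp).mp hdvd
    have hne : Cfsg.charDegree (χ : P → ℂ) ≠ Cfsg.charDegree (χ₁ : P → ℂ) := by
      intro heq
      obtain ⟨k, hk1, hk2⟩ := h χ χ₁ hnl heq
      have h3 := irrKer_eq_of_pow χ χ₁ k hk1 hk2
      rw [hk₁, hk] at h3
      exact hNne h3
    have hle' := charDegree_sq_mul_card_center_le χ
    rw [hZcard, ← hf, ha, hb] at hle'
    have h5 : p ^ (2 * a + 1) ≤ p ^ (2 * b + 2) := by
      calc p ^ (2 * a + 1) = (p ^ a) ^ 2 * p := by ring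
        _ ≤ (p ^ b) ^ 2 * p ^ 2 := hle'
        _ = p ^ (2 * b + 2) := by ring
    have h6 : 2 * a + 1 ≤ 2 * b + 2 := (Nat.pow_le_pow_iff_right hp.one_lt).mp h5
    have h7 : a ≠ b := by
      intro hab
      apply hne
      rw [ha, hb, hab]
    have h8 : a ≠ 0 := by
      intro h0
      apply hnl
      rw [ha, h0, pow_zero]
    exact ⟨a, by omega, by omega, ha⟩
  -- the sum over `F`
  have hsum1 := sum_charDegree_sq (G := P)
  have hsum2 := sum_charDegree_sq_filter_ker (G := P) N
  have hsplit := Finset.sum_filter_add_sum_filter_not Finset.univ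
    (fun χ : Cfsg.IrrCharacter P => ∀ x ∈ N, (χ : P → ℂ) x = (χ : P → ℂ) 1)
    (fun χ => Cfsg.charDegree (χ : P → ℂ) ^ 2)
  have hFsum : (∑ χ ∈ F, Cfsg.charDegree (χ : P → ℂ) ^ 2) + N.index = Nat.card P := by
    rw [← hsum1, ← hsplit, hsum2, add_comm]
  have hidx : N.index * p = Nat.card P := by
    rw [← hN]; exact N.index_mul_card
  -- fibres of the degree exponent
  set e : Cfsg.IrrCharacter P → ℕ := fun χ => padicValNat p (Cfsg.charDegree (χ : P → ℂ)) with he
  have hefact : ∀ χ ∈ F, e χ ∈ Finset.Ico 1 b ∧ Cfsg.charDegree (χ : P → ℂ) = p ^ (e χ) := by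
    intro χ hχ
    obtain ⟨a, ha1, hab, ha⟩ := hFfacts χ hχ
    have h3 : e χ = a := by
      rw [he]
      show padicValNat p (Cfsg.charDegree (χ : P → ℂ)) = a
      rw [ha, padicValNat.prime_pow]
    rw [h3]
    exact ⟨Finset.mem_Ico.mpr ⟨ha1, hab⟩, ha⟩
  have hfiber := Finset.sum_fiberwise_of_maps_to (s := F) (t := Finset.Ico 1 b) (g := e)
    (fun χ hχ => (hefact χ hχ).1) (fun χ => Cfsg.charDegree (χ : P → ℂ) ^ 2)
  have hcount : ∀ a, (F.filter (fun χ => e χ = a)).card ≤ Nat.totient (p ^ 3) := by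
    intro a
    by_cases hemp : F.filter (fun χ => e χ = a) = ∅
    · rw [hemp]; simp
    obtain ⟨χa, hχa⟩ := Finset.nonempty_iff_ne_empty.mpr hemp
    rw [Finset.mem_filter] at hχa
    have hex : ∀ χ ∈ F.filter (fun χ => e χ = a), ∃ k : ℕ, k.Coprime (Nat.card P) ∧
        ∀ g, (χ : P → ℂ) g = (χa : P → ℂ) (g ^ k) := by
      intro χ hχ
      rw [Finset.mem_filter] at hχ
      have hd1 : Cfsg.charDegree (χa : P → ℂ) = p ^ a := by rw [(hefact χa hχa.1).2, hχa.2]
      have hd2 : Cfsg.charDegree (χ : P → ℂ) = p ^ a := by rw [(hefact χ hχ.1).2, hχ.2]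
      obtain ⟨a', ha1, -, ha'⟩ := hFfacts χa hχa.1
      have hnl : Cfsg.charDegree (χa : P → ℂ) ≠ 1 := by
        rw [ha']
        exact (Nat.one_lt_pow (by omega) hp.one_lt).ne'
      exact h χa χ hnl (by rw [hd1, hd2])
    choose! κ hκ using hex
    rw [Nat.totient_eq_card_coprime]
    apply Finset.card_le_card_of_injOn (fun χ => κ χ % p ^ 3)
    · intro χ hχ
      have hco := (hκ χ hχ).1
      have hcop : (κ χ).Coprime p := Nat.Coprime.coprime_dvd_right hpdvd hco
      have hcop3 : Nat.gcd (p ^ 3) (κ χ) = 1 := (Nat.Coprime.pow_right 3 hcop).symm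
      simp only [Finset.coe_filter, Finset.mem_range, Set.mem_ofPred_eq]
      refine ⟨Nat.mod_lt _ (pow_pos hp.pos 3), ?_⟩
      show Nat.gcd (p ^ 3) (κ χ % p ^ 3) = 1
      rw [Nat.gcd_comm, ← Nat.gcd_rec]
      exact hcop3
    · intro χ hχ χ' hχ' heq
      apply Subtype.ext
      funext g
      rw [(hκ χ hχ).2 g, (hκ χ' hχ').2 g]
      have h3 : ∀ k : ℕ, g ^ k = g ^ (k % p ^ 3) := by
        intro k
        conv_lhs => rw [← Nat.mod_add_div k (p ^ 3)]
        rw [pow_add, pow_mul, hexp g, one_pow, mul_one]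
      have h4 : κ χ % p ^ 3 = κ χ' % p ^ 3 := heq
      rw [h3 (κ χ), h3 (κ χ'), h4]
  have hbound : ∑ χ ∈ F, Cfsg.charDegree (χ : P → ℂ) ^ 2
      ≤ Nat.totient (p ^ 3) * ∑ a ∈ Finset.Ico 1 b, (p ^ 2) ^ a := by
    rw [← hfiber, Finset.mul_sum]
    apply Finset.sum_le_sum
    intro a _
    calc ∑ χ ∈ F with e χ = a, Cfsg.charDegree (χ : P → ℂ) ^ 2
        = ∑ χ ∈ F with e χ = a, (p ^ 2) ^ a := by
          apply Finset.sum_congr rfl
          intro χ hχ
          rw [Finset.mem_filter] at hχ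
          rw [(hefact χ hχ.1).2, hχ.2]
          ring
      _ = (F.filter (fun χ => e χ = a)).card * (p ^ 2) ^ a := by
          rw [Finset.sum_const, smul_eq_mul]
      _ ≤ Nat.totient (p ^ 3) * (p ^ 2) ^ a := Nat.mul_le_mul_right _ (hcount a)
  have htot : Nat.totient (p ^ 3) + p ^ 2 = p ^ 3 := by
    rw [Nat.totient_prime_pow hp (by norm_num)]
    obtain ⟨r, rfl⟩ : ∃ r, p = r + 1 := ⟨p - 1, by have := hp.pos; omega⟩
    simp only [Nat.add_sub_cancel]
    ring
  have hS := geom_identity (p ^ 2) b hb1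
  have hX : (p ^ 2) ^ b = Cfsg.charDegree (χ₁ : P → ℂ) ^ 2 := by rw [hb]; ring
  rw [← hX] at hf
  exact final_arith p _ _ _ _ _ _ hp.two_le (pow_pos (pow_pos hp.pos 2) b) hFsum hidx hf hbound
    htot hS

end Core

section Main

/-- Under `SameDegGal`, a non-abelian `p`-group has `|P'| = p`. -/
theorem card_commutator_of_sameDegGal (p : ℕ) [Fact p.Prime] :
    ∀ (n : ℕ) (P : Type u) [Group P] [Finite P], Nat.card P = n → IsPGroup p P →
      ¬ IsMulCommutative P → SameDegGal P → Nat.card (commutator P) = p := by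
  intro n
  induction n using Nat.strong_induction_on with
  | _ n ih =>
    intro P _ _ hcard hP hna h
    have hp := (Fact.out : p.Prime)
    have hcne : commutator P ≠ ⊥ := by
      intro hb
      apply hna
      refine ⟨⟨fun a b => ?_⟩⟩
      have h1 : ⁅a, b⁆ ∈ commutator P :=
        Subgroup.commutator_mem_commutator (Subgroup.mem_top a) (Subgroup.mem_top b)
      rw [hb, Subgroup.mem_bot, commutatorElement_eq_one_iff_mul_comm] at h1
      exact h1
    obtain ⟨z, hzc, hz1, hzz⟩ :=
      Helper53.exists_mem_center_of_normal_of_ne_bot hP (commutator P) hcne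
    obtain ⟨m, hm⟩ := hP.exists_card_eq
    have hord : orderOf z ∣ p ^ m := by rw [← hm]; exact orderOf_dvd_natCard z
    obtain ⟨e, -, he⟩ := (Nat.dvd_prime_pow hp).mp hord
    have he0 : e ≠ 0 := by
      intro h0
      rw [h0, pow_zero] at he
      exact hz1 (orderOf_eq_one_iff.mp he)
    have hpdvd : p ∣ orderOf z := by rw [he]; exact dvd_pow_self p he0
    have hwo : orderOf (z ^ (orderOf z / p)) = p :=
      orderOf_pow_orderOf_div (orderOf_pos z).ne' hpdvd
    obtain ⟨N, hNdef⟩ : ∃ N : Subgroup P, N = Subgroup.zpowers (z ^ (orderOf z / p)) := ⟨_, rfl⟩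
    have hNcard : Nat.card N = p := by rw [hNdef, Nat.card_zpowers, hwo]
    have hNc : N ≤ commutator P := by
      rw [hNdef, Subgroup.zpowers_le]; exact (commutator P).pow_mem hzc _
    have hNz : N ≤ Subgroup.center P := by
      rw [hNdef, Subgroup.zpowers_le]; exact (Subgroup.center P).pow_mem hzz _
    haveI : N.Normal := normal_of_le_center' N hNz
    by_cases hle : commutator P ≤ N
    · rw [← hNcard, le_antisymm hle hNc]
    · exfalso
      have hnaq : ¬ IsMulCommutative (P ⧸ N) := by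
        intro hcomm
        apply hle
        rw [commutator_def, Subgroup.commutator_le]
        intro a _ b _
        rw [← QuotientGroup.eq_one_iff]
        have h2 : ((⁅a, b⁆ : P) : P ⧸ N) = ⁅(a : P ⧸ N), (b : P ⧸ N)⁆ := rfl
        rw [h2, commutatorElement_eq_one_iff_mul_comm]
        exact hcomm.is_comm.comm _ _
      have e3 := Subgroup.card_eq_card_quotient_mul_card_subgroup N
      have hcq : Nat.card (P ⧸ N) < n := by
        rw [hcard, hNcard] at e3
        have hpos : 0 < Nat.card (P ⧸ N) := Nat.card_pos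
        nlinarith [hp.one_lt]
      have hq := ih (Nat.card (P ⧸ N)) hcq (P ⧸ N) rfl (hP.to_quotient N) hnaq (h.quotient N)
      have h2 : Nat.card (commutator P) = p ^ 2 := by
        have hmap : commutator (P ⧸ N) = (commutator P).map (QuotientGroup.mk' N) := by
          rw [commutator_def, commutator_def, Subgroup.map_commutator,
            Subgroup.map_top_of_surjective _ (QuotientGroup.mk'_surjective N)]
        have hcomap : (commutator (P ⧸ N)).comap (QuotientGroup.mk' N) = commutator P := by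
          rw [hmap, QuotientGroup.comap_map_mk']
          exact sup_eq_right.mpr hNc
        have hidx : (commutator (P ⧸ N)).index = (commutator P).index := by
          rw [← hcomap, Subgroup.index_comap_of_surjective _ (QuotientGroup.mk'_surjective N)]
        have e1 := (commutator P).card_mul_index
        have e2 := (commutator (P ⧸ N)).card_mul_index
        rw [hq, hidx] at e2
        rw [hNcard, ← e2, ← e1] at e3
        have hidxpos : 0 < (commutator P).index :=
          Nat.pos_of_ne_zero Subgroup.index_ne_zero_of_finite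
        have e4 : Nat.card (commutator P) * (commutator P).index
            = p ^ 2 * (commutator P).index := by rw [e3]; ring
        exact Nat.eq_of_mul_eq_mul_right hidxpos e4
      by_cases hab : commutator P ≤ Subgroup.center P
      · exact false_of_central p hP h N hNcard hNc h2 hab
      · exact false_of_noncentral p hP h N hNcard hNc hNz hq h2 hab

end Main

end Cfsg.Agent.Lib.Helper80
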