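import Mathlib
import Cfsg.Agent.Lib.Helper10.PrimSolv
import Cfsg.Agent.Lib.Helper71.MaxSolv

/-!
# Group-theoretic part of Winter's theorem on solvable linear groups

Fixed points of a `p`-element acting by conjugation, the index of a maximal subgroup of a solvable
group on which a `p`-element acts nontrivially, and the reduction to a normal `r`-subgroup of
class two.
-/

set_option autoImplicit false
set_option linter.style.haveILetI false

namespace Cfsg.Agent.Lib.Helper80

open scoped commutatorElement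

universe u

/-- The arithmetic conclusion of Winter's theorem. -/
def WGood (p n : ℕ) : Prop :=
  ∃ q : ℕ, IsPrimePow q ∧ q ∣ n ∧
    ((q : ℤ) ≡ -1 [ZMOD p] ∨ (q : ℤ) ≡ 0 [ZMOD p] ∨ (q : ℤ) ≡ 1 [ZMOD p])

theorem WGood.mono {p n m : ℕ} (h : WGood p n) (hd : n ∣ m) : WGood p m := by
  obtain ⟨q, h1, h2, h3⟩ := h
  exact ⟨q, h1, h2.trans hd, h3⟩

theorem wgood_of_dvd {p n : ℕ} (hp : p.Prime) (h : p ∣ n) : WGood p n :=
  ⟨p, hp.isPrimePow, h, Or.inr (Or.inl (Int.modEq_zero_iff_dvd.mpr dvd_rfl))⟩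

section FP

variable {G : Type*} [Group G]

/-- A `p`-element acting by conjugation on a finite invariant set has a number of fixed points
congruent to the size of the set modulo `p`. -/
theorem card_modEq_card_conj_fixed (p : ℕ) [Fact p.Prime] (S : Set G) [Finite S]
    (x : G) (a : ℕ) (hx : x ^ p ^ a = 1) (hS : ∀ s ∈ S, x * s * x⁻¹ ∈ S) :
    Nat.card S ≡ Nat.card {s : G // s ∈ S ∧ x * s * x⁻¹ = s} [MOD p] := by
  classical
  haveI := Fintype.ofFinite S
  let f : Function.End S := fun s => ⟨x * s.1 * x⁻¹, hS s.1 s.2⟩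
  have hfk : ∀ k : ℕ, ∀ s : S, (((f ^ k) s : S) : G) = x ^ k * s.1 * (x ^ k)⁻¹ := by
    intro k
    induction k with
    | zero =>
      intro s
      simp only [pow_zero, one_mul, inv_one, mul_one]
      rfl
    | succ k ih =>
      intro s
      have h1 : (f ^ (k + 1)) s = f ((f ^ k) s) := by
        rw [pow_succ']; rfl
      rw [h1]
      show x * (((f ^ k) s : S) : G) * x⁻¹ = _
      rw [ih s, pow_succ']
      group
  have hf : f ^ p ^ a = 1 := by
    funext s
    apply Subtype.ext
    rw [hfk, hx]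
    simp only [one_mul, inv_one, mul_one]
    rfl
  have h2 := Equiv.Perm.card_fixedPoints_modEq hf
  rw [← Nat.card_eq_fintype_card, ← Nat.card_eq_fintype_card] at h2
  have h3 : Nat.card (Function.fixedPoints f) = Nat.card {s : G // s ∈ S ∧ x * s * x⁻¹ = s} := by
    apply Nat.card_congr
    exact
      { toFun := fun t => ⟨t.1.1, t.1.2, congrArg Subtype.val t.2⟩
        invFun := fun t => ⟨⟨t.1, t.2.1⟩, Subtype.ext t.2.2⟩
        left_inv := fun t => rfl
        right_inv := fun t => rfl }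
  rw [h3] at h2
  exact h2

/-- Subgroup version of the fixed-point congruence. -/
theorem card_modEq_card_inf_centralizer (p : ℕ) [Fact p.Prime] (V : Subgroup G) [Finite V]
    (x : G) (a : ℕ) (hx : x ^ p ^ a = 1) (hV : ∀ v ∈ V, x * v * x⁻¹ ∈ V) :
    Nat.card V ≡ Nat.card (V ⊓ Subgroup.centralizer ({x} : Set G) : Subgroup G) [MOD p] := by
  have h1 := card_modEq_card_conj_fixed p (V : Set G) x a hx hV
  have h2 : Nat.card {s : G // s ∈ (V : Set G) ∧ x * s * x⁻¹ = s} =
      Nat.card (V ⊓ Subgroup.centralizer ({x} : Set G) : Subgroup G) := by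
    apply Nat.card_congr
    apply Equiv.subtypeEquivRight
    intro s
    rw [Subgroup.mem_inf, Subgroup.mem_centralizer_singleton_iff, SetLike.mem_coe]
    constructor
    · rintro ⟨h3, h4⟩
      refine ⟨h3, ?_⟩
      calc s * x = (x * s * x⁻¹) * x := by rw [h4]
        _ = x * s := by group
    · rintro ⟨h3, h4⟩
      refine ⟨h3, ?_⟩
      rw [← h4]
      group
  rw [h2] at h1
  exact h1

end FP

section SylowLemmas

variable {G : Type*} [Group G] [Finite G] {p : ℕ} [Fact p.Prime]

/-- A normal Sylow subgroup of a normal subgroup is normal in the whole group. -/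
theorem sylow_map_normal (N : Subgroup G) [N.Normal] (Q : Sylow p N)
    (h : (Q : Subgroup N).Normal) : ((Q : Subgroup N).map N.subtype).Normal := by
  haveI := Sylow.characteristic_of_normal Q h
  exact ConjAct.normal_of_characteristic_of_normal

/-- A Sylow subgroup contained in a normal subgroup all of whose Sylow subgroups are normal is
normal. -/
theorem sylow_normal_of_le_normal (N : Subgroup G) [N.Normal]
    (hN : ∀ Q : Sylow p N, (Q : Subgroup N).Normal) (P : Sylow p G) (hle : (P : Subgroup G) ≤ N) :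
    (P : Subgroup G).Normal := by
  have h1 := sylow_map_normal N (P.subtype hle) (hN _)
  rw [Sylow.coe_subtype, Subgroup.map_subgroupOf_eq_of_le hle] at h1
  exact h1

/-- If one Sylow subgroup is normal then all are. -/
theorem sylow_normal_of_one (P₁ P : Sylow p G) (h : (P₁ : Subgroup G).Normal) :
    (P : Subgroup G).Normal := by
  haveI := Sylow.unique_of_normal P₁ h
  rw [Subsingleton.elim P P₁]
  exact h

/-- A `p`-element lies in a normal Sylow `p`-subgroup. -/
theorem mem_of_normal_sylow (Q : Sylow p G) (h : (Q : Subgroup G).Normal) {y : G} {k : ℕ}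
    (hy : y ^ p ^ k = 1) : y ∈ (Q : Subgroup G) := by
  have h1 : orderOf y ∣ p ^ k := orderOf_dvd_of_pow_eq_one hy
  obtain ⟨j, -, hj⟩ := (Nat.dvd_prime_pow Fact.out).mp h1
  have h2 : IsPGroup p (Subgroup.zpowers y) := by
    apply IsPGroup.of_card (n := j)
    rw [Nat.card_zpowers, hj]
  obtain ⟨Q', hQ'⟩ := h2.exists_le_sylow
  haveI := Sylow.unique_of_normal Q h
  rw [Subsingleton.elim Q Q']
  exact hQ' (Subgroup.mem_zpowers y)

end SylowLemmas

section Prim

variable {G : Type u} [Group G] [Finite G]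

omit [Finite G] in
/-- A subgroup of `H` normalized by `H` and by `V`, where `H ⊔ V = ⊤`, lies in the normal core
of `H`. -/
theorem le_normalCore_of_normalized (H V K : Subgroup G) (hsup : H ⊔ V = ⊤) (hKH : K ≤ H)
    (hH : ∀ h ∈ H, ∀ k ∈ K, h * k * h⁻¹ ∈ K) (hV : ∀ v ∈ V, ∀ k ∈ K, v * k * v⁻¹ ∈ K) :
    K ≤ H.normalCore := by
  have hnorm : K.Normal := by
    rw [← Subgroup.normalizer_eq_top_iff]
    have h1 : ∀ g : G, (∀ k ∈ K, g * k * g⁻¹ ∈ K) → (∀ k ∈ K, g⁻¹ * k * g⁻¹⁻¹ ∈ K) →
        g ∈ Subgroup.normalizer (K : Set G) := by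
      intro g h2 h3
      rw [Subgroup.mem_normalizer_iff]
      intro k
      constructor
      · exact h2 k
      · intro h4
        have := h3 _ h4
        have e : g⁻¹ * (g * k * g⁻¹) * g⁻¹⁻¹ = k := by group
        rwa [e] at this
    rw [eq_top_iff, ← hsup, sup_le_iff]
    constructor
    · intro h hh
      exact h1 h (hH h hh) (hH h⁻¹ (H.inv_mem hh))
    · intro v hv
      exact h1 v (hV v hv) (hV v⁻¹ (V.inv_mem hv))
  exact Subgroup.normal_le_normalCore.mpr hKH

/-- A `p`-element of a maximal subgroup `H` of a solvable group, outside the normal core of `H`,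
forces a prime power dividing the index of `H` that is `0` or `1` modulo `p`. -/
theorem prim_step (hsolv : Group.IsSolvable G) (p : ℕ) [Fact p.Prime] (H : Subgroup G)
    (hH : IsCoatom H) (x : G) (hxH : x ∈ H) (hxN : x ∉ H.normalCore) (a : ℕ)
    (hxa : x ^ p ^ a = 1) :
    ∃ r d : ℕ, r.Prime ∧ 0 < d ∧ r ^ d ∣ H.index ∧ (r = p ∨ r ^ d ≡ 1 [MOD p]) := by
  classical
  obtain ⟨N, hNdef⟩ : ∃ N : Subgroup G, N = H.normalCore := ⟨_, rfl⟩
  haveI hNn : N.Normal := by rw [hNdef]; infer_instance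
  have hNH : N ≤ H := by rw [hNdef]; exact H.normalCore_le
  rw [← hNdef] at hxN
  obtain ⟨π, hπdef⟩ : ∃ π : G →* G ⧸ N, π = QuotientGroup.mk' N := ⟨_, rfl⟩
  have hπs : Function.Surjective π := by rw [hπdef]; exact QuotientGroup.mk'_surjective N
  have hker : π.ker = N := by rw [hπdef]; exact QuotientGroup.ker_mk' N
  have hπ1 : ∀ g : G, π g = 1 ↔ g ∈ N := by
    intro g
    rw [← MonoidHom.mem_ker, hker]
  haveI := hsolv
  -- a minimal normal subgroup of the quotient
  have hne : {V : Subgroup (G ⧸ N) | V.Normal ∧ V ≠ ⊥}.Nonempty := by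
    refine ⟨⊤, inferInstance, ?_⟩
    intro h
    have h1 : π x ∈ (⊥ : Subgroup (G ⧸ N)) := by rw [← h]; exact Subgroup.mem_top _
    rw [Subgroup.mem_bot] at h1
    exact hxN ((hπ1 x).mp h1)
  obtain ⟨Vb, ⟨hVn, hVbot⟩, hmin⟩ :=
    (Set.toFinite {V : Subgroup (G ⧸ N) | V.Normal ∧ V ≠ ⊥}).exists_minimal hne
  haveI := hVn
  have hmin' : ∀ K : Subgroup (G ⧸ N), K.Normal → K ≤ Vb → K = ⊥ ∨ K = Vb := by
    intro K hK hKV
    by_cases hb : K = ⊥
    · exact Or.inl hb
    · exact Or.inr (le_antisymm hKV (hmin ⟨hK, hb⟩ hKV))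
  have hcomm := Cfsg.Agent.Lib.Helper10.comm_of_minimal_normal_solvable Vb hmin'
  obtain ⟨r, d, hr, hd, hcard⟩ :=
    Cfsg.Agent.Lib.Helper10.exists_prime_pow_card_of_minimal_normal Vb hVbot hmin'
  -- the preimage of the minimal normal subgroup
  obtain ⟨V, hVdef⟩ : ∃ V : Subgroup G, V = Vb.comap π := ⟨_, rfl⟩
  haveI hVnorm : V.Normal := by rw [hVdef]; exact hVn.comap π
  have hmemV : ∀ g : G, g ∈ V ↔ π g ∈ Vb := by
    intro g; rw [hVdef]; exact Subgroup.mem_comap
  have hVH : ¬ V ≤ H := by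
    intro h
    have h1 : V ≤ N := by rw [hNdef]; exact Subgroup.normal_le_normalCore.mpr h
    apply hVbot
    rw [eq_bot_iff]
    intro y hy
    obtain ⟨g, rfl⟩ := hπs y
    have : g ∈ N := h1 ((hmemV g).mpr hy)
    rw [Subgroup.mem_bot]
    exact (hπ1 g).mpr this
  have hsup : H ⊔ V = ⊤ := by
    apply hH.2
    exact lt_of_le_of_ne le_sup_left (fun h => hVH (by rw [h]; exact le_sup_right))
  have hcore : ∀ K : Subgroup G, K ≤ H → (∀ h ∈ H, ∀ k ∈ K, h * k * h⁻¹ ∈ K) →
      (∀ v ∈ V, ∀ k ∈ K, v * k * v⁻¹ ∈ K) → K ≤ N := by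
    intro K h1 h2 h3
    rw [hNdef]
    exact le_normalCore_of_normalized H V K hsup h1 h2 h3
  have hmodN : ∀ g g' : G, π g = π g' → g' ∈ H → g ∈ H := by
    intro g g' h hg'
    have h1 : g * g'⁻¹ ∈ N := by
      rw [← hπ1, map_mul, map_inv, h, mul_inv_cancel]
    have : g = (g * g'⁻¹) * g' := by group
    rw [this]
    exact H.mul_mem (hNH h1) hg'
  have hHV : H ⊓ V ≤ N := by
    apply hcore _ inf_le_left
    · intro h hh k hk
      exact ⟨H.mul_mem (H.mul_mem hh hk.1) (H.inv_mem hh), hVnorm.conj_mem k hk.2 h⟩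
    · intro v hv k hk
      refine ⟨?_, hVnorm.conj_mem k hk.2 v⟩
      apply hmodN _ k _ hk.1
      rw [map_mul, map_mul, map_inv]
      have := hcomm (π v) ((hmemV v).mp hv) (π k) ((hmemV k).mp hk.2)
      rw [this]; group
  -- the images in the quotient
  obtain ⟨Hb, hHbdef⟩ : ∃ Hb : Subgroup (G ⧸ N), Hb = H.map π := ⟨_, rfl⟩
  have hidx : Hb.index = H.index := by
    rw [hHbdef]; exact Subgroup.index_map_eq H hπs (by rw [hker]; exact hNH)
  have hsupb : Hb ⊔ Vb = ⊤ := by
    have h1 : (H ⊔ V).map π = ⊤ := by rw [hsup]; exact Subgroup.map_top_of_surjective π hπs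
    rw [Subgroup.map_sup, hVdef, Subgroup.map_comap_eq_self_of_surjective hπs] at h1
    rw [hHbdef]; exact h1
  have hinfb : Hb ⊓ Vb = ⊥ := by
    rw [eq_bot_iff]
    intro y hy
    rw [hHbdef] at hy
    obtain ⟨⟨h, hh, rfl⟩, hy2⟩ := hy
    have : h ∈ N := hHV ⟨hh, (hmemV h).mpr hy2⟩
    rw [Subgroup.mem_bot]
    exact (hπ1 h).mpr this
  have hidx2 : Hb.index = Nat.card Vb := by
    rw [← Subgroup.relIndex_top_right, ← hsupb,
      ← Cfsg.Agent.Lib.Helper71.relIndex_eq_relIndex_sup_of_normal_right Hb Vb,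
      ← Subgroup.inf_relIndex_right, hinfb, Subgroup.relIndex_bot_left]
  -- the fixed points of `π x` on `Vb`
  have hxb : (π x) ^ p ^ a = 1 := by rw [← map_pow, hxa, map_one]
  have hFP := card_modEq_card_inf_centralizer p Vb (π x) a hxb
    (fun v hv => hVn.conj_mem v hv (π x))
  obtain ⟨F, hFdef⟩ : ∃ F : Subgroup (G ⧸ N),
      F = Vb ⊓ Subgroup.centralizer ({π x} : Set (G ⧸ N)) := ⟨_, rfl⟩
  rw [← hFdef] at hFP
  have hFV : F ≤ Vb := by rw [hFdef]; exact inf_le_left
  have hFne : F ≠ Vb := by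
    intro hF
    have hcen : ∀ v ∈ Vb, v * π x = π x * v := by
      intro v hv
      have : v ∈ F := by rw [hF]; exact hv
      rw [hFdef] at this
      exact Subgroup.mem_centralizer_singleton_iff.mp this.2
    have hK := hcore (H ⊓ (Subgroup.centralizer (Vb : Set (G ⧸ N))).comap π) inf_le_left ?_ ?_
    · apply hxN
      apply hK
      refine ⟨hxH, ?_⟩
      show π x ∈ Subgroup.centralizer (Vb : Set (G ⧸ N))
      rw [Subgroup.mem_centralizer_iff]
      intro v hv
      exact hcen v hv
    · intro h hh k hk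
      refine ⟨H.mul_mem (H.mul_mem hh hk.1) (H.inv_mem hh), ?_⟩
      have hn : ((Subgroup.centralizer (Vb : Set (G ⧸ N))).comap π).Normal :=
        Subgroup.Normal.comap inferInstance π
      exact hn.conj_mem k hk.2 h
    · intro v hv k hk
      have hk2 : π k ∈ Subgroup.centralizer (Vb : Set (G ⧸ N)) := hk.2
      have e : π (v * k * v⁻¹) = π k := by
        rw [map_mul, map_mul, map_inv]
        have := (Subgroup.mem_centralizer_iff.mp hk2) (π v) ((hmemV v).mp hv)
        rw [this]; group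
      refine ⟨hmodN _ k e hk.1, ?_⟩
      show π (v * k * v⁻¹) ∈ Subgroup.centralizer (Vb : Set (G ⧸ N))
      rw [e]
      exact hk2
  -- arithmetic
  have hFcard : Nat.card F ∣ Nat.card Vb := Subgroup.card_dvd_of_le hFV
  rw [hcard] at hFcard hFP
  obtain ⟨c, hcd, hFc⟩ := (Nat.dvd_prime_pow hr).mp hFcard
  have hcd' : c < d := by
    rcases Nat.lt_or_ge c d with h | h
    · exact h
    · exfalso
      have hc : c = d := le_antisymm hcd h
      apply hFne
      apply Subgroup.eq_of_le_of_card_ge hFV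
      rw [hcard, hFc, hc]
  rw [hFc] at hFP
  by_cases hrp : r = p
  · exact ⟨r, d, hr, hd, by rw [← hidx, hidx2, hcard], Or.inl hrp⟩
  · refine ⟨r, d - c, hr, by omega, ?_, Or.inr ?_⟩
    · rw [← hidx, hidx2, hcard]
      exact pow_dvd_pow r (by omega)
    · have hcop : Nat.gcd p (r ^ c) = 1 := by
        apply Nat.Coprime.pow_right
        exact (Nat.coprime_primes Fact.out hr).mpr (fun h => hrp h.symm)
      have h1 : r ^ c * r ^ (d - c) ≡ r ^ c * 1 [MOD p] := by
        rw [← pow_add, mul_one]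
        have : c + (d - c) = d := by omega
        rw [this]; exact hFP
      exact Nat.ModEq.cancel_left_of_coprime hcop h1

/-- If all proper normal subgroups of the solvable group `G` have normal Sylow `p`-subgroups
but `G` does not, then every proper subgroup of index prime to `p` has index divisible by a prime
power congruent to `1` modulo `p`. -/
theorem imprim_step (hsolv : Group.IsSolvable G) (p : ℕ) [Fact p.Prime]
    (hB : ∀ N : Subgroup G, N.Normal → N ≠ ⊤ → ∀ Q : Sylow p N, (Q : Subgroup N).Normal)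
    (P : Sylow p G) (hP : ¬ (P : Subgroup G).Normal) (T : Subgroup G) (hT : T ≠ ⊤)
    (hpT : ¬ p ∣ T.index) : WGood p T.index := by
  classical
  obtain ⟨H, hH, hTH⟩ := (eq_top_or_exists_le_coatom T).resolve_left hT
  have hidx : H.index ∣ T.index := Subgroup.index_dvd_of_le hTH
  have hpH : ¬ p ∣ H.index := fun h => hpT (h.trans hidx)
  -- a Sylow subgroup of `G` inside `H`
  obtain ⟨Q⟩ : Nonempty (Sylow p H) := inferInstance
  have hR1 : IsPGroup p ((Q : Subgroup H).map H.subtype) := Q.2.map _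
  have hR2 : ¬ p ∣ ((Q : Subgroup H).map H.subtype).index := by
    rw [Subgroup.index_map_subtype]
    exact (Nat.Prime.not_dvd_mul Fact.out Q.not_dvd_index hpH)
  obtain ⟨P₁, hP₁⟩ : ∃ P₁ : Sylow p G, (P₁ : Subgroup G) = (Q : Subgroup H).map H.subtype :=
    ⟨hR1.toSylow hR2, rfl⟩
  have hP₁H : (P₁ : Subgroup G) ≤ H := by rw [hP₁]; exact Subgroup.map_subtype_le _
  have hNt : H.normalCore ≠ ⊤ := by
    intro h
    apply hH.1
    rw [eq_top_iff, ← h]
    exact H.normalCore_le
  by_cases hle : (P₁ : Subgroup G) ≤ H.normalCore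
  · exfalso
    apply hP
    haveI : (H.normalCore).Normal := inferInstance
    exact sylow_normal_of_one P₁ P
      (sylow_normal_of_le_normal H.normalCore (hB _ inferInstance hNt) P₁ hle)
  · obtain ⟨x, hx, hxN⟩ := SetLike.not_le_iff_exists.mp hle
    obtain ⟨a, ha⟩ := P₁.2 ⟨x, hx⟩
    have hxa : x ^ p ^ a = 1 := by
      have := congrArg Subtype.val ha
      simpa using this
    obtain ⟨r, d, hr, hd, hdvd, hcong⟩ := prim_step hsolv p H hH x (hP₁H hx) hxN a hxa
    refine ⟨r ^ d, hr.isPrimePow.pow hd.ne', hdvd.trans hidx, ?_⟩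
    rcases hcong with h | h
    · refine Or.inr (Or.inl ?_)
      rw [Int.modEq_zero_iff_dvd, ← h]
      exact_mod_cast dvd_pow_self r hd.ne'
    · refine Or.inr (Or.inr ?_)
      exact_mod_cast Int.natCast_modEq_iff.mpr h

end Prim

section Special

variable {G : Type u} [Group G] [Finite G]

/-- An element all of whose powers of prime power order lie in a subgroup lies in it. -/
theorem mem_of_primePow_pows (S : Subgroup G) : ∀ (n : ℕ) (u : G), orderOf u = n →
    (∀ j r k : ℕ, r.Prime → (u ^ j) ^ r ^ k = 1 → u ^ j ∈ S) → u ∈ S := by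
  intro n
  induction n using Nat.strong_induction_on with
  | _ n ih =>
    intro u hu hyp
    have hn0 : n ≠ 0 := by rw [← hu]; exact (orderOf_pos u).ne'
    have hun : u ^ n = 1 := by rw [← hu]; exact pow_orderOf_eq_one u
    by_cases hn1 : n = 1
    · rw [hn1, orderOf_eq_one_iff] at hu
      rw [hu]; exact S.one_mem
    · obtain ⟨r, hr, hrn⟩ := Nat.exists_prime_and_dvd hn1
      obtain ⟨e, he⟩ : ∃ e, e = n.factorization r := ⟨_, rfl⟩
      obtain ⟨b, hb⟩ : ∃ b, b = n / r ^ e := ⟨_, rfl⟩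
      have hmul : r ^ e * b = n := by
        rw [hb, he]; exact Nat.ordProj_mul_ordCompl_eq_self n r
      have hcop : Nat.Coprime (r ^ e) b := by
        rw [hb, he]; exact Nat.Coprime.pow_left _ (Nat.coprime_ordCompl hr hn0)
      have he1 : 1 ≤ e := by
        rw [he]; exact (hr.factorization_pos_of_dvd hn0 hrn)
      have hre : 2 ≤ r ^ e := by
        calc 2 ≤ r := hr.two_le
          _ = r ^ 1 := (pow_one r).symm
          _ ≤ r ^ e := Nat.pow_le_pow_right hr.pos he1
      have hb0 : b ≠ 0 := by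
        rintro rfl
        rw [mul_zero] at hmul
        exact hn0 hmul.symm
      by_cases hb1 : b = 1
      · have h1 : r ^ e = n := by rw [← hmul, hb1, mul_one]
        have h2 := hyp 1 r e hr (by rw [pow_one, h1]; exact hun)
        rwa [pow_one] at h2
      · have hb2 : 2 ≤ b := by omega
        have h1 : u ^ r ^ e ∈ S := by
          apply ih b (by nlinarith) (u ^ r ^ e)
          · rw [orderOf_pow_of_dvd (by positivity) (by rw [hu, ← hmul]; exact dvd_mul_right _ _),
              hu, hb]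
          · intro j r' k hr' hj
            have h3 := hyp (r ^ e * j) r' k hr' (by rw [pow_mul]; exact hj)
            rw [pow_mul] at h3
            exact h3
        have h2 : u ^ b ∈ S := by
          apply ih (r ^ e) (by nlinarith) (u ^ b)
          · rw [orderOf_pow_of_dvd hb0 (by rw [hu, ← hmul]; exact dvd_mul_left _ _), hu]
            exact Nat.div_eq_of_eq_mul_left (by omega) hmul.symm
          · intro j r' k hr' hj
            have h3 := hyp (b * j) r' k hr' (by rw [pow_mul]; exact hj)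
            rw [pow_mul] at h3
            exact h3
        have hco : IsCoprime ((r ^ e : ℕ) : ℤ) (b : ℤ) := Nat.isCoprime_iff_coprime.mpr hcop
        obtain ⟨s, t, hst⟩ := hco
        have hu1 : u = (u ^ r ^ e) ^ s * (u ^ b) ^ t := by
          calc u = u ^ (1 : ℤ) := (zpow_one u).symm
            _ = u ^ (s * ((r ^ e : ℕ) : ℤ) + t * (b : ℤ)) := by rw [hst]
            _ = (u ^ r ^ e) ^ s * (u ^ b) ^ t := by
              rw [zpow_add, zpow_mul', zpow_mul', zpow_natCast, zpow_natCast]
        rw [hu1]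
        exact S.mul_mem (S.zpow_mem h1 s) (S.zpow_mem h2 t)

/-- The group-theoretic reduction in Winter's theorem: a solvable group whose proper normal
subgroups have normal Sylow `p`-subgroups, whose abelian normal subgroups and normal
`p`-subgroups are central, and whose Sylow `p`-subgroup is not normal, has a normal `r`-subgroup
`E` of class at most two, `r ≠ p`, whose centre is central in `G`, on which some `p`-element acts
nontrivially. -/
theorem exists_special_normal (hsolv : Group.IsSolvable G) (p : ℕ) [Fact p.Prime]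
    (hB : ∀ N : Subgroup G, N.Normal → N ≠ ⊤ → ∀ Q : Sylow p N, (Q : Subgroup N).Normal)
    (hab : ∀ N : Subgroup G, N.Normal → (∀ a ∈ N, ∀ b ∈ N, a * b = b * a) →
      N ≤ Subgroup.center G)
    (hpc : ∀ N : Subgroup G, N.Normal → IsPGroup p N → N ≤ Subgroup.center G)
    (P : Sylow p G) (hP : ¬ (P : Subgroup G).Normal) :
    ∃ (E : Subgroup G) (r : ℕ) (x : G) (a : ℕ), E.Normal ∧ r.Prime ∧ r ≠ p ∧ IsPGroup r E ∧
      (∀ u ∈ E, ∀ v ∈ E, ⁅u, v⁆ ∈ Subgroup.center G) ∧
      (∀ z ∈ E, (∀ u ∈ E, z * u = u * z) → z ∈ Subgroup.center G) ∧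
      x ^ p ^ a = 1 ∧ ∃ u ∈ E, x * u ≠ u * x := by
  classical
  haveI := hsolv
  -- central subgroups are normal
  have hcn : ∀ K : Subgroup G, K ≤ Subgroup.center G → K.Normal := by
    intro K hK
    constructor
    intro n hn g
    have h1 := Subgroup.mem_center_iff.mp (hK hn) g
    have e : g * n * g⁻¹ = n := by rw [h1]; group
    rw [e]; exact hn
  -- the family of normal subgroups not centralized by `P`
  obtain ⟨F, hFdef⟩ : ∃ F : Set (Subgroup G), F = {E | E.Normal ∧
      ¬ ∀ y ∈ (P : Subgroup G), ∀ u ∈ E, y * u = u * y} := ⟨_, rfl⟩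
  have hFne : F.Nonempty := by
    refine ⟨⊤, ?_⟩
    rw [hFdef]
    refine ⟨inferInstance, ?_⟩
    intro h
    apply hP
    apply hcn
    intro y hy
    rw [Subgroup.mem_center_iff]
    intro g
    exact (h y hy g (Subgroup.mem_top g)).symm
  obtain ⟨E, hEF, hmin⟩ := (Set.toFinite F).exists_minimal hFne
  have hEF' : E.Normal ∧ ¬ ∀ y ∈ (P : Subgroup G), ∀ u ∈ E, y * u = u * y := by
    rw [hFdef] at hEF; exact hEF
  obtain ⟨hEn, hEP⟩ := hEF'
  haveI := hEn
  have hmin' : ∀ K : Subgroup G, K.Normal → K ≤ E → K ≠ E →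
      ∀ y ∈ (P : Subgroup G), ∀ u ∈ K, y * u = u * y := by
    intro K hK hKE hne
    by_contra hcon
    apply hne
    apply le_antisymm hKE
    have hmem : K ∈ F := by rw [hFdef]; exact ⟨hK, hcon⟩
    exact hmin hmem hKE
  -- `E` is a proper subgroup
  have hEtop : E ≠ ⊤ := by
    intro hE
    haveI : Nontrivial G := by
      by_contra hnt
      rw [not_nontrivial_iff_subsingleton] at hnt
      apply hP
      have h1 : (P : Subgroup G) = ⊥ := Subsingleton.elim _ _
      rw [h1]; infer_instance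
    have hlt : commutator G < ⊤ := Group.IsSolvable.commutator_lt_top_of_nontrivial G
    obtain ⟨M, hM, hcM⟩ := (eq_top_or_exists_le_coatom (commutator G)).resolve_left hlt.ne
    have hMn : M.Normal := by
      constructor
      intro m hm g
      rw [Cfsg.Agent.Lib.Helper71.conj_eq_commutator_mul]
      exact M.mul_mem (hcM (Subgroup.commutator_mem_commutator (Subgroup.mem_top g)
        (Subgroup.mem_top m))) hm
    have hMt : M ≠ ⊤ := hM.1
    have hPM := hmin' M hMn (by rw [hE]; exact le_top) (by rw [hE]; exact hMt)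
    by_cases hle : (P : Subgroup G) ≤ M
    · apply hP
      haveI := hMn
      exact sylow_normal_of_le_normal M (hB M hMn hMt) P hle
    · apply hP
      rw [← Subgroup.normalizer_eq_top_iff]
      have hsup : M ⊔ (P : Subgroup G) = ⊤ := by
        apply hM.2
        exact lt_of_le_of_ne le_sup_left (fun h => hle (by rw [h]; exact le_sup_right))
      rw [eq_top_iff, ← hsup, sup_le_iff]
      refine ⟨?_, Subgroup.le_normalizer⟩
      intro m hm
      rw [Subgroup.mem_normalizer_iff]
      intro y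
      have key : ∀ y ∈ (P : Subgroup G), m * y * m⁻¹ = y := by
        intro y hy
        have h1 := hPM y hy m hm
        rw [← h1]; group
      constructor
      · intro hy
        rw [key y hy]; exact hy
      · intro hy
        have h2 := key _ hy
        have h3 : m⁻¹ * (m * (m * y * m⁻¹) * m⁻¹) * m = m⁻¹ * (m * y * m⁻¹) * m := by rw [h2]
        have e1 : m⁻¹ * (m * (m * y * m⁻¹) * m⁻¹) * m = m * y * m⁻¹ := by group
        have e2 : m⁻¹ * (m * y * m⁻¹) * m = y := by group
        rw [e1, e2] at h3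
        rw [← h3]; exact hy
  have hEbot : E ≠ ⊥ := by
    intro hE
    apply hEP
    intro y _ u hu
    rw [hE, Subgroup.mem_bot] at hu
    rw [hu, mul_one, one_mul]
  -- the Sylow `p`-subgroup of `E` is central in `G`
  obtain ⟨QE⟩ : Nonempty (Sylow p E) := inferInstance
  have hQEn : (QE : Subgroup E).Normal := hB E hEn hEtop QE
  have hZp : (QE : Subgroup E).map E.subtype ≤ Subgroup.center G :=
    hpc _ (sylow_map_normal E QE hQEn) (QE.2.map _)
  have hPE : ∀ y ∈ E, ∀ k : ℕ, y ^ p ^ k = 1 → y ∈ Subgroup.center G := by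
    intro y hy k hk
    apply hZp
    have h1 : (⟨y, hy⟩ : E) ∈ (QE : Subgroup E) :=
      mem_of_normal_sylow QE hQEn (k := k) (Subtype.ext (by simpa using hk))
    exact ⟨⟨y, hy⟩, h1, rfl⟩
  obtain ⟨m', hm'def⟩ : ∃ m' : ℕ, m' = (QE : Subgroup E).index := ⟨_, rfl⟩
  have hm'p : ¬ p ∣ m' := by rw [hm'def]; exact QE.not_dvd_index
  have hPE' : ∀ u ∈ E, u ^ m' ∈ Subgroup.center G := by
    intro u hu
    apply hZp
    haveI := hQEn
    have h1 := Subgroup.pow_index_mem (QE : Subgroup E) (⟨u, hu⟩ : E)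
    rw [← hm'def] at h1
    exact ⟨_, h1, by simp⟩
  -- the derived subgroup of `E` is centralized by `P`
  have hE'lt : ⁅E, E⁆ < E := Group.IsSolvable.commutator_lt_of_ne_bot hEbot
  have hPE'c : ∀ y ∈ (P : Subgroup G), ∀ w ∈ ⁅E, E⁆, y * w = w * y :=
    hmin' ⁅E, E⁆ inferInstance hE'lt.le hE'lt.ne
  -- `E` has class at most two
  have hclass : ∀ u ∈ E, ∀ w ∈ ⁅E, E⁆, u * w = w * u := by
    by_contra hcon
    obtain ⟨D, hDdef⟩ : ∃ D : Subgroup G,
        D = E ⊓ Subgroup.centralizer ((⁅E, E⁆ : Subgroup G) : Set G) := ⟨_, rfl⟩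
    have hDn : D.Normal := by rw [hDdef]; infer_instance
    have hDE : D ≤ E := by rw [hDdef]; exact inf_le_left
    have hDne : D ≠ E := by
      intro h
      apply hcon
      intro u hu w hw
      have h1 : u ∈ D := by rw [h]; exact hu
      rw [hDdef] at h1
      exact ((Subgroup.mem_centralizer_iff.mp h1.2) w hw).symm
    have hPD := hmin' D hDn hDE hDne
    apply hEP
    intro y hy u hu
    obtain ⟨k, hk⟩ := P.2 ⟨y, hy⟩
    have hyk : y ^ p ^ k = 1 := by
      have := congrArg Subtype.val hk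
      simpa using this
    obtain ⟨d, hddef⟩ : ∃ d : G, d = u⁻¹ * (y * u * y⁻¹) := ⟨_, rfl⟩
    have hdE : d ∈ E := by
      rw [hddef]; exact E.mul_mem (E.inv_mem hu) (hEn.conj_mem u hu y)
    have hdD : d ∈ D := by
      rw [hDdef]
      refine Subgroup.mem_inf.mpr ⟨hdE, ?_⟩
      rw [Subgroup.mem_centralizer_iff]
      intro w hw
      have h1 : y * w = w * y := hPE'c y hy w hw
      have hw2 : u * w * u⁻¹ ∈ ⁅E, E⁆ :=
        (inferInstance : (⁅E, E⁆ : Subgroup G).Normal).conj_mem w hw u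
      have h2 : y * (u * w * u⁻¹) = (u * w * u⁻¹) * y := hPE'c y hy _ hw2
      have h1' : w * y⁻¹ = y⁻¹ * w := by
        calc w * y⁻¹ = y⁻¹ * (y * w) * y⁻¹ := by group
          _ = y⁻¹ * (w * y) * y⁻¹ := by rw [h1]
          _ = y⁻¹ * w := by group
      rw [hddef]
      calc w * (u⁻¹ * (y * u * y⁻¹)) = u⁻¹ * ((u * w * u⁻¹) * y) * u * y⁻¹ := by group
        _ = u⁻¹ * (y * (u * w * u⁻¹)) * u * y⁻¹ := by rw [h2]
        _ = u⁻¹ * y * u * (w * y⁻¹) := by group
        _ = u⁻¹ * y * u * (y⁻¹ * w) := by rw [h1']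
        _ = u⁻¹ * (y * u * y⁻¹) * w := by group
    have hyd : y * d = d * y := hPD y hy d hdD
    have hdy : u⁻¹ * y * u = d * y := by rw [hddef]; group
    have hdk : d ^ p ^ k = 1 := by
      have h1 : (d * y) ^ p ^ k = d ^ p ^ k * y ^ p ^ k :=
        (Commute.mul_pow (show Commute d y from hyd.symm) _)
      have h2 : (d * y) ^ p ^ k = 1 := by
        have e : d * y = u⁻¹ * y * u⁻¹⁻¹ := by rw [← hdy, inv_inv]
        rw [e, conj_pow, hyk]
        group
      rw [h2, hyk, mul_one] at h1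
      exact h1.symm
    have hdc : d ∈ Subgroup.center G := hPE d hdE k hdk
    have hconj : ∀ j : ℕ, (u ^ j)⁻¹ * y * u ^ j = d ^ j * y := by
      intro j
      induction j with
      | zero => simp
      | succ j ih =>
        have h1 : u⁻¹ * d ^ j = d ^ j * u⁻¹ :=
          Subgroup.mem_center_iff.mp (Subgroup.pow_mem _ hdc j) u⁻¹
        calc (u ^ (j + 1))⁻¹ * y * u ^ (j + 1) = u⁻¹ * ((u ^ j)⁻¹ * y * u ^ j) * u := by
              rw [pow_succ]; group
          _ = u⁻¹ * (d ^ j * y) * u := by rw [ih]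
          _ = d ^ j * (u⁻¹ * y * u) := by
              rw [← mul_assoc u⁻¹ (d ^ j) y, h1]; group
          _ = d ^ j * (d * y) := by rw [hdy]
          _ = d ^ (j + 1) * y := by rw [pow_succ]; group
    have hidxc := hPE' u hu
    have h3 := hconj m'
    have h4 : (u ^ m')⁻¹ * y * u ^ m' = y := by
      have h5 := Subgroup.mem_center_iff.mp hidxc y
      rw [mul_assoc, h5]; group
    have hdm : d ^ m' = 1 := by
      rw [h4] at h3
      exact mul_right_cancel (b := y) (by rw [one_mul]; exact h3.symm)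
    have hd1 : d = 1 := by
      have h5 : orderOf d ∣ p ^ k := orderOf_dvd_of_pow_eq_one hdk
      have h6 : orderOf d ∣ m' := orderOf_dvd_of_pow_eq_one hdm
      have h7 : Nat.Coprime (p ^ k) m' :=
        Nat.Coprime.pow_left k ((Nat.Prime.coprime_iff_not_dvd Fact.out).mpr hm'p)
      have h8 : orderOf d ∣ 1 := by
        rw [← h7]; exact Nat.dvd_gcd h5 h6
      exact orderOf_eq_one_iff.mp (Nat.dvd_one.mp h8)
    rw [hddef] at hd1
    calc y * u = u * (u⁻¹ * (y * u * y⁻¹)) * y := by group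
      _ = u * y := by rw [hd1, mul_one]
  -- the centre of `E` is central in `G`
  have hZE : ∀ z ∈ E, (∀ u ∈ E, z * u = u * z) → z ∈ Subgroup.center G := by
    intro z hz hzc
    have h1 := hab (E ⊓ Subgroup.centralizer (E : Set G)) inferInstance ?_
    · apply h1
      refine Subgroup.mem_inf.mpr ⟨hz, ?_⟩
      rw [Subgroup.mem_centralizer_iff]
      intro u hu
      exact (hzc u hu).symm
    · intro a ha b hb
      exact ((Subgroup.mem_centralizer_iff.mp hb.2) a ha.1)
  have hcomm : ∀ u ∈ E, ∀ v ∈ E, ⁅u, v⁆ ∈ Subgroup.center G := by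
    intro u hu v hv
    have hw : ⁅u, v⁆ ∈ ⁅E, E⁆ := Subgroup.commutator_mem_commutator hu hv
    apply hZE _ (hE'lt.le hw)
    intro t ht
    exact (hclass t ht _ hw).symm
  -- `E` is nilpotent, so its Sylow subgroups are normal
  haveI hnil : Group.IsNilpotent E := by
    rw [Subgroup.isNilpotent_iff_lowerCentralSeries]
    refine ⟨2, Subgroup.lowerCentralSeries_succ_eq_bot E (n := 1) ?_⟩
    intro w hw
    have hw' : w ∈ ⁅E, E⁆ := hw
    apply hZE _ (hE'lt.le hw')
    intro t ht
    exact (hclass t ht _ hw').symm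
  -- an element of prime power order of `E` not centralized by some `x ∈ P`
  obtain ⟨x, hx⟩ := not_forall.mp hEP
  obtain ⟨hxP, hx2⟩ := Classical.not_imp.mp hx
  obtain ⟨u₀, hu⟩ := not_forall.mp hx2
  obtain ⟨hu₀, hxu⟩ := Classical.not_imp.mp hu
  have hex : ∃ j r k : ℕ, r.Prime ∧ (u₀ ^ j) ^ r ^ k = 1 ∧
      u₀ ^ j ∉ Subgroup.centralizer ({x} : Set G) := by
    by_contra hcon
    have hcon' : ∀ j r k : ℕ, r.Prime → (u₀ ^ j) ^ r ^ k = 1 →
        u₀ ^ j ∈ Subgroup.centralizer ({x} : Set G) := by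
      intro j r k hr h
      by_contra h'
      exact hcon ⟨j, r, k, hr, h, h'⟩
    have h1 := mem_of_primePow_pows (Subgroup.centralizer ({x} : Set G)) _ u₀ rfl hcon'
    rw [Subgroup.mem_centralizer_singleton_iff] at h1
    exact hxu h1.symm
  obtain ⟨j, r, k, hr, hwk, hwx⟩ := hex
  haveI := Fact.mk hr
  obtain ⟨w, hwdef⟩ : ∃ w : G, w = u₀ ^ j := ⟨_, rfl⟩
  rw [← hwdef] at hwk hwx
  have hwE : w ∈ E := by rw [hwdef]; exact E.pow_mem hu₀ j
  obtain ⟨Qr⟩ : Nonempty (Sylow r E) := inferInstance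
  have hQrn : (Qr : Subgroup E).Normal := inferInstance
  have hwQ : (⟨w, hwE⟩ : E) ∈ (Qr : Subgroup E) :=
    mem_of_normal_sylow Qr hQrn (k := k) (Subtype.ext (by simpa using hwk))
  have hErn : ((Qr : Subgroup E).map E.subtype).Normal := sylow_map_normal E Qr hQrn
  have hErE : (Qr : Subgroup E).map E.subtype ≤ E := Subgroup.map_subtype_le _
  have hEr : E ≤ (Qr : Subgroup E).map E.subtype := by
    have hmem : (Qr : Subgroup E).map E.subtype ∈ F := by
      rw [hFdef]
      refine ⟨hErn, ?_⟩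
      intro h
      apply hwx
      rw [Subgroup.mem_centralizer_singleton_iff]
      exact (h x hxP w ⟨⟨w, hwE⟩, hwQ, rfl⟩).symm
    exact hmin hmem hErE
  have hEr' : IsPGroup r E := (Qr.2.map E.subtype).to_le hEr
  have hrp : r ≠ p := by
    intro h
    rw [h] at hEr'
    have h1 := hpc E hEn hEr'
    exact hxu ((Subgroup.mem_center_iff.mp (h1 hu₀) x))
  obtain ⟨a, ha⟩ := P.2 ⟨x, hxP⟩
  have hxa : x ^ p ^ a = 1 := by
    have := congrArg Subtype.val ha
    simpa using this
  exact ⟨E, r, x, a, hEn, hr, hrp, hEr', hcomm, hZE, hxa, u₀, hu₀, hxu⟩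

end Special

end Cfsg.Agent.Lib.Helper80
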