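import Mathlib
import Cfsg.Prelude.Def_Characters
import Cfsg.Prelude.Def_Blocks
import Cfsg.Agent.Lib.Helper80.Winter1
import Cfsg.Agent.Lib.Helper80.CharKer
import Cfsg.Agent.Lib.Helper80.CharOps
import Cfsg.Agent.Lib.Helper80.Eigen
import Cfsg.Agent.Lib.Helper80.OneDegree
import Cfsg.Agent.Lib.Helper80.GalConj
import Cfsg.Agent.Lib.Helper15.LinChar
import Cfsg.Agent.Lib.Helper75.CliffordCorr

/-!
# Winter's theorem on solvable irreducible linear groups

If a finite solvable group has a faithful irreducible character of degree `n` and a non-normal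
Sylow `p`-subgroup, then `n` is divisible by a prime power congruent to `-1`, `0` or `1` modulo `p`.
-/

set_option autoImplicit false
set_option linter.style.haveILetI false

open scoped ComplexConjugate commutatorElement

namespace Cfsg.Agent.Lib.Helper80

universe u

section Constituents

variable {G : Type u} [Group G] [Fintype G]

/-- The restriction of an irreducible character to a subgroup has an irreducible constituent. -/
theorem exists_constituent_restrict (H : Subgroup G) [Fintype H] {χ : G → ℂ}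
    (hχ : Cfsg.IsIrrCharacter G χ) :
    ∃ θ : H → ℂ, Cfsg.IsIrrCharacter H θ ∧ Cfsg.classInner (fun n : H => χ n) θ ≠ 0 := by
  classical
  haveI : Fintype (Cfsg.IrrCharacter H) := Fintype.ofFinite _
  obtain ⟨m, hm, hsum⟩ :=
    character_expansion (isCharacter_restrict H (isCharacter_of_isIrrCharacter hχ))
  by_contra hcon
  have hz : ∀ ψ : Cfsg.IrrCharacter H, m ψ = 0 := by
    intro ψ
    by_contra h
    apply hcon
    refine ⟨ψ.1, ψ.2, ?_⟩
    rw [hm ψ]
    exact_mod_cast h
  have h1 := congrFun hsum 1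
  simp only [hz, Nat.cast_zero, zero_smul, Finset.sum_const_zero, Pi.zero_apply] at h1
  exact char_one_ne_zero hχ h1

/-- The degree of an irreducible character in terms of a constituent of its restriction to a
normal subgroup. -/
theorem constit_degree (N : Subgroup G) [N.Normal] [Fintype N] {χ : G → ℂ}
    (hχ : Cfsg.IsIrrCharacter G χ) {θ : N → ℂ} (hθ : Cfsg.IsIrrCharacter N θ)
    (h : Cfsg.classInner (fun n : N => χ n) θ ≠ 0) :
    ∃ e : ℕ, e ≠ 0 ∧ Cfsg.classInner (fun n : N => χ n) θ = e ∧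
      Cfsg.charDegree χ = e * (Helper75.inertia N θ).index * Cfsg.charDegree θ := by
  obtain ⟨e, he⟩ := classInner_nat (isCharacter_restrict N (isCharacter_of_isIrrCharacter hχ))
    (isCharacter_of_isIrrCharacter hθ)
  refine ⟨e, ?_, he, ?_⟩
  · rintro rfl
    apply h
    rw [he]; simp
  · have h1 := Helper75.res_one_eq N hχ hθ h
    rw [Helper75.card_constit_eq_index_inertia N hχ hθ h, he,
      char_one_eq_charDegree (isCharacter_of_isIrrCharacter hχ),
      char_one_eq_charDegree (isCharacter_of_isIrrCharacter hθ)] at h1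
    exact_mod_cast h1

end Constituents

section Steps

variable {G : Type u} [Group G] [Finite G]

/-- In a minimal counterexample to Winter's theorem every proper normal subgroup has a normal
Sylow `p`-subgroup. -/
theorem sylow_normal_of_proper_normal (p : ℕ) [Fact p.Prime]
    (hsolv : Group.IsSolvable G) (χ : Cfsg.IrrCharacter G)
    (hfaith : ∀ g : G, χ.1 g = χ.1 1 → g = 1) (hW : ¬ WGood p (Cfsg.charDegree χ.1))
    (IH : ∀ (H : Type u) [Group H] [Finite H], Nat.card H < Nat.card G → Group.IsSolvable H →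
      ∀ ψ : Cfsg.IrrCharacter H, (∀ g : H, ψ.1 g = ψ.1 1 → g = 1) →
      ¬ WGood p (Cfsg.charDegree ψ.1) → ∀ Q : Sylow p H, (Q : Subgroup H).Normal)
    (N : Subgroup G) [hN : N.Normal] (hNt : N ≠ ⊤) (Q : Sylow p N) :
    (Q : Subgroup N).Normal := by
  classical
  haveI := Fintype.ofFinite G
  haveI : Fintype N := Fintype.ofFinite N
  haveI := hsolv
  haveI : Fintype (Helper75.Constit N χ.1) := Fintype.ofFinite _
  have hcardN : Nat.card N < Nat.card G := by
    have h1 : Nat.card N ≤ Nat.card G := Subgroup.card_le_card_group N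
    rcases h1.lt_or_eq with h | h
    · exact h
    · exact absurd ((Subgroup.card_eq_iff_eq_top N).mp h) hNt
  -- for each constituent, the image of `Q` modulo its kernel is normal
  have hnorm : ∀ θ' : Helper75.Constit N χ.1,
      ((Q : Subgroup N).map (QuotientGroup.mk' (irrKer θ'.1))).Normal := by
    intro θ'
    obtain ⟨ψ, hψ, hψv⟩ := exists_isIrrCharacter_deflate (irrKer θ'.1) θ'.1.2
      (fun x hx => (mem_irrKer θ'.1 x).mp hx)
    have hlt : Nat.card (N ⧸ irrKer θ'.1) < Nat.card G := by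
      have h1 : Nat.card (N ⧸ irrKer θ'.1) ∣ Nat.card N := Subgroup.card_quotient_dvd_card _
      exact lt_of_le_of_lt (Nat.le_of_dvd Nat.card_pos h1) hcardN
    have hψ1 : ψ 1 = θ'.1.1 1 := by
      have := hψv 1
      rwa [QuotientGroup.mk_one] at this
    have hf : ∀ g : N ⧸ irrKer θ'.1, ψ g = ψ 1 → g = 1 := by
      intro g hg
      obtain ⟨g', rfl⟩ := QuotientGroup.mk_surjective g
      rw [hψv, hψ1] at hg
      exact (QuotientGroup.eq_one_iff g').mpr ((mem_irrKer θ'.1 g').mpr hg)
    have hdeg : Cfsg.charDegree ψ = Cfsg.charDegree θ'.1.1 := by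
      unfold Cfsg.charDegree
      rw [hψ1]
    have hw : ¬ WGood p (Cfsg.charDegree ψ) := by
      intro h
      apply hW
      rw [hdeg] at h
      obtain ⟨e, he, -, hdeg2⟩ := constit_degree N χ.2 θ'.1.2 θ'.2
      exact h.mono (by rw [hdeg2]; exact dvd_mul_left _ _)
    have h2 := IH (N ⧸ irrKer θ'.1) hlt inferInstance ⟨ψ, hψ⟩ hf hw
      (Q.mapSurjective (QuotientGroup.mk'_surjective _))
    rwa [Sylow.coe_mapSurjective] at h2
  obtain ⟨M, hMdef⟩ : ∃ M : Subgroup N, M = ⨅ θ' : Helper75.Constit N χ.1,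
      ((Q : Subgroup N).map (QuotientGroup.mk' (irrKer θ'.1))).comap
        (QuotientGroup.mk' (irrKer θ'.1)) := ⟨_, rfl⟩
  have hMn : M.Normal := by
    rw [hMdef]
    exact Subgroup.normal_iInf_normal (fun θ' => (hnorm θ').comap _)
  have hQM : (Q : Subgroup N) ≤ M := by
    rw [hMdef]
    exact le_iInf (fun θ' => Subgroup.le_comap_map _ _)
  obtain ⟨k, hk⟩ := IsPGroup.iff_card.mp Q.2
  have hMp : IsPGroup p M := by
    rintro ⟨g, hg⟩
    refine ⟨k, ?_⟩
    apply Subtype.ext
    rw [Subgroup.coe_pow, Subgroup.coe_one]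
    show g ^ p ^ k = 1
    have h1 : ∀ θ' : Helper75.Constit N χ.1, θ'.1.1 (g ^ p ^ k) = θ'.1.1 1 := by
      intro θ'
      have h2 : g ∈ ((Q : Subgroup N).map (QuotientGroup.mk' (irrKer θ'.1))).comap
          (QuotientGroup.mk' (irrKer θ'.1)) := by
        rw [hMdef] at hg
        exact (Subgroup.mem_iInf.mp hg) θ'
      rw [Subgroup.mem_comap] at h2
      obtain ⟨q, hq, hqg⟩ := h2
      have h3 : q ^ p ^ k = 1 := by
        have h4 : (⟨q, hq⟩ : (Q : Subgroup N)) ^ Nat.card (Q : Subgroup N) = 1 :=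
          pow_card_eq_one'
        rw [hk] at h4
        have := congrArg Subtype.val h4
        simpa using this
      have h5 : QuotientGroup.mk' (irrKer θ'.1) (g ^ p ^ k) = 1 := by
        rw [map_pow, ← hqg, ← map_pow, h3, map_one]
      rw [← mem_irrKer]
      exact (QuotientGroup.eq_one_iff _).mp h5
    have h6 : χ.1 ((g ^ p ^ k : N) : G) = χ.1 1 := by
      have h7 := Helper75.res_eq_sum_constit N (isCharacter_of_isIrrCharacter χ.2)
      have h8 := congrFun h7 (g ^ p ^ k)
      have h9 := congrFun h7 1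
      simp only [Finset.sum_apply, Pi.smul_apply, smul_eq_mul] at h8 h9
      calc χ.1 ((g ^ p ^ k : N) : G)
          = ∑ θ' : Helper75.Constit N χ.1,
              Cfsg.classInner (fun n : N => χ.1 n) θ'.1.1 * θ'.1.1 (g ^ p ^ k) := h8
        _ = ∑ θ' : Helper75.Constit N χ.1,
              Cfsg.classInner (fun n : N => χ.1 n) θ'.1.1 * θ'.1.1 1 :=
            Finset.sum_congr rfl (fun θ' _ => by rw [h1 θ'])
        _ = χ.1 ((1 : N) : G) := h9.symm
        _ = χ.1 1 := by rw [Subgroup.coe_one]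
    have h10 := hfaith _ h6
    exact Subtype.ext (by simpa using h10)
  have hMQ : M = (Q : Subgroup N) := Q.3 hMp hQM
  rw [← hMQ]
  exact hMn

/-- In a minimal counterexample the restriction of `χ` to a normal subgroup is a multiple of a
single irreducible character. -/
theorem key_invariant (p : ℕ) [Fact p.Prime]
    (hsolv : Group.IsSolvable G) (χ : Cfsg.IrrCharacter G)
    (hW : ¬ WGood p (Cfsg.charDegree χ.1))
    (hB : ∀ N : Subgroup G, N.Normal → N ≠ ⊤ → ∀ Q : Sylow p N, (Q : Subgroup N).Normal)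
    (P : Sylow p G) (hP : ¬ (P : Subgroup G).Normal) (N : Subgroup G) [hN : N.Normal] :
    ∃ θ : N → ℂ, Cfsg.IsIrrCharacter N θ ∧ ∃ e : ℕ, e ≠ 0 ∧ (∀ u : N, χ.1 u = e * θ u) ∧
      Cfsg.charDegree θ ∣ Cfsg.charDegree χ.1 := by
  classical
  haveI := Fintype.ofFinite G
  haveI : Fintype N := Fintype.ofFinite N
  obtain ⟨θ, hθ, hne⟩ := exists_constituent_restrict N χ.2
  obtain ⟨e, he, hee, hdeg⟩ := constit_degree N χ.2 hθ hne
  refine ⟨θ, hθ, e, he, ?_, by rw [hdeg]; exact dvd_mul_left _ _⟩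
  by_cases hT : Helper75.inertia N θ = ⊤
  · have h1 := Helper75.res_eq_smul_of_invariant N χ.2 hθ hne
      ((Helper75.inertia_eq_top_iff N θ).mp hT)
    intro u
    have h2 := congrFun h1 u
    simp only [Pi.smul_apply, smul_eq_mul] at h2
    rw [h2, hee]
  · exfalso
    have hpT : ¬ p ∣ (Helper75.inertia N θ).index := by
      intro h
      apply hW
      apply wgood_of_dvd Fact.out
      rw [hdeg]
      exact (h.mul_left e).mul_right _
    have h3 := imprim_step hsolv p hB P hP _ hT hpT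
    exact hW (h3.mono (by rw [hdeg]; exact (dvd_mul_left _ e).mul_right _))

/-- An element on which a faithful irreducible character has maximal absolute value is
central. -/
theorem mem_center_of_norm_eq (χ : Cfsg.IrrCharacter G)
    (hfaith : ∀ g : G, χ.1 g = χ.1 1 → g = 1) {u : G} (h : ‖χ.1 u‖ = ‖χ.1 1‖) :
    u ∈ Subgroup.center G := by
  obtain ⟨n, ρ, hirr, hχ⟩ := χ.2
  haveI := hirr
  have h1 : ‖ρ.character u‖ = Module.finrank ℂ (Fin n → ℂ) := by
    rw [hχ, h, ← hχ, Representation.char_one]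
    simp
  obtain ⟨c, hc⟩ := (norm_char_eq_finrank_iff ρ u).mp h1
  have hinj : ∀ a b : G, ρ a = ρ b → a = b := by
    intro a b hab
    have h2 : ρ (a * b⁻¹) = 1 := by
      rw [map_mul, hab, ← map_mul, mul_inv_cancel, map_one]
    have h3 : ρ.character (a * b⁻¹) = Module.finrank ℂ (Fin n → ℂ) :=
      (char_eq_finrank_iff ρ _).mpr h2
    have h4 : χ.1 (a * b⁻¹) = χ.1 1 := by
      rw [← hχ, h3, Representation.char_one]
    have h5 := hfaith _ h4
    exact mul_inv_eq_one.mp h5
  rw [Subgroup.mem_center_iff]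
  intro g
  apply hinj
  rw [map_mul, map_mul, hc]
  simp

/-- The values of a linear character have absolute value one. -/
theorem norm_linChar {H : Type*} [Group H] [Finite H] {θ : H → ℂ} (h : Cfsg.IsCharacter H θ)
    (h1 : θ 1 = 1) (u : H) : ‖θ u‖ = 1 := by
  have h2 : θ u ^ orderOf u = 1 := by
    have h3 : ∀ k : ℕ, θ u ^ k = θ (u ^ k) := by
      intro k
      induction k with
      | zero => rw [pow_zero, pow_zero, h1]
      | succ k ih => rw [pow_succ, pow_succ, Cfsg.Agent.Lib.Helper15.linChar_mul h h1, ih]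
    rw [h3, pow_orderOf_eq_one, h1]
  exact norm_eq_one_of_pow_eq_one (orderOf_pos u) h2

end Steps

section Final

variable {G : Type u} [Group G] [Finite G]

/-- A central element of `G` lying in a subgroup `C` acts on every irreducible constituent of
the restriction of `χ` to `C` by the same scalar as on `χ`. -/
theorem constituent_central [Fintype G] (C : Subgroup G) [Fintype C] {χ : G → ℂ}
    (hχ : Cfsg.IsIrrCharacter G χ) {β : C → ℂ} (hβ : Cfsg.IsIrrCharacter C β)
    (h : Cfsg.classInner (fun c : C => χ c) β ≠ 0) (z : C)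
    (hz : (z : G) ∈ Subgroup.center G) : β z * χ 1 = χ z * β 1 := by
  obtain ⟨ω, hω, hωχ⟩ := central_char_mul hχ hz
  have hzC : z ∈ Subgroup.center C := by
    rw [Subgroup.mem_center_iff]
    intro c
    apply Subtype.ext
    exact Subgroup.mem_center_iff.mp hz c
  obtain ⟨ω', hω', hωβ⟩ := central_char_mul hβ hzC
  have hn' : ‖ω'‖ = 1 := norm_eq_one_of_pow_eq_one (orderOf_pos z) hω'
  have hsum : ∑ c : C, χ c * conj (β c) = ω * conj ω' * ∑ c : C, χ c * conj (β c) := by
    calc ∑ c : C, χ c * conj (β c) = ∑ c : C, χ ((z * c : C) : G) * conj (β (z * c)) :=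
          (Fintype.sum_equiv (Equiv.mulLeft z)
            (fun c => χ ((z * c : C) : G) * conj (β (z * c)))
            (fun c => χ c * conj (β c)) (fun c => rfl)).symm
      _ = ∑ c : C, ω * conj ω' * (χ c * conj (β c)) := by
          refine Finset.sum_congr rfl (fun c _ => ?_)
          rw [Subgroup.coe_mul, hωχ, hωβ, map_mul]
          ring
      _ = ω * conj ω' * ∑ c : C, χ c * conj (β c) := by rw [Finset.mul_sum]
  have hS : ∑ c : C, χ c * conj (β c) ≠ 0 := by
    intro h0
    apply h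
    unfold Cfsg.classInner
    rw [h0, mul_zero]
  have h1 : ω * conj ω' = 1 := by
    have h2 : (ω * conj ω' - 1) * ∑ c : C, χ c * conj (β c) = 0 := by
      rw [sub_mul, one_mul, ← hsum, sub_self]
    rcases mul_eq_zero.mp h2 with h3 | h3
    · exact sub_eq_zero.mp h3
    · exact absurd h3 hS
  have h4 : ω' * conj ω' = 1 := by
    rw [Complex.mul_conj, Complex.normSq_eq_norm_sq, hn']; simp
  have h5 : ω = ω' := by
    have h6 : conj ω' ≠ 0 := by
      intro h0
      rw [h0, mul_zero] at h4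
      exact zero_ne_one h4
    exact mul_right_cancel₀ h6 (h1.trans h4.symm)
  have h7 : β z = ω' * β 1 := by
    have := hωβ 1
    rwa [mul_one] at this
  have h8 : χ z = ω * χ 1 := by
    have := hωχ 1
    rwa [mul_one] at this
  rw [h7, h8, h5]
  ring

/-- The final counting argument of Winter's theorem. -/
theorem winter_final (p : ℕ) [Fact p.Prime] (χ : Cfsg.IrrCharacter G)
    (hfaith : ∀ g : G, χ.1 g = χ.1 1 → g = 1)
    (E : Subgroup G) [hEn : E.Normal] (r : ℕ) (hr : r.Prime) (hrp : r ≠ p)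
    (hEr : IsPGroup r E)
    (hcomm : ∀ u ∈ E, ∀ v ∈ E, ⁅u, v⁆ ∈ Subgroup.center G)
    (hZE : ∀ z ∈ E, (∀ u ∈ E, z * u = u * z) → z ∈ Subgroup.center G)
    (x : G) (a : ℕ) (hxa : x ^ p ^ a = 1) (hx : ∃ u ∈ E, x * u ≠ u * x)
    (θ : E → ℂ) (hθ : Cfsg.IsIrrCharacter E θ) (e : ℕ) (he : e ≠ 0)
    (hχθ : ∀ u : E, χ.1 u = e * θ u) : WGood p (Cfsg.charDegree θ) := by
  classical
  haveI := Fintype.ofFinite G
  have he' : (e : ℂ) ≠ 0 := by exact_mod_cast he
  -- `θ` is faithful
  have hθf : ∀ u : E, θ u = θ 1 → u = 1 := by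
    intro u hu
    apply Subtype.ext
    apply hfaith
    have h1 := hχθ 1
    rw [Subgroup.coe_one] at h1
    rw [hχθ u, hu, ← h1]
  have hkerθ : (⊥ : Subgroup E) = irrKer (⟨θ, hθ⟩ : Cfsg.IrrCharacter E) := by
    ext u
    rw [Subgroup.mem_bot, mem_irrKer]
    constructor
    · rintro rfl; rfl
    · exact hθf u
  have hcenE : ∀ w : E, (w : G) ∈ Subgroup.center G → w ∈ Subgroup.center E := by
    intro w hw
    rw [Subgroup.mem_center_iff]
    intro g
    exact Subtype.ext (Subgroup.mem_center_iff.mp hw g)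
  have hcomE : commutator E ≤ centerMod (⊥ : Subgroup E) := by
    rw [centerMod_bot, commutator_eq_closure, Subgroup.closure_le]
    rintro w ⟨u, v, rfl⟩
    apply hcenE
    have h1 : ((⁅u, v⁆ : E) : G) = ⁅(u : G), (v : G)⁆ := by simp [commutatorElement_def]
    rw [h1]
    exact hcomm u u.2 v v.2
  have hdegθ : Cfsg.charDegree θ ^ 2 * Nat.card (Subgroup.center E) = Nat.card E := by
    have h1 := charDegree_sq_mul_card_centerMod' (⟨θ, hθ⟩ : Cfsg.IrrCharacter E) ⊥ hkerθ hcomE
    rw [centerMod_bot] at h1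
    exact h1
  -- the centralizer of `x` in `E`
  obtain ⟨C, hCdef⟩ : ∃ C : Subgroup G, C = E ⊓ Subgroup.centralizer ({x} : Set G) :=
    ⟨_, rfl⟩
  haveI : Fintype C := Fintype.ofFinite C
  have hFP : Nat.card E ≡ Nat.card C [MOD p] := by
    rw [hCdef]
    exact card_modEq_card_inf_centralizer p E x a hxa (fun v hv => hEn.conj_mem v hv x)
  have hCE : C ≤ E := by rw [hCdef]; exact inf_le_left
  have hCx : ∀ c ∈ C, c * x = x * c := by
    intro c hc
    rw [hCdef] at hc
    exact Subgroup.mem_centralizer_singleton_iff.mp (Subgroup.mem_inf.mp hc).2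
  have hCmem : ∀ c ∈ E, c * x = x * c → c ∈ C := by
    intro c hc h
    rw [hCdef]
    exact Subgroup.mem_inf.mpr ⟨hc, Subgroup.mem_centralizer_singleton_iff.mpr h⟩
  have hCne : C ≠ E := by
    intro h
    obtain ⟨u, hu, hxu⟩ := hx
    have h1 : u ∈ C := by rw [h]; exact hu
    exact hxu (hCx u h1).symm
  -- a constituent of the restriction of `χ` to `C`
  obtain ⟨β, hβ, hβne⟩ := exists_constituent_restrict C χ.2
  have hβz : ∀ c : C, (c : G) ∈ Subgroup.center G → β c = β 1 → c = 1 := by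
    intro c hc hc1
    have h1 := constituent_central C χ.2 hβ hβne c hc
    rw [hc1] at h1
    have h2 : χ.1 (c : G) = χ.1 1 := by
      have hβ1 : β 1 ≠ 0 := char_one_ne_zero hβ
      have h3 : χ.1 1 * β 1 = χ.1 (c : G) * β 1 := by rw [← h1]; ring
      exact (mul_right_cancel₀ hβ1 h3).symm
    exact Subtype.ext (hfaith _ h2)
  have hcenC : ∀ w : C, (w : G) ∈ Subgroup.center G → w ∈ Subgroup.center C := by
    intro w hw
    rw [Subgroup.mem_center_iff]
    intro g
    exact Subtype.ext (Subgroup.mem_center_iff.mp hw g)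
  have hcommC : ∀ u v : C, ((⁅u, v⁆ : C) : G) ∈ Subgroup.center G := by
    intro u v
    have h1 : ((⁅u, v⁆ : C) : G) = ⁅(u : G), (v : G)⁆ := by simp [commutatorElement_def]
    rw [h1]
    exact hcomm u (hCE u.2) v (hCE v.2)
  have hcomC : commutator C ≤ centerMod (irrKer (⟨β, hβ⟩ : Cfsg.IrrCharacter C)) := by
    rw [commutator_eq_closure, Subgroup.closure_le]
    rintro w ⟨u, v, rfl⟩
    exact center_le_centerMod _ (hcenC _ (hcommC u v))
  have hcm : centerMod (irrKer (⟨β, hβ⟩ : Cfsg.IrrCharacter C)) = Subgroup.center C := by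
    apply le_antisymm
    · intro c hc
      rw [mem_centerMod] at hc
      rw [Subgroup.mem_center_iff]
      intro y
      have h1 := hc y
      rw [mem_irrKer] at h1
      have h2 := hβz _ (hcommC c y) h1
      rw [commutatorElement_eq_one_iff_mul_comm] at h2
      exact h2.symm
    · exact center_le_centerMod _
  have hdegβ : Cfsg.charDegree β ^ 2 * Nat.card (Subgroup.center C) = Nat.card C := by
    have h1 := charDegree_sq_mul_card_centerMod (⟨β, hβ⟩ : Cfsg.IrrCharacter C) hcomC
    rw [hcm] at h1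
    exact h1
  -- the centres of `E` and `C` agree
  haveI := Fact.mk hr
  obtain ⟨s, hs⟩ := IsPGroup.iff_card.mp hEr
  have hpr : Nat.Coprime p r := (Nat.coprime_primes Fact.out hr).mpr (fun h => hrp h.symm)
  have hcE : (Subgroup.center E).map E.subtype = E ⊓ Subgroup.center G := by
    ext z
    constructor
    · rintro ⟨w, hw, rfl⟩
      refine Subgroup.mem_inf.mpr ⟨w.2, ?_⟩
      apply hZE _ w.2
      intro u hu
      have h1 := Subgroup.mem_center_iff.mp hw ⟨u, hu⟩
      exact (congrArg Subtype.val h1).symm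
    · intro hz
      obtain ⟨hzE, hzc⟩ := Subgroup.mem_inf.mp hz
      exact ⟨⟨z, hzE⟩, hcenE _ hzc, rfl⟩
  have hcC : (Subgroup.center C).map C.subtype = E ⊓ Subgroup.center G := by
    ext z
    constructor
    · rintro ⟨c, hc, rfl⟩
      refine Subgroup.mem_inf.mpr ⟨hCE c.2, ?_⟩
      apply hZE _ (hCE c.2)
      intro v hv
      obtain ⟨c0, hc0⟩ : ∃ c0 : G, c0 = (c : G) := ⟨_, rfl⟩
      have hc0C : c0 ∈ C := by rw [hc0]; exact c.2
      have hc0E : c0 ∈ E := hCE hc0C
      have hc0x : c0 * x = x * c0 := hCx c0 hc0C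
      have hc0cen : ∀ y ∈ C, c0 * y = y * c0 := by
        intro y hy
        have h1 := Subgroup.mem_center_iff.mp hc ⟨y, hy⟩
        rw [hc0]
        exact (congrArg Subtype.val h1).symm
      show (c : G) * v = v * (c : G)
      rw [← hc0]
      obtain ⟨S, hSdef⟩ : ∃ S : Set G,
          S = {w : G | w ∈ E ∧ w * c0 * w⁻¹ = v * c0 * v⁻¹} := ⟨_, rfl⟩
      have hzc : ⁅v, c0⁆ ∈ Subgroup.center G := hcomm v hv c0 hc0E
      have hvc : v * c0 * v⁻¹ = ⁅v, c0⁆ * c0 := by rw [commutatorElement_def]; group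
      have hSinv : ∀ w ∈ S, x * w * x⁻¹ ∈ S := by
        intro w hw
        rw [hSdef] at hw ⊢
        obtain ⟨hwE, hw2⟩ := hw
        refine ⟨hEn.conj_mem w hwE x, ?_⟩
        have h1 : x⁻¹ * c0 * x = c0 := by rw [mul_assoc, hc0x]; group
        have h2 : x * ⁅v, c0⁆ = ⁅v, c0⁆ * x := Subgroup.mem_center_iff.mp hzc x
        have h3 : x * c0 * x⁻¹ = c0 := by rw [← hc0x]; group
        calc x * w * x⁻¹ * c0 * (x * w * x⁻¹)⁻¹
            = x * (w * (x⁻¹ * c0 * x) * w⁻¹) * x⁻¹ := by group
          _ = x * (w * c0 * w⁻¹) * x⁻¹ := by rw [h1]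
          _ = x * (⁅v, c0⁆ * c0) * x⁻¹ := by rw [hw2, hvc]
          _ = (x * ⁅v, c0⁆) * c0 * x⁻¹ := by group
          _ = ⁅v, c0⁆ * (x * c0 * x⁻¹) := by rw [h2]; group
          _ = ⁅v, c0⁆ * c0 := by rw [h3]
          _ = v * c0 * v⁻¹ := hvc.symm
      have hScard : Nat.card S =
          Nat.card (E ⊓ Subgroup.centralizer ({c0} : Set G) : Subgroup G) := by
        rw [hSdef]
        apply Nat.card_congr
        exact
          { toFun := fun w => ⟨v⁻¹ * w.1, Subgroup.mem_inf.mpr
              ⟨E.mul_mem (E.inv_mem hv) w.2.1, by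
                rw [Subgroup.mem_centralizer_singleton_iff]
                have h1 := w.2.2
                calc v⁻¹ * w.1 * c0 = v⁻¹ * (w.1 * c0 * w.1⁻¹) * w.1 := by group
                  _ = v⁻¹ * (v * c0 * v⁻¹) * w.1 := by rw [h1]
                  _ = c0 * (v⁻¹ * w.1) := by group⟩⟩
            invFun := fun k => ⟨v * k.1, ⟨E.mul_mem hv (Subgroup.mem_inf.mp k.2).1, by
                have h1 := Subgroup.mem_centralizer_singleton_iff.mp (Subgroup.mem_inf.mp k.2).2
                calc v * k.1 * c0 * (v * k.1)⁻¹ = v * (k.1 * c0) * k.1⁻¹ * v⁻¹ := by group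
                  _ = v * (c0 * k.1) * k.1⁻¹ * v⁻¹ := by rw [h1]
                  _ = v * c0 * v⁻¹ := by group⟩⟩
            left_inv := fun w => Subtype.ext (by simp)
            right_inv := fun k => Subtype.ext (by simp) }
      have hSp : ¬ p ∣ Nat.card S := by
        rw [hScard]
        intro hdvd
        have h1 : Nat.card (E ⊓ Subgroup.centralizer ({c0} : Set G) : Subgroup G) ∣
            Nat.card E := Subgroup.card_dvd_of_le inf_le_left
        rw [hs] at h1
        have h2 : p ∣ r ^ s := hdvd.trans h1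
        have h3 := Nat.Prime.dvd_of_dvd_pow Fact.out h2
        exact hrp ((Nat.prime_dvd_prime_iff_eq Fact.out hr).mp h3).symm
      have hfix := card_modEq_card_conj_fixed p S x a hxa hSinv
      have hfixne : Nonempty {w : G // w ∈ S ∧ x * w * x⁻¹ = w} := by
        by_contra hemp
        rw [not_nonempty_iff] at hemp
        have h0 : Nat.card {w : G // w ∈ S ∧ x * w * x⁻¹ = w} = 0 := Nat.card_of_isEmpty
        rw [h0] at hfix
        exact hSp ((Nat.modEq_zero_iff_dvd).mp hfix)
      obtain ⟨w, hwS, hwx⟩ := hfixne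
      rw [hSdef] at hwS
      obtain ⟨hwE, hw2⟩ := hwS
      have hwC : w ∈ C := by
        apply hCmem w hwE
        calc w * x = (x * w * x⁻¹) * x := by rw [hwx]
          _ = x * w := by group
      have h1 := hc0cen w hwC
      have h2 : w * c0 * w⁻¹ = c0 := by rw [← h1]; group
      rw [h2] at hw2
      calc c0 * v = (v * c0 * v⁻¹) * v := by rw [← hw2]
        _ = v * c0 := by group
    · intro hz
      obtain ⟨hzE, hzc⟩ := Subgroup.mem_inf.mp hz
      have hzC : z ∈ C := hCmem z hzE (Subgroup.mem_center_iff.mp hzc x).symm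
      exact ⟨⟨z, hzC⟩, hcenC _ hzc, rfl⟩
  have hzcard : Nat.card (Subgroup.center C) = Nat.card (Subgroup.center E) := by
    have h1 := Subgroup.card_map_of_injective (K := Subgroup.center C) C.subtype_injective
    have h2 := Subgroup.card_map_of_injective (K := Subgroup.center E) E.subtype_injective
    rw [← h1, ← h2, hcC, hcE]
  rw [hzcard] at hdegβ
  -- arithmetic
  obtain ⟨A, hA⟩ : ∃ A, A = Cfsg.charDegree θ := ⟨_, rfl⟩
  obtain ⟨B, hB⟩ : ∃ B, B = Cfsg.charDegree β := ⟨_, rfl⟩
  obtain ⟨zc, hzc⟩ : ∃ zc, zc = Nat.card (Subgroup.center E) := ⟨_, rfl⟩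
  rw [← hA, ← hzc] at hdegθ
  rw [← hB, ← hzc] at hdegβ
  have hCdvd : Nat.card C ∣ Nat.card E := Subgroup.card_dvd_of_le hCE
  have hAdvd : A ∣ r ^ s := by
    rw [← hs, ← hdegθ]
    exact Dvd.dvd.mul_right (dvd_pow_self A two_ne_zero) zc
  have hBdvd : B ∣ r ^ s := by
    rw [← hs]
    refine dvd_trans ?_ hCdvd
    rw [← hdegβ]
    exact Dvd.dvd.mul_right (dvd_pow_self B two_ne_zero) zc
  have hzdvd : zc ∣ r ^ s := by
    rw [← hs, ← hdegθ]
    exact dvd_mul_left zc _
  obtain ⟨m, -, hAm⟩ := (Nat.dvd_prime_pow hr).mp hAdvd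
  obtain ⟨j, -, hBj⟩ := (Nat.dvd_prime_pow hr).mp hBdvd
  have hlt : Nat.card C < Nat.card E := by
    have h1 : Nat.card C ≤ Nat.card E := Nat.le_of_dvd Nat.card_pos hCdvd
    rcases h1.lt_or_eq with h | h
    · exact h
    · exact absurd (Subgroup.eq_of_le_of_card_ge hCE h.ge) hCne
  have hjm : j < m := by
    have h1 : B ^ 2 * zc < A ^ 2 * zc := by rw [hdegβ, hdegθ]; exact hlt
    have h2 : B ^ 2 < A ^ 2 := lt_of_mul_lt_mul_right h1 (Nat.zero_le _)
    have h3 : B < A := lt_of_pow_lt_pow_left₀ 2 (Nat.zero_le _) h2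
    rw [hAm, hBj] at h3
    exact (Nat.pow_lt_pow_iff_right hr.one_lt).mp h3
  have hcong : r ^ (2 * j) * zc * r ^ (2 * (m - j)) ≡ r ^ (2 * j) * zc * 1 [MOD p] := by
    have h1 : A ^ 2 * zc ≡ B ^ 2 * zc [MOD p] := by rw [hdegθ, hdegβ]; exact hFP
    rw [hAm, hBj] at h1
    have e1 : r ^ (2 * j) * zc * r ^ (2 * (m - j)) = (r ^ m) ^ 2 * zc := by
      rw [← pow_mul]
      have h2 : m * 2 = 2 * j + 2 * (m - j) := by omega
      rw [h2, pow_add]; ring
    have e2 : r ^ (2 * j) * zc * 1 = (r ^ j) ^ 2 * zc := by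
      rw [mul_one, ← pow_mul, mul_comm j 2]
    rw [e1, e2]; exact h1
  have hcop : Nat.gcd p (r ^ (2 * j) * zc) = 1 := by
    apply Nat.Coprime.mul_right
    · exact Nat.Coprime.pow_right _ hpr
    · exact Nat.Coprime.coprime_dvd_right hzdvd (Nat.Coprime.pow_right _ hpr)
  have hq2 : r ^ (2 * (m - j)) ≡ 1 [MOD p] := Nat.ModEq.cancel_left_of_coprime hcop hcong
  refine ⟨r ^ (m - j), hr.isPrimePow.pow (by omega), ?_, ?_⟩
  · rw [← hA, hAm]; exact pow_dvd_pow r (Nat.sub_le m j)
  · have h1 : ((r ^ (m - j) : ℕ) : ℤ) ^ 2 ≡ 1 [ZMOD p] := by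
      have h2 := Int.natCast_modEq_iff.mpr hq2
      rw [mul_comm, pow_mul] at h2
      exact_mod_cast h2
    have h2 : (p : ℤ) ∣ ((r ^ (m - j) : ℕ) : ℤ) ^ 2 - 1 := Int.modEq_iff_dvd.mp h1.symm
    have h3 : ((r ^ (m - j) : ℕ) : ℤ) ^ 2 - 1 =
        (((r ^ (m - j) : ℕ) : ℤ) - 1) * (((r ^ (m - j) : ℕ) : ℤ) + 1) := by ring
    rw [h3] at h2
    have hpi : Prime (p : ℤ) := Nat.prime_iff_prime_int.mp Fact.out
    rcases hpi.dvd_or_dvd h2 with h4 | h4
    · right; right
      exact (Int.modEq_iff_dvd.mpr h4).symm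
    · left
      have h5 : (p : ℤ) ∣ ((r ^ (m - j) : ℕ) : ℤ) - (-1) := by rwa [sub_neg_eq_add]
      exact (Int.modEq_iff_dvd.mpr h5).symm

/-- **Winter's theorem**, inductive form: a solvable group with a faithful irreducible character
whose degree has no prime power divisor congruent to `-1`, `0`, `1` modulo `p` has a normal Sylow
`p`-subgroup. -/
theorem winter_aux (p : ℕ) [Fact p.Prime] : ∀ (m : ℕ) (G : Type u) [Group G] [Finite G],
    Nat.card G = m → Group.IsSolvable G → ∀ χ : Cfsg.IrrCharacter G,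
    (∀ g : G, χ.1 g = χ.1 1 → g = 1) → ¬ WGood p (Cfsg.charDegree χ.1) →
    ∀ P : Sylow p G, (P : Subgroup G).Normal := by
  intro m
  induction m using Nat.strong_induction_on with
  | _ m ih =>
    intro G _ _ hcard hsolv χ hfaith hW P
    by_contra hP
    have hpn : ¬ p ∣ Cfsg.charDegree χ.1 := fun h => hW (wgood_of_dvd Fact.out h)
    have IH : ∀ (H : Type u) [Group H] [Finite H], Nat.card H < Nat.card G →
        Group.IsSolvable H → ∀ ψ : Cfsg.IrrCharacter H, (∀ g : H, ψ.1 g = ψ.1 1 → g = 1) →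
        ¬ WGood p (Cfsg.charDegree ψ.1) → ∀ Q : Sylow p H, (Q : Subgroup H).Normal := by
      intro H _ _ hlt hs ψ hf hw Q
      exact ih (Nat.card H) (by rw [← hcard]; exact hlt) H rfl hs ψ hf hw Q
    have hB : ∀ N : Subgroup G, N.Normal → N ≠ ⊤ → ∀ Q : Sylow p N,
        (Q : Subgroup N).Normal := by
      intro N hN hNt Q
      haveI := hN
      exact sylow_normal_of_proper_normal p hsolv χ hfaith hW IH N hNt Q
    have hkey : ∀ N : Subgroup G, N.Normal → ∃ θ : N → ℂ, Cfsg.IsIrrCharacter N θ ∧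
        ∃ e : ℕ, e ≠ 0 ∧ (∀ u : N, χ.1 u = e * θ u) ∧
          Cfsg.charDegree θ ∣ Cfsg.charDegree χ.1 := by
      intro N hN
      haveI := hN
      exact key_invariant p hsolv χ hW hB P hP N
    have hcentral : ∀ (N : Subgroup G) (θ : N → ℂ) (e : ℕ), (∀ u : N, χ.1 u = e * θ u) →
        (∀ u : N, ‖θ u‖ = ‖θ 1‖) → N ≤ Subgroup.center G := by
      intro N θ e hχθ hnorm u hu
      apply mem_center_of_norm_eq χ hfaith
      have h1 : χ.1 u = (e : ℂ) * θ ⟨u, hu⟩ := hχθ ⟨u, hu⟩
      have h2 := hχθ 1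
      rw [Subgroup.coe_one] at h2
      rw [h1, h2, norm_mul, norm_mul, hnorm]
    have hab : ∀ N : Subgroup G, N.Normal → (∀ a ∈ N, ∀ b ∈ N, a * b = b * a) →
        N ≤ Subgroup.center G := by
      intro N hN hNab
      obtain ⟨θ, hθ, e, he, hχθ, hdvd⟩ := hkey N hN
      apply hcentral N θ e hχθ
      intro u
      apply norm_char_central hθ
      rw [Subgroup.mem_center_iff]
      intro g
      exact Subtype.ext (hNab g g.2 u u.2)
    have hpc : ∀ N : Subgroup G, N.Normal → IsPGroup p N → N ≤ Subgroup.center G := by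
      intro N hN hNp
      obtain ⟨θ, hθ, e, he, hχθ, hdvd⟩ := hkey N hN
      apply hcentral N θ e hχθ
      obtain ⟨k, hk⟩ := IsPGroup.iff_card.mp hNp
      have h1 : Cfsg.charDegree θ ∣ p ^ k := by rw [← hk]; exact charDegree_dvd_card hθ
      obtain ⟨j, -, hj⟩ := (Nat.dvd_prime_pow Fact.out).mp h1
      have hj0 : j = 0 := by
        by_contra hj0
        apply hpn
        refine dvd_trans ?_ hdvd
        rw [hj]
        exact dvd_pow_self p hj0
      have hθ1 : θ 1 = 1 := by
        rw [char_one_eq_charDegree (isCharacter_of_isIrrCharacter hθ), hj, hj0]; simp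
      intro u
      rw [norm_linChar (isCharacter_of_isIrrCharacter hθ) hθ1 u,
        norm_linChar (isCharacter_of_isIrrCharacter hθ) hθ1 1]
    obtain ⟨E, r, x, a, hEn, hr, hrp, hEr, hcomm, hZE, hxa, hx⟩ :=
      exists_special_normal hsolv p hB hab hpc P hP
    haveI := hEn
    obtain ⟨θ, hθ, e, he, hχθ, hdvd⟩ := hkey E hEn
    exact hW ((winter_final p χ hfaith E r hr hrp hEr hcomm hZE x a hxa hx θ hθ e he
      hχθ).mono hdvd)

/-- **Winter's theorem**: if a finite solvable group has a faithful irreducible character `χ`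
and a non-normal Sylow `p`-subgroup, then `χ(1)` is divisible by a prime power congruent to
`-1`, `0` or `1` modulo `p`. -/
theorem winter {G : Type u} [Group G] [Finite G] (χ : Cfsg.IrrCharacter G)
    (hfaith : ∀ g : G, χ.1 g = χ.1 1 → g = 1) (hsolv : Group.IsSolvable G) (p : ℕ)
    (hp : p.Prime) (P : Sylow p G) (hP : ¬ (P : Subgroup G).Normal) :
    WGood p (Cfsg.charDegree χ.1) := by
  haveI := Fact.mk hp
  by_contra hW
  exact hP (winter_aux p _ G rfl hsolv χ hfaith hW P)

end Final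

end Cfsg.Agent.Lib.Helper80
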