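import Mathlib
import Cfsg.Prelude.Def_Characters
import Cfsg.Prelude.Def_Blocks
import Cfsg.Prelude.Def_Solvable
import Cfsg.Agent.Lib.Helper80.GalConj
import Cfsg.Agent.Lib.Helper80.CharOps
import Cfsg.Agent.Lib.Helper80.Codegree
import Cfsg.Agent.Lib.Helper47.Syl
import Cfsg.Agent.Lib.Helper90.Frattini
import Cfsg.Agent.Lib.Helper71.Fitting
import Cfsg.Agent.Lib.Helper53.PGroups
import Cfsg.Agent.Lib.Helper96.MinNormal
import Cfsg.Agent.Lib.Helper10.PrimSolv

/-!
# The Broline-Garrison theorem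

If the kernel `K` of the irreducible character `χ` is not nilpotent, or `K = F(G)` with `G ⧸ K`
solvable and `K ≠ G`, then some irreducible character has larger degree and smaller kernel.
-/

set_option autoImplicit false
set_option linter.style.haveILetI false

open scoped ComplexConjugate commutatorElement

namespace Cfsg.Agent.Lib.Helper80

universe u

section PartA

variable {G : Type u} [Group G] [Finite G]

/-- Multiplying by an element of the kernel does not change the character value. -/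
theorem char_mul_of_mem_irrKer (χ : Cfsg.IrrCharacter G) {k : G} (hk : k ∈ irrKer χ) (g : G) :
    (χ : G → ℂ) (k * g) = (χ : G → ℂ) g := by
  obtain ⟨ω, -, h⟩ := char_mul_of_mem_centerMod χ (irrKer χ) le_rfl (le_centerMod _ hk)
  have h1 := h 1
  rw [mul_one, (mem_irrKer χ k).mp hk] at h1
  have hne := char_one_ne_zero χ.2
  have hω : ω = 1 := by
    have h2 : (1 - ω) * (χ : G → ℂ) 1 = 0 := by linear_combination h1
    rcases mul_eq_zero.mp h2 with h5 | h5
    · exact (sub_eq_zero.mp h5).symm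
    · exact absurd h5 hne
  rw [h g, hω, one_mul]

/-- If the kernel of `ψ` and `H` generate `G`, the restriction of `ψ` to `H` is irreducible. -/
theorem isIrrCharacter_restrict_of_sup_eq_top (ψ : Cfsg.IrrCharacter G) (H : Subgroup G)
    (h : irrKer ψ ⊔ H = ⊤) : Cfsg.IsIrrCharacter H (fun x : H => (ψ : G → ℂ) x) := by
  obtain ⟨ψ', hψ', hψψ'⟩ := exists_isIrrCharacter_deflate (irrKer ψ) ψ.2
    (fun x hx => (mem_irrKer ψ x).mp hx)
  let φ : H →* G ⧸ irrKer ψ := (QuotientGroup.mk' (irrKer ψ)).comp H.subtype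
  have hsurj : Function.Surjective φ := by
    intro q
    obtain ⟨g, rfl⟩ := QuotientGroup.mk_surjective q
    have hg : g ∈ ((irrKer ψ ⊔ H : Subgroup G) : Set G) := by rw [h]; trivial
    rw [Subgroup.normal_mul] at hg
    obtain ⟨k, hk, x, hx, rfl⟩ := Set.mem_mul.mp hg
    refine ⟨⟨x, hx⟩, ?_⟩
    change ((x : G) : G ⧸ irrKer ψ) = ((k * x : G) : G ⧸ irrKer ψ)
    rw [QuotientGroup.mk_mul, (QuotientGroup.eq_one_iff k).mpr hk, one_mul]
  have h1 := isIrrCharacter_comp φ hsurj hψ'
  have h2 : (fun x : H => (ψ : G → ℂ) x) = fun x : H => ψ' (φ x) :=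
    funext fun x => (hψψ' x).symm
  rw [h2]
  exact h1

end PartA

section Constituent

variable {H : Type u} [Group H] [Fintype H] [Fintype (Cfsg.IrrCharacter H)]

/-- The kernel of a character is contained in the kernel of each irreducible constituent. -/
theorem constituent_ker {φ θ : H → ℂ} (hφ : Cfsg.IsCharacter H φ)
    (hθ : Cfsg.IsIrrCharacter H θ) (hne : Cfsg.classInner φ θ ≠ 0)
    {a : H} (ha : φ a = φ 1) : θ a = θ 1 := by
  classical
  obtain ⟨m, hm, hexp⟩ := character_expansion hφ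
  set θ' : Cfsg.IrrCharacter H := ⟨θ, hθ⟩ with hθ'
  have hmθ : m θ' ≠ 0 := by
    intro h0
    apply hne
    have := hm θ'
    rw [h0] at this
    simpa using this
  have hre : ∀ χ : Cfsg.IrrCharacter H, ((χ : H → ℂ) a).re ≤ ((χ : H → ℂ) 1).re := by
    intro χ
    have h1 := norm_char_le_charDegree (isCharacter_of_isIrrCharacter χ.2) a
    have h2 := char_one_eq_charDegree (isCharacter_of_isIrrCharacter χ.2)
    rw [h2]
    simp only [Complex.natCast_re]
    exact (Complex.re_le_norm _).trans h1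
  have h3 : ∑ χ : Cfsg.IrrCharacter H, (m χ : ℂ) * ((χ : H → ℂ) 1 - (χ : H → ℂ) a) = 0 := by
    have h1 := congrFun hexp a
    have h2 := congrFun hexp 1
    simp only [Finset.sum_apply, Pi.smul_apply, smul_eq_mul] at h1 h2
    simp only [mul_sub, Finset.sum_sub_distrib]
    rw [← h1, ← h2, ha, sub_self]
  have h4 : ∑ χ : Cfsg.IrrCharacter H,
      (m χ : ℝ) * (((χ : H → ℂ) 1).re - ((χ : H → ℂ) a).re) = 0 := by
    have h5 := congrArg Complex.re h3
    simp only [Complex.re_sum, Complex.mul_re, Complex.natCast_re, Complex.natCast_im, zero_mul,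
      sub_zero, Complex.sub_re, Complex.zero_re] at h5
    exact h5
  have h6 := (Finset.sum_eq_zero_iff_of_nonneg (fun χ _ =>
    mul_nonneg (Nat.cast_nonneg _) (sub_nonneg.mpr (hre χ)))).mp h4 θ' (Finset.mem_univ _)
  have h7 : (θ a).re = (θ 1).re := by
    rcases mul_eq_zero.mp h6 with h8 | h8
    · exact absurd (by exact_mod_cast h8) hmθ
    · have : ((θ' : H → ℂ) 1).re - ((θ' : H → ℂ) a).re = 0 := h8
      have h9 : (θ 1).re - (θ a).re = 0 := this
      linarith
  have h10 := norm_char_le_charDegree (isCharacter_of_isIrrCharacter hθ) a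
  have h11 := char_one_eq_charDegree (isCharacter_of_isIrrCharacter hθ)
  rw [h11] at h7 ⊢
  simp only [Complex.natCast_re] at h7
  have h12 : ‖θ a‖ ^ 2 = (θ a).re * (θ a).re + (θ a).im * (θ a).im := by
    rw [Complex.sq_norm, Complex.normSq_apply]
  have h13 : (θ a).im = 0 := by
    have h14 : ‖θ a‖ ^ 2 ≤ (Cfsg.charDegree θ : ℝ) ^ 2 :=
      pow_le_pow_left₀ (norm_nonneg _) h10 2
    rw [h12, h7] at h14
    nlinarith [sq_nonneg (θ a).im]
  apply Complex.ext
  · rw [h7]; simp
  · rw [h13]; simp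

end Constituent

section Step

variable {G : Type u} [Group G] [Finite G]

/-- The key step: for a maximal subgroup `H` not containing the kernel of `χ`, either some
irreducible character has larger degree and smaller kernel, or every element of `H` at which
`χ` does not vanish has all its conjugates in `H`. -/
theorem bg_step (χ : Cfsg.IrrCharacter G) (H : Subgroup G) (hH : IsCoatom H)
    (hKH : ¬ irrKer χ ≤ H) :
    (∃ ψ : Cfsg.IrrCharacter G, Cfsg.charDegree (χ : G → ℂ) < Cfsg.charDegree (ψ : G → ℂ) ∧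
      irrKer ψ < irrKer χ) ∨
    (∀ h ∈ H, (χ : G → ℂ) h ≠ 0 → ∀ g : G, g⁻¹ * h * g ∈ H) := by
  classical
  haveI := Fintype.ofFinite G
  haveI := Fintype.ofFinite H
  haveI := Fintype.ofFinite (Cfsg.IrrCharacter G)
  haveI := Fintype.ofFinite (Cfsg.IrrCharacter H)
  have hχc := isCharacter_of_isIrrCharacter χ.2
  have hsup : irrKer χ ⊔ H = ⊤ := hH.2 _ (right_lt_sup.mpr hKH)
  set θ : H → ℂ := fun x : H => (χ : G → ℂ) x with hθdef
  have hθ : Cfsg.IsIrrCharacter H θ := isIrrCharacter_restrict_of_sup_eq_top χ H hsup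
  have hInd : Cfsg.IsCharacter G (Cfsg.indFun H θ) :=
    isCharacter_indFun H (isCharacter_of_isIrrCharacter hθ)
  obtain ⟨m, hm, hexp⟩ := character_expansion hInd
  have hfrob : ∀ ψ : Cfsg.IrrCharacter G,
      Cfsg.classInner (fun x : H => (ψ : G → ℂ) x) θ = m ψ := by
    intro ψ
    have h1 := frobenius_reciprocity H θ (ψ : G → ℂ)
      (isClassFunction_of_isCharacter (isCharacter_of_isIrrCharacter ψ.2))
    rw [hm ψ] at h1
    rw [← classInner_conj_symm, ← h1, Complex.conj_natCast]
  by_cases hbig : ∃ ψ : Cfsg.IrrCharacter G, m ψ ≠ 0 ∧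
      Cfsg.charDegree (χ : G → ℂ) < Cfsg.charDegree (ψ : G → ℂ)
  · left
    obtain ⟨ψ, hmψ, hdeg⟩ := hbig
    have hne : Cfsg.classInner (fun x : H => (ψ : G → ℂ) x) θ ≠ 0 := by
      rw [hfrob]; exact_mod_cast hmψ
    have hAH : irrKer ψ ≤ H := by
      by_contra hA
      have hsup' : irrKer ψ ⊔ H = ⊤ := hH.2 _ (right_lt_sup.mpr hA)
      have hψH := isIrrCharacter_restrict_of_sup_eq_top ψ H hsup'
      rw [classInner_irr_fun hψH hθ] at hne
      have heq : (fun x : H => (ψ : G → ℂ) x) = θ := by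
        by_contra hh
        rw [if_neg hh] at hne
        exact hne rfl
      have hd : Cfsg.charDegree (ψ : G → ℂ) = Cfsg.charDegree (χ : G → ℂ) := by
        have h1 : Cfsg.charDegree (fun x : H => (ψ : G → ℂ) x) = Cfsg.charDegree θ := by rw [heq]
        exact h1
      omega
    have hAK : irrKer ψ ≤ irrKer χ := by
      intro a ha
      rw [mem_irrKer]
      have h1 := constituent_ker (H := H) (φ := fun x : H => (ψ : G → ℂ) x) (θ := θ)
        (isCharacter_restrict H (isCharacter_of_isIrrCharacter ψ.2)) hθ hne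
        (a := ⟨a, hAH ha⟩) ((mem_irrKer ψ a).mp ha)
      exact h1
    exact ⟨ψ, hdeg, lt_of_le_of_ne hAK (fun heq => hKH (heq ▸ hAH))⟩
  · right
    push Not at hbig
    have hres : ∀ ψ : Cfsg.IrrCharacter G, m ψ ≠ 0 →
        ∀ x : H, (ψ : G → ℂ) x = (χ : G → ℂ) x := by
      intro ψ hmψ
      have hne : Cfsg.classInner (fun x : H => (ψ : G → ℂ) x) θ ≠ 0 := by
        rw [hfrob]; exact_mod_cast hmψ
      have h1 := eq_of_constituent_of_degree_le (φ := fun x : H => (ψ : G → ℂ) x) (χ := θ)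
        (isCharacter_restrict H (isCharacter_of_isIrrCharacter ψ.2)) hθ hne (hbig ψ hmψ)
      exact fun x => congrFun h1 x
    have hval : ∀ h : H, Cfsg.indFun H θ (h : G)
        = (∑ ψ : Cfsg.IrrCharacter G, (m ψ : ℂ)) * (χ : G → ℂ) h := by
      intro h
      have h1 := congrFun hexp (h : G)
      simp only [Finset.sum_apply, Pi.smul_apply, smul_eq_mul] at h1
      rw [h1, Finset.sum_mul]
      refine Finset.sum_congr rfl fun ψ _ => ?_
      by_cases hmψ : m ψ = 0
      · rw [hmψ]; simp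
      · rw [hres ψ hmψ h]
    have hne1 := char_one_ne_zero χ.2
    have hsum : (∑ ψ : Cfsg.IrrCharacter G, (m ψ : ℂ)) = (H.index : ℂ) := by
      have h1 := hval 1
      rw [OneMemClass.coe_one, indFun_one] at h1
      have h2 : θ 1 = (χ : G → ℂ) 1 := rfl
      rw [h2] at h1
      exact (mul_right_cancel₀ hne1 h1).symm
    intro h hh hχh
    have h1 := hval ⟨h, hh⟩
    rw [hsum] at h1
    have h2 : Cfsg.indFun H θ h = (Nat.card H : ℂ)⁻¹ *
        ((Finset.univ.filter (fun x : G => x⁻¹ * h * x ∈ H)).card * (χ : G → ℂ) h) := by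
      unfold Cfsg.indFun
      congr 1
      rw [← nsmul_eq_mul, ← Finset.sum_const, Finset.sum_filter]
      refine Finset.sum_congr rfl fun x _ => ?_
      by_cases hx : x⁻¹ * h * x ∈ H
      · rw [if_pos hx]
        have h3 : x⁻¹ * h * x = ((⟨x⁻¹ * h * x, hx⟩ : H) : G) := rfl
        rw [h3, extendByZero_apply_mem]
        have h4 : θ ⟨x⁻¹ * h * x, hx⟩ = (χ : G → ℂ) (x⁻¹ * h * x) := rfl
        rw [h4]
        have h5 := char_conj_eq hχc h x⁻¹
        rw [inv_inv] at h5
        exact h5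
      · rw [if_neg hx, extendByZero_apply_not_mem H θ hx]
    have h3 : ((⟨h, hh⟩ : H) : G) = h := rfl
    rw [h3, h2] at h1
    have hH0 : (Nat.card H : ℂ) ≠ 0 := by
      exact_mod_cast (Nat.card_pos (α := H)).ne'
    have h4 : ((Finset.univ.filter (fun x : G => x⁻¹ * h * x ∈ H)).card : ℂ)
        = (Nat.card H : ℂ) * (H.index : ℂ) := by
      have h5 : (Nat.card H : ℂ)⁻¹ * ((Finset.univ.filter (fun x : G => x⁻¹ * h * x ∈ H)).card)
          = (H.index : ℂ) := by
        apply mul_right_cancel₀ hχh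
        rw [← h1]; ring
      rw [← h5]
      field_simp
    have h6 : (Finset.univ.filter (fun x : G => x⁻¹ * h * x ∈ H)).card = Fintype.card G := by
      rw [← Nat.card_eq_fintype_card, ← Subgroup.card_mul_index H]
      exact_mod_cast h4
    have h7 := (Finset.card_eq_iff_eq_univ _).mp h6
    intro g
    have h8 : g ∈ Finset.univ.filter (fun x : G => x⁻¹ * h * x ∈ H) := by
      rw [h7]; exact Finset.mem_univ g
    exact (Finset.mem_filter.mp h8).2

end Step

section PartB

variable {G : Type u} [Group G] [Finite G]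

/-- If `K ∩ H` is invariant under conjugation for every maximal subgroup `H` not containing the
normal subgroup `K`, then `T ∩ K` is normal for every Sylow subgroup `T`. -/
theorem sylow_inf_normal_of_coatom_conj (K : Subgroup G) [K.Normal]
    (hK : ∀ H : Subgroup G, IsCoatom H → ¬ K ≤ H → ∀ h ∈ H, h ∈ K → ∀ g : G, g⁻¹ * h * g ∈ H)
    (p : ℕ) [Fact p.Prime] (T : Sylow p G) : ((T : Subgroup G) ⊓ K).Normal := by
  by_contra hn
  have hN : Subgroup.normalizer (((T : Subgroup G) ⊓ K : Subgroup G) : Set G) ≠ ⊤ :=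
    fun h => hn (Subgroup.normalizer_eq_top_iff.mp h)
  obtain ⟨H, hH, hNH⟩ := (eq_top_or_exists_le_coatom _).resolve_left hN
  have hfr := Cfsg.Agent.Lib.Helper47.normalizer_inf_sup_eq_top T K
  have hKH : ¬ K ≤ H := by
    intro hKH
    apply hH.1
    rw [eq_top_iff, ← hfr]
    exact sup_le hNH hKH
  haveI hA : (K ⊓ H).Normal := by
    refine ⟨fun a ha g => ⟨‹K.Normal›.conj_mem a ha.1 g, ?_⟩⟩
    have h1 := hK H hH hKH a ha.2 ha.1 g⁻¹
    rw [inv_inv] at h1
    exact h1
  have hTA : (T : Subgroup G) ⊓ (K ⊓ H) = (T : Subgroup G) ⊓ K := by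
    apply le_antisymm
    · exact le_inf inf_le_left (inf_le_right.trans inf_le_left)
    · exact le_inf inf_le_left (le_inf inf_le_right (Subgroup.le_normalizer.trans hNH))
  have hfr2 := Cfsg.Agent.Lib.Helper47.normalizer_inf_sup_eq_top T (K ⊓ H)
  rw [hTA] at hfr2
  apply hH.1
  rw [eq_top_iff, ← hfr2]
  exact sup_le hNH inf_le_right

/-- Under the same hypothesis, `K` is nilpotent. -/
theorem isNilpotent_of_coatom_conj (K : Subgroup G) [K.Normal]
    (hK : ∀ H : Subgroup G, IsCoatom H → ¬ K ≤ H → ∀ h ∈ H, h ∈ K → ∀ g : G, g⁻¹ * h * g ∈ H) :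
    Group.IsNilpotent K := by
  refine (Group.isNilpotent_of_finite_tfae.out 0 3).mpr fun p hp P => ?_
  haveI := hp
  obtain ⟨T, hT⟩ := (P.isPGroup'.map K.subtype).exists_le_sylow
  haveI := sylow_inf_normal_of_coatom_conj K hK p T
  have hQ : IsPGroup p (((T : Subgroup G) ⊓ K).subgroupOf K) :=
    (T.isPGroup'.to_le inf_le_left).comap_of_injective K.subtype K.subtype_injective
  have hPQ : (P : Subgroup K) ≤ ((T : Subgroup G) ⊓ K).subgroupOf K := by
    intro x hx
    rw [Subgroup.mem_subgroupOf]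
    exact ⟨hT (Subgroup.mem_map_of_mem K.subtype hx), x.2⟩
  have h1 := P.is_maximal' hQ hPQ
  rw [← h1]
  infer_instance

end PartB

section Frattini

variable {G : Type u} [Group G] [Finite G]

/-- Commutators of elements of a nilpotent normal subgroup lie in the Frattini subgroup. -/
theorem commutator_mem_frattini_of_nilpotent (K : Subgroup G) [K.Normal]
    (hnil : Group.IsNilpotent K) {a b : G} (ha : a ∈ K) (hb : b ∈ K) : ⁅a, b⁆ ∈ frattini G := by
  haveI := hnil
  have h1 : ⁅(⟨a, ha⟩ : K), (⟨b, hb⟩ : K)⁆ ∈ commutator K := by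
    rw [commutator_def]
    exact Subgroup.commutator_mem_commutator (Subgroup.mem_top _) (Subgroup.mem_top _)
  have h2 := Cfsg.Agent.Lib.Helper90.commutator_le_frattini_of_isNilpotent h1
  have h3 := Cfsg.Agent.Lib.Helper90.frattini_map_subtype_le K
    (Subgroup.mem_map_of_mem K.subtype h2)
  exact h3

omit [Finite G] in
/-- The elements commuting with `K` modulo the normal subgroup `Φ`. -/
def commModSubgroup (K Φ : Subgroup G) [Φ.Normal] : Subgroup G where
  carrier := {y | ∀ k ∈ K, ⁅k, y⁆ ∈ Φ}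
  one_mem' := fun k _ => by rw [commutatorElement_one_right]; exact Φ.one_mem
  mul_mem' := fun {y z} hy hz k hk => by
    have hid : ⁅k, y * z⁆ = ⁅k, y⁆ * (y * ⁅k, z⁆ * y⁻¹) := by
      simp only [commutatorElement_def]; group
    rw [hid]
    exact Φ.mul_mem (hy k hk) (‹Φ.Normal›.conj_mem _ (hz k hk) y)
  inv_mem' := fun {y} hy k hk => by
    have hid : ⁅k, y⁻¹⁆ = y⁻¹ * (⁅k, y⁆)⁻¹ * y⁻¹⁻¹ := by
      simp only [commutatorElement_def]; group
    rw [hid]
    exact ‹Φ.Normal›.conj_mem _ (Φ.inv_mem (hy k hk)) y⁻¹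

omit [Finite G] in
theorem mem_commModSubgroup (K Φ : Subgroup G) [Φ.Normal] (y : G) :
    y ∈ commModSubgroup K Φ ↔ ∀ k ∈ K, ⁅k, y⁆ ∈ Φ := Iff.rfl

omit [Finite G] in
instance commModSubgroup_normal (K Φ : Subgroup G) [K.Normal] [Φ.Normal] :
    (commModSubgroup K Φ).Normal :=
  ⟨fun y hy g k hk => by
    have hid : ⁅k, g * y * g⁻¹⁆ = g * ⁅g⁻¹ * k * g⁻¹⁻¹, y⁆ * g⁻¹ := by
      simp only [commutatorElement_def]; group
    rw [hid]
    exact ‹Φ.Normal›.conj_mem _ (hy _ (‹K.Normal›.conj_mem k hk g⁻¹)) g⟩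

/-- If `K` contains every nilpotent normal subgroup, `M ⊇ K` is normal with `|M : K|` a prime
power and `[K, M]` lies in the Frattini subgroup, then `M = K`. -/
theorem le_of_relIndex_prime_pow (K M : Subgroup G) [K.Normal] [M.Normal]
    (hF : ∀ N : Subgroup G, N.Normal → Group.IsNilpotent N → N ≤ K)
    (q n : ℕ) [hq : Fact q.Prime] (hidx : K.relIndex M = q ^ n)
    (hcomm : ∀ k ∈ K, ∀ m ∈ M, ⁅k, m⁆ ∈ frattini G) : M ≤ K := by
  obtain ⟨T⟩ : Nonempty (Sylow q G) := inferInstance
  set Q : Subgroup G := (T : Subgroup G) ⊓ M with hQ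
  haveI hΦ : (frattini G).Normal := inferInstance
  -- Step 1
  have h1 : M ≤ K ⊔ Q := by
    rw [← Subgroup.relIndex_eq_one]
    have hd1 : (K ⊔ Q).relIndex M ∣ q ^ n := by
      rw [← hidx]; exact Subgroup.relIndex_dvd_of_le_left M le_sup_left
    have hd2 : (K ⊔ Q).relIndex M ∣ Q.relIndex M :=
      Subgroup.relIndex_dvd_of_le_left M le_sup_right
    obtain ⟨S, hS⟩ := Cfsg.Agent.Lib.Helper47.exists_sylow_inf_normal T M
    have hnd : ¬ q ∣ Q.relIndex M := by
      have h2 := S.not_dvd_index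
      rw [hS] at h2
      exact h2
    obtain ⟨j, -, hjeq⟩ := (Nat.dvd_prime_pow hq.out).mp hd1
    rcases Nat.eq_zero_or_pos j with h0 | hpos
    · rw [hjeq, h0, pow_zero]
    · exfalso
      apply hnd
      rw [hjeq] at hd2
      exact (dvd_pow_self q hpos.ne').trans hd2
  -- Step 2
  set B : Subgroup G := Q ⊔ frattini G with hB
  have hmemB : ∀ w, w ∈ B ↔ ∃ u ∈ Q, ∃ φ ∈ frattini G, u * φ = w := by
    intro w
    rw [← SetLike.mem_coe, hB, Subgroup.mul_normal]
    exact Set.mem_mul
  have hNQ : Subgroup.normalizer (Q : Set G) ≤ Subgroup.normalizer (B : Set G) := by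
    apply Cfsg.Agent.Lib.Helper53.le_normalizer_of_conj_mem
    intro g hg w hw
    obtain ⟨u, hu, φ, hφ, rfl⟩ := (hmemB w).mp hw
    have h2 : g * (u * φ) * g⁻¹ = (g * u * g⁻¹) * (g * φ * g⁻¹) := by group
    rw [h2]
    exact (hmemB _).mpr ⟨_, (Subgroup.mem_normalizer_iff.mp hg u).mp hu, _,
      hΦ.conj_mem φ hφ g, rfl⟩
  have hKB : K ≤ Subgroup.normalizer (B : Set G) := by
    apply Cfsg.Agent.Lib.Helper53.le_normalizer_of_conj_mem
    intro k hk w hw
    obtain ⟨u, hu, φ, hφ, rfl⟩ := (hmemB w).mp hw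
    have h2 : k * (u * φ) * k⁻¹ = ⁅k, u⁆ * u * (k * φ * k⁻¹) := by
      simp only [commutatorElement_def]; group
    rw [h2]
    have h3 : ⁅k, u⁆ ∈ B := le_sup_right (a := Q) (hcomm k hk u hu.2)
    have h4 : u ∈ B := le_sup_left (b := frattini G) hu
    have h5 : k * φ * k⁻¹ ∈ B := le_sup_right (a := Q) (hΦ.conj_mem φ hφ k)
    exact B.mul_mem (B.mul_mem h3 h4) h5
  have hQB : Q ≤ Subgroup.normalizer (B : Set G) := le_sup_left.trans Subgroup.le_normalizer
  haveI hBn : B.Normal := by
    rw [← Subgroup.normalizer_eq_top_iff, eq_top_iff,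
      ← Cfsg.Agent.Lib.Helper47.normalizer_inf_sup_eq_top T M]
    exact sup_le hNQ (h1.trans (sup_le hKB hQB))
  -- Step 3
  have hfr := Cfsg.Agent.Lib.Helper47.normalizer_inf_sup_eq_top T B
  set R : Subgroup G := (T : Subgroup G) ⊓ B with hR
  have hQR : Q ≤ R := le_inf inf_le_left le_sup_left
  have hRtop : Subgroup.normalizer (R : Set G) = ⊤ := by
    apply frattini_nongenerating
    rw [eq_top_iff, ← hfr]
    refine sup_le le_sup_left (sup_le ?_ le_sup_right)
    exact (hQR.trans Subgroup.le_normalizer).trans le_sup_left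
  have hRn : R.Normal := Subgroup.normalizer_eq_top_iff.mp hRtop
  have hRp : IsPGroup q R := T.isPGroup'.to_le inf_le_left
  have hRK : R ≤ K := hF R hRn hRp.isNilpotent
  exact h1.trans (sup_le le_rfl (hQR.trans hRK))

end Frattini

section Main

variable {G : Type u} [Group G] [Finite G]

/-- **Broline-Garrison**: if the kernel `K` of the irreducible character `χ` is not contained in
the Fitting subgroup, or `K = F(G)` with `G ⧸ K` solvable and `K ≠ G`, then some irreducible
character has larger degree and strictly smaller kernel. -/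
theorem broline_garrison (χ : Cfsg.IrrCharacter G) (K : Subgroup G) [K.Normal]
    (hKe : irrKer χ = K)
    (h : ¬ K ≤ Cfsg.fittingSubgroup G ∨
      (K = Cfsg.fittingSubgroup G ∧ Group.IsSolvable (G ⧸ K) ∧ K ≠ ⊤)) :
    ∃ ψ : Cfsg.IrrCharacter G, Cfsg.charDegree (χ : G → ℂ) < Cfsg.charDegree (ψ : G → ℂ) ∧
      irrKer ψ < K := by
  classical
  by_contra hcon
  have hmem : ∀ g, g ∈ K ↔ (χ : G → ℂ) g = (χ : G → ℂ) 1 := fun g => hKe ▸ mem_irrKer χ g
  have hdag : ∀ H : Subgroup G, IsCoatom H → ¬ K ≤ H → ∀ h ∈ H, (χ : G → ℂ) h ≠ 0 →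
      ∀ g : G, g⁻¹ * h * g ∈ H := by
    intro H hH hKH
    have h1 := bg_step χ H hH (hKe ▸ hKH)
    rw [hKe] at h1
    exact h1.resolve_left hcon
  have hne1 := char_one_ne_zero χ.2
  have hKnil : Group.IsNilpotent K := by
    apply isNilpotent_of_coatom_conj K
    intro H hH hKH h hh hhK g
    apply hdag H hH hKH h hh _ g
    rw [(hmem h).mp hhK]; exact hne1
  rcases h with h | ⟨hKF, hsolv, hKtop⟩
  · exact h (Cfsg.Agent.Lib.Helper71.le_fittingSubgroup K hKnil)
  · haveI := hsolv
    haveI hΦn : (frattini G).Normal := inferInstance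
    have hcommK : ∀ k ∈ K, ∀ x : G, ⁅k, x⁆ ∈ K := by
      intro k hk x
      have h1 : ⁅k, x⁆ = k * (x * k⁻¹ * x⁻¹) := by
        rw [commutatorElement_def]; group
      rw [h1]
      exact K.mul_mem hk (‹K.Normal›.conj_mem _ (K.inv_mem hk) x)
    have hL1 : ∀ k ∈ K, ∀ x : G, (χ : G → ℂ) x ≠ 0 → ⁅k, x⁆ ∈ frattini G := by
      intro k hk x hx
      rw [Cfsg.Agent.Lib.Helper90.mem_frattini_iff']
      intro H hH
      by_cases hKH : K ≤ H
      · exact hKH (hcommK k hk x)
      · have hsup : K ⊔ H = ⊤ := hH.2 _ (right_lt_sup.mpr hKH)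
        have hx' : x ∈ ((K ⊔ H : Subgroup G) : Set G) := by rw [hsup]; trivial
        rw [Subgroup.normal_mul] at hx'
        obtain ⟨k₁, hk₁, h, hh, rfl⟩ := Set.mem_mul.mp hx'
        have hχh : (χ : G → ℂ) h ≠ 0 := by
          rw [← char_mul_of_mem_irrKer χ (hKe ▸ hk₁) h]; exact hx
        have hconj := hdag H hH hKH h hh hχh
        have hid : ⁅k, k₁ * h⁆ = ⁅k, k₁⁆ * (k₁ * ⁅k, h⁆ * k₁⁻¹) := by
          simp only [commutatorElement_def]; group
        rw [hid]
        have h1 : ⁅k, k₁⁆ ∈ H := (Cfsg.Agent.Lib.Helper90.mem_frattini_iff' _).mp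
          (commutator_mem_frattini_of_nilpotent K hKnil hk hk₁) H hH
        have h2 : ⁅k, h⁆ ∈ H := by
          rw [commutatorElement_def]
          have h3 := hconj k⁻¹
          rw [inv_inv] at h3
          exact H.mul_mem h3 (H.inv_mem hh)
        have h3 : ⁅k, h⁆ ∈ K := hcommK k hk h
        have h4 : (χ : G → ℂ) ⁅k, h⁆ ≠ 0 := by rw [(hmem _).mp h3]; exact hne1
        have h5 := hdag H hH hKH _ h2 h4 k₁⁻¹
        rw [inv_inv] at h5
        exact H.mul_mem h1 h5
    have hex : ∃ x : G, (χ : G → ℂ) x ≠ 0 ∧ x ∉ K := by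
      by_contra hno
      push Not at hno
      have hv : ∀ g, g ∉ K → (χ : G → ℂ) g = 0 := fun g hg => by
        by_contra h0; exact hg (hno g h0)
      have h1 := charDegree_sq_mul_card_of_vanish χ K
        (fun c hc => by rw [(hmem c).mp hc]) hv
      haveI := Fintype.ofFinite (Cfsg.IrrCharacter G)
      have h2 := sum_charDegree_sq_filter_ker K
      have hχt : χ ≠ trivIrr G := by
        intro heq
        apply hKtop
        rw [eq_top_iff]
        intro g _
        rw [hmem, heq]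
        rfl
      have hmem1 : χ ∈ Finset.univ.filter (fun ψ : Cfsg.IrrCharacter G =>
          ∀ x ∈ K, (ψ : G → ℂ) x = (ψ : G → ℂ) 1) := by
        rw [Finset.mem_filter]; exact ⟨Finset.mem_univ _, fun x hx => (hmem x).mp hx⟩
      have hmem2 : trivIrr G ∈ Finset.univ.filter (fun ψ : Cfsg.IrrCharacter G =>
          ∀ x ∈ K, (ψ : G → ℂ) x = (ψ : G → ℂ) 1) := by
        rw [Finset.mem_filter]; exact ⟨Finset.mem_univ _, fun x hx => rfl⟩
      have h3 : Cfsg.charDegree (χ : G → ℂ) ^ 2 + 1 ≤ K.index := by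
        rw [← h2]
        have hsub : ({χ, trivIrr G} : Finset (Cfsg.IrrCharacter G)) ⊆
            Finset.univ.filter (fun ψ : Cfsg.IrrCharacter G =>
              ∀ x ∈ K, (ψ : G → ℂ) x = (ψ : G → ℂ) 1) := by
          intro ψ hψ
          rw [Finset.mem_insert, Finset.mem_singleton] at hψ
          rcases hψ with rfl | rfl
          · exact hmem1
          · exact hmem2
        calc Cfsg.charDegree (χ : G → ℂ) ^ 2 + 1
            = ∑ ψ ∈ ({χ, trivIrr G} : Finset (Cfsg.IrrCharacter G)),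
                Cfsg.charDegree (ψ : G → ℂ) ^ 2 := by
              rw [Finset.sum_pair hχt, charDegree_trivIrr]; norm_num
          _ ≤ _ := Finset.sum_le_sum_of_subset hsub
      have h4 := Subgroup.card_mul_index K
      have hKpos : 0 < Nat.card K := Nat.card_pos
      have h5 : K.index = Cfsg.charDegree (χ : G → ℂ) ^ 2 := by
        have h6 : Nat.card K * K.index = Nat.card K * Cfsg.charDegree (χ : G → ℂ) ^ 2 := by
          rw [h4, ← h1]; ring
        exact Nat.eq_of_mul_eq_mul_left hKpos h6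
      omega
    obtain ⟨x, hx0, hxK⟩ := hex
    set Y := commModSubgroup K (frattini G) with hY
    have hKY : K ≤ Y := fun k hk k' hk' => commutator_mem_frattini_of_nilpotent K hKnil hk' hk
    have hxY : x ∈ Y := fun k hk => hL1 k hk x hx0
    have hYbar : (Y.map (QuotientGroup.mk' K)) ≠ ⊥ := by
      intro hbot
      apply hxK
      have h1 : (QuotientGroup.mk' K) x ∈ Y.map (QuotientGroup.mk' K) :=
        Subgroup.mem_map_of_mem _ hxY
      rw [hbot, Subgroup.mem_bot] at h1
      exact (QuotientGroup.eq_one_iff x).mp h1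
    have hYn : (Y.map (QuotientGroup.mk' K)).Normal :=
      Subgroup.Normal.map inferInstance _ (QuotientGroup.mk'_surjective K)
    obtain ⟨Mbar, ⟨hMn, hMne, hMmin⟩, hMY⟩ :=
      Cfsg.Agent.Lib.Helper96.exists_isMinNormal_le _ hYn hYbar
    haveI := hMn
    obtain ⟨q, d, hq, hd, hcard⟩ :=
      Cfsg.Agent.Lib.Helper10.exists_prime_pow_card_of_minimal_normal Mbar hMne hMmin
    haveI := Fact.mk hq
    set M := Mbar.comap (QuotientGroup.mk' K) with hM
    haveI hMnorm : M.Normal := Subgroup.Normal.comap hMn _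
    have hKM : K ≤ M := by
      intro k hk
      rw [hM, Subgroup.mem_comap]
      have h1 : (QuotientGroup.mk' K) k = 1 := (QuotientGroup.eq_one_iff k).mpr hk
      rw [h1]; exact Mbar.one_mem
    have hMYle : M ≤ Y := by
      intro m hm
      have h1 : (QuotientGroup.mk' K) m ∈ Y.map (QuotientGroup.mk' K) := hMY hm
      obtain ⟨y, hy, hym⟩ := h1
      have h2 : y⁻¹ * m ∈ K := QuotientGroup.eq.mp hym
      have h3 : m = y * (y⁻¹ * m) := by group
      rw [h3]
      exact Y.mul_mem hy (hKY h2)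
    have hidx : K.relIndex M = q ^ d := by
      have h2 : ((⊥ : Subgroup (G ⧸ K)).comap (QuotientGroup.mk' K)).relIndex M = q ^ d := by
        rw [Subgroup.relIndex_comap, hM,
          Subgroup.map_comap_eq_self_of_surjective (QuotientGroup.mk'_surjective K),
          Subgroup.relIndex_bot_left, hcard]
      rw [MonoidHom.comap_bot, QuotientGroup.ker_mk'] at h2
      exact h2
    have hMK : M ≤ K := le_of_relIndex_prime_pow K M
      (fun N hN hNnil => by
        rw [hKF]
        haveI := hN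
        exact Cfsg.Agent.Lib.Helper71.le_fittingSubgroup N hNnil)
      q d hidx (fun k hk m hm => hMYle hm k hk)
    have h1 : K.relIndex M = 1 := Subgroup.relIndex_eq_one.mpr hMK
    rw [hidx] at h1
    exact absurd h1 (Nat.one_lt_pow hd.ne' hq.one_lt).ne'

end Main

end Cfsg.Agent.Lib.Helper80
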