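import Mathlib

/-!
# The Diophantine analysis behind the primitive linear groups of degree two

The class equation `1 - 1/g = ∑ (1/n_i) (1 - 1/a_i)` with `n_i ∈ {1, 2}` forces `g ∈ {12, 24, 60}`
once the cyclic and dihedral solutions are excluded.
-/

set_option autoImplicit false

namespace Cfsg.Agent.Lib.Helper80

theorem prim2_inv_bound {a : ℕ} {m : ℕ} (hm : 0 < m) (h : m ≤ a) : (1 : ℚ) / a ≤ 1 / m := by
  apply one_div_le_one_div_of_le
  · exact_mod_cast hm
  · exact_mod_cast h

theorem prim2_inv_pos {a : ℕ} (h : 0 < a) : (0 : ℚ) < 1 / a := by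
  have : (0 : ℚ) < a := by exact_mod_cast h
  positivity

theorem prim2_term_two {a : ℕ} (ha : 2 ≤ a) : ((a : ℚ) - 1) / (2 * a) = (1 - 1 / a) / 2 := by
  have : (a : ℚ) ≠ 0 := by
    have : 0 < a := by omega
    exact_mod_cast this.ne'
  field_simp

theorem prim2_term_one {a : ℕ} (ha : 2 ≤ a) : ((a : ℚ) - 1) / (1 * a) = 1 - 1 / a := by
  have : (a : ℚ) ≠ 0 := by
    have : 0 < a := by omega
    exact_mod_cast this.ne'
  field_simp

theorem prim2_eq_of_inv {g : ℕ} {m : ℕ} (hg : 0 < g) (hm : 0 < m) (h : (1 : ℚ) / g = 1 / m) :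
    g = m := by
  have hg' : (g : ℚ) ≠ 0 := by exact_mod_cast hg.ne'
  have hm' : (m : ℚ) ≠ 0 := by exact_mod_cast hm.ne'
  have : (g : ℚ) = m := by
    field_simp at h
    linarith
  exact_mod_cast this

/-- Three classes with `n = 2`, sorted. -/
theorem prim2_L3_sorted (a b c g : ℕ) (ha : 2 ≤ a) (hab : a ≤ b) (hbc : b ≤ c) (hg : 2 ≤ g)
    (h : (1 : ℚ) / a + 1 / b + 1 / c = 1 + 2 * (1 / g))
    (hcg : 2 * c ≠ g) : g = 12 ∨ g = 24 ∨ g = 60 := by
  obtain ⟨ia, hia⟩ : ∃ ia : ℚ, ia = 1 / a := ⟨_, rfl⟩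
  obtain ⟨ib, hib⟩ : ∃ ib : ℚ, ib = 1 / b := ⟨_, rfl⟩
  obtain ⟨ic, hic⟩ : ∃ ic : ℚ, ic = 1 / c := ⟨_, rfl⟩
  obtain ⟨ig, hig⟩ : ∃ ig : ℚ, ig = 1 / g := ⟨_, rfl⟩
  rw [← hia, ← hib, ← hic, ← hig] at h
  have hgpos : 0 < ig := by rw [hig]; exact prim2_inv_pos (by omega)
  have bnd : ∀ (x m : ℕ), 0 < m → m ≤ x → (1 : ℚ) / x ≤ 1 / m := fun x m hm hx =>
    prim2_inv_bound hm hx
  have ha3 : a < 3 := by
    by_contra hcon
    push Not at hcon
    have h1 : ia ≤ 1 / 3 := by
      rw [hia]; exact_mod_cast bnd a 3 (by norm_num) hcon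
    have h2 : ib ≤ 1 / 3 := by
      rw [hib]; exact_mod_cast bnd b 3 (by norm_num) (by omega)
    have h3 : ic ≤ 1 / 3 := by
      rw [hic]; exact_mod_cast bnd c 3 (by norm_num) (by omega)
    linarith
  have ha2 : a = 2 := by omega
  subst ha2
  have hia' : ia = 1 / 2 := by rw [hia]; norm_num
  have hb4 : b < 4 := by
    by_contra hcon
    push Not at hcon
    have h2 : ib ≤ 1 / 4 := by
      rw [hib]; exact_mod_cast bnd b 4 (by norm_num) hcon
    have h3 : ic ≤ 1 / 4 := by
      rw [hic]; exact_mod_cast bnd c 4 (by norm_num) (by omega)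
    linarith
  have hb23 : b = 2 ∨ b = 3 := by omega
  rcases hb23 with rfl | rfl
  · exfalso
    apply hcg
    have hib' : ib = 1 / 2 := by rw [hib]; norm_num
    have h1 : (1 : ℚ) / g = 1 / (2 * c : ℕ) := by
      have hc' : (c : ℚ) ≠ 0 := by
        have : 0 < c := by omega
        exact_mod_cast this.ne'
      push_cast
      have : (1 : ℚ) / (2 * c) = (1 / c) / 2 := by field_simp
      rw [this, ← hic, ← hig]
      linarith
    exact (prim2_eq_of_inv (by omega) (by omega) h1).symm
  · have hib' : ib = 1 / 3 := by rw [hib]; norm_num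
    have hc6 : c < 6 := by
      by_contra hcon
      push Not at hcon
      have h3 : ic ≤ 1 / 6 := by
        rw [hic]; exact_mod_cast bnd c 6 (by norm_num) hcon
      linarith
    have hc345 : c = 3 ∨ c = 4 ∨ c = 5 := by omega
    rcases hc345 with rfl | rfl | rfl
    · left
      have hic' : ic = 1 / 3 := by rw [hic]; norm_num
      apply prim2_eq_of_inv (by omega) (by norm_num)
      rw [← hig]
      push_cast
      linarith
    · right; left
      have hic' : ic = 1 / 4 := by rw [hic]; norm_num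
      apply prim2_eq_of_inv (by omega) (by norm_num)
      rw [← hig]
      push_cast
      linarith
    · right; right
      have hic' : ic = 1 / 5 := by rw [hic]; norm_num
      apply prim2_eq_of_inv (by omega) (by norm_num)
      rw [← hig]
      push_cast
      linarith

/-- Three classes with `n = 2`. -/
theorem prim2_L3 (a b c g : ℕ) (ha : 2 ≤ a) (hb : 2 ≤ b) (hc : 2 ≤ c) (hg : 2 ≤ g)
    (h : ((a : ℚ) - 1) / (2 * a) + ((b : ℚ) - 1) / (2 * b) + ((c : ℚ) - 1) / (2 * c) = 1 - 1 / g)
    (hag : 2 * a ≠ g) (hbg : 2 * b ≠ g) (hcg : 2 * c ≠ g) : g = 12 ∨ g = 24 ∨ g = 60 := by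
  rw [prim2_term_two ha, prim2_term_two hb, prim2_term_two hc] at h
  have h' : (1 : ℚ) / a + 1 / b + 1 / c = 1 + 2 * (1 / g) := by linarith
  rcases le_total a b with hab | hab <;> rcases le_total b c with hbc | hbc <;>
    rcases le_total a c with hac | hac
  · exact prim2_L3_sorted a b c g ha hab hbc hg h' hcg
  · exact prim2_L3_sorted a b c g ha hab hbc hg h' hcg
  · exact prim2_L3_sorted a c b g ha hac hbc hg (by linarith) hbg
  · exact prim2_L3_sorted c a b g hc hac hab hg (by linarith) hbg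
  · exact prim2_L3_sorted b a c g hb hab hac hg (by linarith) hcg
  · exact prim2_L3_sorted b c a g hb hbc hac hg (by linarith) hag
  · exact prim2_L3_sorted c b a g hc hbc hab hg (by linarith) hag
  · exact prim2_L3_sorted c b a g hc hbc hab hg (by linarith) hag

/-- One class with `n = 1` and one with `n = 2`. -/
theorem prim2_L2 (a b g : ℕ) (ha : 2 ≤ a) (hb : 2 ≤ b) (hg : 2 ≤ g)
    (h : ((a : ℚ) - 1) / (1 * a) + ((b : ℚ) - 1) / (2 * b) = 1 - 1 / g)
    (hbg : 2 * b ≠ g) : g = 12 ∨ g = 24 ∨ g = 60 := by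
  rw [prim2_term_one ha, prim2_term_two hb] at h
  obtain ⟨ia, hia⟩ : ∃ ia : ℚ, ia = 1 / a := ⟨_, rfl⟩
  obtain ⟨ib, hib⟩ : ∃ ib : ℚ, ib = 1 / b := ⟨_, rfl⟩
  obtain ⟨ig, hig⟩ : ∃ ig : ℚ, ig = 1 / g := ⟨_, rfl⟩
  rw [← hia, ← hib, ← hig] at h
  have hgpos : 0 < ig := by rw [hig]; exact prim2_inv_pos (by omega)
  have bnd : ∀ (x m : ℕ), 0 < m → m ≤ x → (1 : ℚ) / x ≤ 1 / m := fun x m hm hx =>
    prim2_inv_bound hm hx
  have hb2 : ib ≤ 1 / 2 := by
    rw [hib]; exact_mod_cast bnd b 2 (by norm_num) hb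
  have ha4 : a < 4 := by
    by_contra hcon
    push Not at hcon
    have h1 : ia ≤ 1 / 4 := by
      rw [hia]; exact_mod_cast bnd a 4 (by norm_num) hcon
    linarith
  have ha23 : a = 2 ∨ a = 3 := by omega
  rcases ha23 with rfl | rfl
  · exfalso
    apply hbg
    have hia' : ia = 1 / 2 := by rw [hia]; norm_num
    have h1 : (1 : ℚ) / g = 1 / (2 * b : ℕ) := by
      have hb' : (b : ℚ) ≠ 0 := by
        have : 0 < b := by omega
        exact_mod_cast this.ne'
      push_cast
      have : (1 : ℚ) / (2 * b) = (1 / b) / 2 := by field_simp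
      rw [this, ← hib, ← hig]
      linarith
    exact (prim2_eq_of_inv (by omega) (by omega) h1).symm
  · have hia' : ia = 1 / 3 := by rw [hia]; norm_num
    have hb3 : b < 3 := by
      by_contra hcon
      push Not at hcon
      have h3 : ib ≤ 1 / 3 := by
        rw [hib]; exact_mod_cast bnd b 3 (by norm_num) hcon
      linarith
    have hb2' : b = 2 := by omega
    subst hb2'
    have hib' : ib = 1 / 2 := by rw [hib]; norm_num
    left
    apply prim2_eq_of_inv (by omega) (by norm_num)
    rw [← hig]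
    push_cast
    linarith

/-- The class equation forces `g ∈ {12, 24, 60}`. -/
theorem prim2_arith {Q : Type*} [Fintype Q] (a n : Q → ℕ) (g : ℕ) (hg : 2 ≤ g)
    (ha : ∀ q, 2 ≤ a q) (hn : ∀ q, n q = 1 ∨ n q = 2) (hle : ∀ q, n q * a q ≤ g)
    (h1 : ∀ q, a q ≠ g) (h2 : ∀ q, 2 * a q ≠ g)
    (hsum : ∑ q, ((a q : ℚ) - 1) / (n q * a q) = 1 - 1 / g) : g = 12 ∨ g = 24 ∨ g = 60 := by
  classical
  have hgpos : (0 : ℚ) < 1 / g := prim2_inv_pos (by omega)
  have hinv2 : ∀ q, (1 : ℚ) / a q ≤ 1 / 2 := by
    intro q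
    have := prim2_inv_bound (a := a q) (m := 2) (by norm_num) (ha q)
    simpa using this
  have hinvpos : ∀ q, (0 : ℚ) < 1 / a q := fun q => prim2_inv_pos (by have := ha q; omega)
  have ht1 : ∀ q, n q = 1 → ((a q : ℚ) - 1) / (n q * a q) = 1 - 1 / a q := by
    intro q hq
    rw [hq]
    exact_mod_cast prim2_term_one (ha q)
  have ht2 : ∀ q, n q = 2 → ((a q : ℚ) - 1) / (n q * a q) = (1 - 1 / a q) / 2 := by
    intro q hq
    rw [hq]
    exact_mod_cast prim2_term_two (ha q)
  have hlow : ∀ q, (1 : ℚ) / 4 ≤ ((a q : ℚ) - 1) / (n q * a q) := by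
    intro q
    rcases hn q with hq | hq
    · rw [ht1 q hq]
      linarith [hinv2 q]
    · rw [ht2 q hq]
      linarith [hinv2 q]
  have hlow1 : ∀ q, n q = 1 → (1 : ℚ) / 2 ≤ ((a q : ℚ) - 1) / (n q * a q) := by
    intro q hq
    rw [ht1 q hq]
    linarith [hinv2 q]
  have hcard : Fintype.card Q < 4 := by
    by_contra hcon
    push Not at hcon
    have h3 := Finset.card_nsmul_le_sum (Finset.univ : Finset Q)
      (fun q => ((a q : ℚ) - 1) / (n q * a q)) (1 / 4) (fun q _ => hlow q)
    rw [hsum, Finset.card_univ, nsmul_eq_mul] at h3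
    have h4 : (4 : ℚ) ≤ Fintype.card Q := by exact_mod_cast hcon
    linarith
  have hcases : Fintype.card Q = 0 ∨ Fintype.card Q = 1 ∨ Fintype.card Q = 2 ∨
      Fintype.card Q = 3 := by omega
  rcases hcases with h0 | h0 | h0 | h0
  · exfalso
    rw [← Finset.card_univ, Finset.card_eq_zero] at h0
    rw [h0, Finset.sum_empty] at hsum
    have hg1 : (1 : ℚ) / g = 1 / (1 : ℕ) := by
      push_cast
      linarith
    have := prim2_eq_of_inv (by omega) (by norm_num) hg1
    omega
  · exfalso
    rw [← Finset.card_univ, Finset.card_eq_one] at h0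
    obtain ⟨x, hx⟩ := h0
    rw [hx, Finset.sum_singleton] at hsum
    rcases hn x with hq | hq
    · rw [ht1 x hq] at hsum
      have hg1 : (1 : ℚ) / g = 1 / (a x : ℕ) := by linarith
      have := prim2_eq_of_inv (by omega) (by have := ha x; omega) hg1
      exact h1 x this.symm
    · rw [ht2 x hq] at hsum
      have hg2 : (1 : ℚ) / g ≤ 1 / 2 := by
        have := prim2_inv_bound (a := g) (m := 2) (by norm_num) hg
        simpa using this
      linarith [hinvpos x]
  · rw [← Finset.card_univ, Finset.card_eq_two] at h0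
    obtain ⟨x, y, hxy, hu⟩ := h0
    rw [hu, Finset.sum_pair hxy] at hsum
    rcases hn x with hx | hx <;> rcases hn y with hy | hy
    · exfalso
      have := hlow1 x hx
      have := hlow1 y hy
      linarith
    · rw [hy] at hsum
      have hsum' : ((a x : ℚ) - 1) / (1 * a x) + ((a y : ℚ) - 1) / (2 * a y) = 1 - 1 / g := by
        rw [← hsum, hx]
        push_cast
        ring
      exact prim2_L2 (a x) (a y) g (ha x) (ha y) hg hsum' (h2 y)
    · rw [hx] at hsum
      have hsum' : ((a y : ℚ) - 1) / (1 * a y) + ((a x : ℚ) - 1) / (2 * a x) = 1 - 1 / g := by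
        rw [← hsum, hy]
        push_cast
        ring
      exact prim2_L2 (a y) (a x) g (ha y) (ha x) hg hsum' (h2 x)
    · exfalso
      rw [ht2 x hx, ht2 y hy] at hsum
      have hbx : (1 : ℚ) / g ≤ 1 / (2 * a x : ℕ) := by
        apply one_div_le_one_div_of_le
        · have := ha x
          exact_mod_cast (by omega : 0 < 2 * a x)
        · have := hle x
          rw [hx] at this
          exact_mod_cast this
      have hby : (1 : ℚ) / g ≤ 1 / (2 * a y : ℕ) := by
        apply one_div_le_one_div_of_le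
        · have := ha y
          exact_mod_cast (by omega : 0 < 2 * a y)
        · have := hle y
          rw [hy] at this
          exact_mod_cast this
      have ex : (1 : ℚ) / (2 * a x : ℕ) = (1 / a x) / 2 := by
        have : (a x : ℚ) ≠ 0 := by
          have := ha x
          exact_mod_cast (by omega : a x ≠ 0)
        push_cast
        field_simp
      have ey : (1 : ℚ) / (2 * a y : ℕ) = (1 / a y) / 2 := by
        have : (a y : ℚ) ≠ 0 := by
          have := ha y
          exact_mod_cast (by omega : a y ≠ 0)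
        push_cast
        field_simp
      rw [ex] at hbx
      rw [ey] at hby
      linarith
  · rw [← Finset.card_univ, Finset.card_eq_three] at h0
    obtain ⟨x, y, z, hxy, hxz, hyz, hu⟩ := h0
    have hsum3 : ((a x : ℚ) - 1) / (n x * a x) + ((a y : ℚ) - 1) / (n y * a y) +
        ((a z : ℚ) - 1) / (n z * a z) = 1 - 1 / g := by
      rw [← hsum, hu, Finset.sum_insert (by simp [hxy, hxz]), Finset.sum_pair hyz]
      ring
    by_cases hall : n x = 2 ∧ n y = 2 ∧ n z = 2
    · obtain ⟨hx, hy, hz⟩ := hall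
      rw [hx, hy, hz] at hsum3
      exact prim2_L3 (a x) (a y) (a z) g (ha x) (ha y) (ha z) hg (by exact_mod_cast hsum3)
        (h2 x) (h2 y) (h2 z)
    · exfalso
      have hsome : n x = 1 ∨ n y = 1 ∨ n z = 1 := by
        by_contra hno
        push Not at hno
        obtain ⟨hx, hy, hz⟩ := hno
        apply hall
        refine ⟨?_, ?_, ?_⟩
        · rcases hn x with h | h
          · exact absurd h hx
          · exact h
        · rcases hn y with h | h
          · exact absurd h hy
          · exact h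
        · rcases hn z with h | h
          · exact absurd h hz
          · exact h
      rcases hsome with hq | hq | hq
      · have := hlow1 x hq
        have := hlow y
        have := hlow z
        linarith
      · have := hlow1 y hq
        have := hlow x
        have := hlow z
        linarith
      · have := hlow1 z hq
        have := hlow x
        have := hlow y
        linarith

end Cfsg.Agent.Lib.Helper80
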