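import Mathlib
import Cfsg.Agent.Lib.Helper80.PrimTwoArith

/-!
# Groups in which commuting is transitive on noncentral elements

If centralizers of noncentral elements are abelian, have index at most two in their normalizers,
and there is no abelian subgroup of index two, then the centre has index `12`, `24` or `60`.
-/

set_option autoImplicit false
set_option linter.style.haveILetI false

namespace Cfsg.Agent.Lib.Helper80

universe u

section CT

variable {G : Type u} [Group G]

/-- The hypothesis: commuting is transitive through noncentral elements. -/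
def CommTrans (G : Type u) [Group G] : Prop :=
  ∀ g : G, g ∉ Subgroup.center G → ∀ x y : G, x * g = g * x → y * g = g * y → x * y = y * x

theorem conj_not_mem_center {y : G} (hy : y ∉ Subgroup.center G) (h : G) :
    h⁻¹ * y * h ∉ Subgroup.center G := by
  intro hc
  apply hy
  have := (Subgroup.center G).normal_of_characteristic.conj_mem _ hc h
  have e : h * (h⁻¹ * y * h) * h⁻¹ = y := by group
  rwa [e] at this

/-- Inside the centralizer of a noncentral `y₀`, the centralizer of a noncentral element is again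
the centralizer of `y₀`. -/
theorem mem_centralizer_iff_of_commTrans (hCT : CommTrans G) {y₀ v : G}
    (hv : v ∈ Subgroup.centralizer ({y₀} : Set G)) (hvZ : v ∉ Subgroup.center G)
    (hy₀ : y₀ ∉ Subgroup.center G) (c : G) :
    c ∈ Subgroup.centralizer ({y₀} : Set G) ↔ c * v = v * c := by
  rw [Subgroup.mem_centralizer_singleton_iff] at hv ⊢
  constructor
  · intro hc
    exact hCT y₀ hy₀ c v hc hv
  · intro hc
    exact hCT v hvZ c y₀ hc hv.symm

/-- Conjugating a commutation relation. -/
theorem conj_comm_iff (a u k : G) :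
    a * (k⁻¹ * u * k) = (k⁻¹ * u * k) * a ↔ (k * a * k⁻¹) * u = u * (k * a * k⁻¹) := by
  constructor
  · intro h
    calc (k * a * k⁻¹) * u = k * (a * (k⁻¹ * u * k)) * k⁻¹ := by group
      _ = k * ((k⁻¹ * u * k) * a) * k⁻¹ := by rw [h]
      _ = u * (k * a * k⁻¹) := by group
  · intro h
    calc a * (k⁻¹ * u * k) = k⁻¹ * ((k * a * k⁻¹) * u) * k := by group
      _ = k⁻¹ * (u * (k * a * k⁻¹)) * k := by rw [h]
      _ = (k⁻¹ * u * k) * a := by group

/-- If `u` and `k⁻¹ u k` are noncentral elements of the centralizer `A` of `y₀`, then `k`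
normalizes `A`. -/
theorem mem_normalizer_of_conj_mem (hCT : CommTrans G) {y₀ u k : G}
    (hy₀ : y₀ ∉ Subgroup.center G)
    (hu : u ∈ Subgroup.centralizer ({y₀} : Set G)) (huZ : u ∉ Subgroup.center G)
    (hu' : k⁻¹ * u * k ∈ Subgroup.centralizer ({y₀} : Set G)) :
    k ∈ Subgroup.normalizer ((Subgroup.centralizer ({y₀} : Set G) : Subgroup G) : Set G) := by
  rw [Subgroup.mem_normalizer_iff]
  intro a
  rw [mem_centralizer_iff_of_commTrans hCT hu' (conj_not_mem_center huZ k) hy₀ a,
    mem_centralizer_iff_of_commTrans hCT hu huZ hy₀ (k * a * k⁻¹)]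
  exact conj_comm_iff a u k

/-- The equivalence relation on noncentral elements: some conjugate of `y` commutes with `y'`. -/
def ctSetoid (hCT : CommTrans G) : Setoid {y : G // y ∉ Subgroup.center G} where
  r y y' := ∃ h : G, (h⁻¹ * y.1 * h) * y'.1 = y'.1 * (h⁻¹ * y.1 * h)
  iseqv := by
    refine ⟨fun y => ⟨1, by simp⟩, ?_, ?_⟩
    · rintro y y' ⟨h, hh⟩
      refine ⟨h⁻¹, ?_⟩
      calc (h⁻¹⁻¹ * y'.1 * h⁻¹) * y.1 = h * (y'.1 * (h⁻¹ * y.1 * h)) * h⁻¹ := by group
        _ = h * ((h⁻¹ * y.1 * h) * y'.1) * h⁻¹ := by rw [hh]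
        _ = y.1 * (h⁻¹⁻¹ * y'.1 * h⁻¹) := by group
    · rintro y y' y'' ⟨h, hh⟩ ⟨k, hk⟩
      refine ⟨h * k, ?_⟩
      have e : (h * k)⁻¹ * y.1 * (h * k) = k⁻¹ * (h⁻¹ * y.1 * h) * k := by group
      rw [e]
      have h1 : (k⁻¹ * (h⁻¹ * y.1 * h) * k) * (k⁻¹ * y'.1 * k) =
          (k⁻¹ * y'.1 * k) * (k⁻¹ * (h⁻¹ * y.1 * h) * k) := by
        calc (k⁻¹ * (h⁻¹ * y.1 * h) * k) * (k⁻¹ * y'.1 * k)
            = k⁻¹ * ((h⁻¹ * y.1 * h) * y'.1) * k := by group
          _ = k⁻¹ * (y'.1 * (h⁻¹ * y.1 * h)) * k := by rw [hh]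
          _ = (k⁻¹ * y'.1 * k) * (k⁻¹ * (h⁻¹ * y.1 * h) * k) := by group
      exact hCT (k⁻¹ * y'.1 * k) (conj_not_mem_center y'.2 k) _ _ h1 hk.symm

end CT

section Count

open Classical

variable {G : Type u} [Group G] [Fintype G]

theorem card_filter_mem (H : Subgroup G) :
    (Finset.univ.filter (fun x => x ∈ H)).card = Nat.card H := by
  rw [Nat.card_eq_fintype_card, Fintype.card_subtype]

/-- The class of `y₀`: noncentral elements with a conjugate in the centralizer of `y₀`. -/
noncomputable def ctClass (y₀ : G) : Finset G :=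
  Finset.univ.filter (fun y => y ∉ Subgroup.center G ∧
    ∃ h : G, h⁻¹ * y * h ∈ Subgroup.centralizer ({y₀} : Set G))

theorem card_conj_fiber (hCT : CommTrans G) {y₀ y : G} (hy₀ : y₀ ∉ Subgroup.center G)
    (hy : y ∈ ctClass y₀) :
    (Finset.univ.filter
      (fun h : G => h⁻¹ * y * h ∈ Subgroup.centralizer ({y₀} : Set G))).card =
      Nat.card (Subgroup.normalizer
        ((Subgroup.centralizer ({y₀} : Set G) : Subgroup G) : Set G)) := by
  rw [← card_filter_mem]
  unfold ctClass at hy
  rw [Finset.mem_filter] at hy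
  obtain ⟨-, hyZ, h₀, hh₀⟩ := hy
  symm
  apply Finset.card_bij (fun k _ => h₀ * k)
  · intro k hk
    rw [Finset.mem_filter] at hk ⊢
    refine ⟨Finset.mem_univ _, ?_⟩
    have hk' := inv_mem hk.2
    rw [Subgroup.mem_normalizer_iff] at hk'
    have e : (h₀ * k)⁻¹ * y * (h₀ * k) = k⁻¹ * (h₀⁻¹ * y * h₀) * k⁻¹⁻¹ := by group
    rw [e]
    exact (hk' _).mp hh₀
  · intro k₁ _ k₂ _ h
    exact mul_left_cancel h
  · intro h hh
    rw [Finset.mem_filter] at hh
    refine ⟨h₀⁻¹ * h, ?_, by group⟩
    rw [Finset.mem_filter]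
    refine ⟨Finset.mem_univ _, ?_⟩
    apply mem_normalizer_of_conj_mem hCT hy₀ hh₀ (conj_not_mem_center hyZ h₀)
    have e : (h₀⁻¹ * h)⁻¹ * (h₀⁻¹ * y * h₀) * (h₀⁻¹ * h) = h⁻¹ * y * h := by group
    rw [e]
    exact hh.2

theorem card_noncentral_conj (A : Subgroup G) (hZA : Subgroup.center G ≤ A) (h : G) :
    (Finset.univ.filter (fun y : G => y ∉ Subgroup.center G ∧ h⁻¹ * y * h ∈ A)).card +
      Nat.card (Subgroup.center G) = Nat.card A := by
  have h1 : (Finset.univ.filter (fun y : G => y ∉ Subgroup.center G ∧ h⁻¹ * y * h ∈ A)).card =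
      (Finset.univ.filter (fun u : G => u ∉ Subgroup.center G ∧ u ∈ A)).card := by
    apply Finset.card_bij (fun y _ => h⁻¹ * y * h)
    · intro y hy
      rw [Finset.mem_filter] at hy ⊢
      exact ⟨Finset.mem_univ _, conj_not_mem_center hy.2.1 h, hy.2.2⟩
    · intro y₁ _ y₂ _ he
      have e1 : h * (h⁻¹ * y₁ * h) * h⁻¹ = y₁ := by group
      have e2 : h * (h⁻¹ * y₂ * h) * h⁻¹ = y₂ := by group
      rw [← e1, ← e2, he]
    · intro u hu
      rw [Finset.mem_filter] at hu
      refine ⟨h * u * h⁻¹, ?_, by group⟩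
      rw [Finset.mem_filter]
      refine ⟨Finset.mem_univ _, ?_, ?_⟩
      · have := conj_not_mem_center hu.2.1 h⁻¹
        rwa [inv_inv] at this
      · have e : h⁻¹ * (h * u * h⁻¹) * h = u := by group
        rw [e]
        exact hu.2.2
  rw [h1, ← card_filter_mem, ← card_filter_mem A]
  have h2 := Finset.card_filter_add_card_filter_not
    (s := Finset.univ.filter (fun u : G => u ∈ A)) (fun u => u ∉ Subgroup.center G)
  rw [← h2]
  congr 1
  · congr 1
    ext u
    simp only [Finset.mem_filter, Finset.mem_univ, true_and]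
    tauto
  · congr 1
    ext u
    simp only [Finset.mem_filter, Finset.mem_univ, true_and, not_not]
    constructor
    · intro hu
      exact ⟨hZA hu, hu⟩
    · intro hu
      exact hu.2

theorem card_ctClass_mul (hCT : CommTrans G) {y₀ : G} (hy₀ : y₀ ∉ Subgroup.center G) :
    (ctClass y₀).card * Nat.card (Subgroup.normalizer
        ((Subgroup.centralizer ({y₀} : Set G) : Subgroup G) : Set G)) +
      Nat.card G * Nat.card (Subgroup.center G) =
      Nat.card G * Nat.card (Subgroup.centralizer ({y₀} : Set G)) := by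
  obtain ⟨A, hA⟩ : ∃ A : Subgroup G, A = Subgroup.centralizer ({y₀} : Set G) := ⟨_, rfl⟩
  rw [← hA]
  have hT1 : ∑ y : G, ∑ h : G, (if y ∉ Subgroup.center G ∧ h⁻¹ * y * h ∈ A then 1 else 0 : ℕ)
      = (ctClass y₀).card * Nat.card (Subgroup.normalizer (A : Set G)) := by
    have hy : ∀ y : G, ∑ h : G, (if y ∉ Subgroup.center G ∧ h⁻¹ * y * h ∈ A then 1 else 0 : ℕ)
        = if y ∈ ctClass y₀ then Nat.card (Subgroup.normalizer (A : Set G)) else 0 := by
      intro y
      by_cases hy : y ∈ ctClass y₀
      · rw [if_pos hy, hA, ← card_conj_fiber hCT hy₀ hy, Finset.card_filter]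
        have hyZ : y ∉ Subgroup.center G := (Finset.mem_filter.mp hy).2.1
        refine Finset.sum_congr rfl (fun h _ => ?_)
        simp [hyZ]
      · rw [if_neg hy]
        apply Finset.sum_eq_zero
        intro h _
        rw [if_neg]
        intro hc
        apply hy
        unfold ctClass
        rw [Finset.mem_filter]
        exact ⟨Finset.mem_univ _, hc.1, h, hA ▸ hc.2⟩
    rw [Finset.sum_congr rfl (fun y _ => hy y), Finset.sum_ite_mem, Finset.univ_inter,
      Finset.sum_const, smul_eq_mul]
  have hT2 : ∑ y : G, ∑ h : G, (if y ∉ Subgroup.center G ∧ h⁻¹ * y * h ∈ A then 1 else 0 : ℕ)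
      + Nat.card G * Nat.card (Subgroup.center G) = Nat.card G * Nat.card A := by
    rw [Finset.sum_comm]
    have hh : ∀ h : G, ∑ y : G, (if y ∉ Subgroup.center G ∧ h⁻¹ * y * h ∈ A then 1 else 0 : ℕ)
        + Nat.card (Subgroup.center G) = Nat.card A := by
      intro h
      rw [← Finset.card_filter]
      exact card_noncentral_conj A (hA ▸ Subgroup.center_le_centralizer _) h
    have h3 : ∑ h : G, (∑ y : G, (if y ∉ Subgroup.center G ∧ h⁻¹ * y * h ∈ A then 1 else 0 : ℕ)
        + Nat.card (Subgroup.center G)) = ∑ _h : G, Nat.card A :=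
      Finset.sum_congr rfl (fun h _ => hh h)
    rw [Finset.sum_add_distrib, Finset.sum_const, Finset.sum_const, smul_eq_mul, smul_eq_mul,
      Finset.card_univ, ← Nat.card_eq_fintype_card] at h3
    exact h3
  rw [← hT1]
  exact hT2

end Count

section Main

open Classical

variable {G : Type u} [Group G] [Fintype G]

/-- The numerical data attached to the class of a noncentral element. -/
theorem ctClass_data (hCT : CommTrans G)
    (hN2 : ∀ g : G, g ∉ Subgroup.center G → ∀ h₁ h₂ : G,
        h₁ ∈ Subgroup.normalizer ((Subgroup.centralizer ({g} : Set G) : Subgroup G) : Set G) →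
        h₂ ∈ Subgroup.normalizer ((Subgroup.centralizer ({g} : Set G) : Subgroup G) : Set G) →
        h₁ ∉ Subgroup.centralizer ({g} : Set G) → h₂ ∉ Subgroup.centralizer ({g} : Set G) →
        h₁⁻¹ * h₂ ∈ Subgroup.centralizer ({g} : Set G))
    (hno2 : ∀ A : Subgroup G, (∀ x ∈ A, ∀ y ∈ A, x * y = y * x) → A.index ≠ 2)
    (y₀ : G) (hy₀ : y₀ ∉ Subgroup.center G) :
    ∃ a n : ℕ, 2 ≤ a ∧ (n = 1 ∨ n = 2) ∧ n * a ≤ (Subgroup.center G).index ∧
      a ≠ (Subgroup.center G).index ∧ 2 * a ≠ (Subgroup.center G).index ∧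
      ((ctClass y₀).card : ℚ) / (Nat.card G) = ((a : ℚ) - 1) / (n * a) := by
  obtain ⟨Z, hZ⟩ : ∃ Z : Subgroup G, Z = Subgroup.center G := ⟨_, rfl⟩
  obtain ⟨A, hA⟩ : ∃ A : Subgroup G, A = Subgroup.centralizer ({y₀} : Set G) := ⟨_, rfl⟩
  obtain ⟨N, hN⟩ : ∃ N : Subgroup G, N = Subgroup.normalizer (A : Set G) := ⟨_, rfl⟩
  have hcG : Nat.card G = Z.index * Nat.card Z := (Subgroup.index_mul_card Z).symm
  have hcZpos : 0 < Nat.card Z := Nat.card_pos
  have hZA : Z ≤ A := by rw [hZ, hA]; exact Subgroup.center_le_centralizer _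
  have hAN : A ≤ N := by rw [hN]; exact Subgroup.le_normalizer
  have hy₀A : y₀ ∈ A := by rw [hA]; exact Subgroup.mem_centralizer_singleton_iff.mpr rfl
  obtain ⟨a, ha⟩ := Subgroup.card_dvd_of_le hZA
  obtain ⟨n, hn⟩ := Subgroup.card_dvd_of_le hAN
  have hcApos : 0 < Nat.card A := Nat.card_pos
  have hcNpos : 0 < Nat.card N := Nat.card_pos
  have hAcomm : ∀ x ∈ A, ∀ y ∈ A, x * y = y * x := by
    intro x hx y hy
    rw [hA, Subgroup.mem_centralizer_singleton_iff] at hx hy
    exact hCT y₀ (hZ ▸ hy₀) x y hx hy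
  have ha2 : 2 ≤ a := by
    by_contra hcon
    have ha1 : a ≤ 1 := by omega
    have hle : Nat.card A ≤ Nat.card Z := by rw [ha]; nlinarith
    have : Z = A := Subgroup.eq_of_le_of_card_ge hZA hle
    exact hy₀ (hZ ▸ this ▸ hy₀A)
  have hn12 : n = 1 ∨ n = 2 := by
    have hn0 : n ≠ 0 := by
      rintro rfl
      rw [mul_zero] at hn
      omega
    have hle : Nat.card N ≤ 2 * Nat.card A := by
      by_cases hex : ∃ h₁, h₁ ∈ N ∧ h₁ ∉ A
      · obtain ⟨h₁, h₁N, h₁A⟩ := hex
        rw [← card_filter_mem N, ← card_filter_mem A]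
        have hsub : Finset.univ.filter (fun x => x ∈ N) ⊆
            Finset.univ.filter (fun x => x ∈ A) ∪
              (Finset.univ.filter (fun x => x ∈ A)).image (fun x => h₁ * x) := by
          intro h₂ hh₂
          rw [Finset.mem_filter] at hh₂
          rw [Finset.mem_union]
          by_cases h₂A : h₂ ∈ A
          · left
            rw [Finset.mem_filter]
            exact ⟨Finset.mem_univ _, h₂A⟩
          · right
            rw [Finset.mem_image]
            refine ⟨h₁⁻¹ * h₂, ?_, by group⟩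
            rw [Finset.mem_filter]
            refine ⟨Finset.mem_univ _, ?_⟩
            rw [hA]
            apply hN2 y₀ (hZ ▸ hy₀) h₁ h₂
            · rw [← hA, ← hN]; exact h₁N
            · rw [← hA, ← hN]; exact hh₂.2
            · rw [← hA]; exact h₁A
            · rw [← hA]; exact h₂A
        have h1 := Finset.card_le_card hsub
        have h2 := Finset.card_union_le (Finset.univ.filter (fun x => x ∈ A))
          ((Finset.univ.filter (fun x => x ∈ A)).image (fun x => h₁ * x))
        have h3 := Finset.card_image_le (s := Finset.univ.filter (fun x => x ∈ A))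
          (f := fun x => h₁ * x)
        omega
      · push Not at hex
        have hNA : N ≤ A := fun x hx => hex x hx
        have := Subgroup.card_le_of_le hNA
        omega
    rw [hn] at hle
    have : n ≤ 2 := by nlinarith
    omega
  have hna : n * a ≤ Z.index := by
    have h1 : Nat.card N ≤ Nat.card G := Subgroup.card_le_card_group N
    rw [hn, ha, hcG] at h1
    have h2 : Nat.card Z * (n * a) ≤ Nat.card Z * Z.index := by nlinarith
    exact Nat.le_of_mul_le_mul_left h2 hcZpos
  have hag : a ≠ Z.index := by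
    intro hcon
    have h1 : Nat.card A = Nat.card G := by rw [ha, hcG, hcon, mul_comm]
    have h2 : A = ⊤ := Subgroup.eq_top_of_card_eq A h1
    apply hy₀
    rw [Subgroup.mem_center_iff]
    intro x
    have hx : x ∈ A := h2 ▸ Subgroup.mem_top x
    rw [hA, Subgroup.mem_centralizer_singleton_iff] at hx
    exact hx
  have h2ag : 2 * a ≠ Z.index := by
    intro hcon
    apply hno2 A hAcomm
    have h1 : Nat.card G = 2 * Nat.card A := by rw [ha, hcG, ← hcon]; ring
    have h2 := Subgroup.index_mul_card A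
    rw [h1] at h2
    exact Nat.eq_of_mul_eq_mul_right hcApos h2
  refine ⟨a, n, ha2, hn12, hZ ▸ hna, hZ ▸ hag, hZ ▸ h2ag, ?_⟩
  have hcls := card_ctClass_mul hCT hy₀
  rw [← hZ, ← hA, ← hN, hn, ha] at hcls
  have hcls' : ((ctClass y₀).card : ℚ) * ((Nat.card Z : ℚ) * a * n) +
      (Nat.card G : ℚ) * (Nat.card Z : ℚ) = (Nat.card G : ℚ) * ((Nat.card Z : ℚ) * a) := by
    exact_mod_cast hcls
  have hZne : (Nat.card Z : ℚ) ≠ 0 := by exact_mod_cast hcZpos.ne'
  have hGne : (Nat.card G : ℚ) ≠ 0 := by exact_mod_cast (Nat.card_pos (α := G)).ne'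
  have hane : (a : ℚ) ≠ 0 := by
    have : a ≠ 0 := by omega
    exact_mod_cast this
  have hnne : (n : ℚ) ≠ 0 := by
    have : n ≠ 0 := by omega
    exact_mod_cast this
  rw [div_eq_div_iff hGne (mul_ne_zero hnne hane)]
  apply mul_left_cancel₀ hZne
  linear_combination hcls'

/-- A finite group in which commuting is transitive through noncentral elements, centralizers
of noncentral elements have index at most two in their normalizers, and there is no abelian
subgroup of index two, has centre of index `12`, `24` or `60`. -/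
theorem index_center_of_commTrans (hCT : CommTrans G)
    (hN2 : ∀ g : G, g ∉ Subgroup.center G → ∀ h₁ h₂ : G,
        h₁ ∈ Subgroup.normalizer ((Subgroup.centralizer ({g} : Set G) : Subgroup G) : Set G) →
        h₂ ∈ Subgroup.normalizer ((Subgroup.centralizer ({g} : Set G) : Subgroup G) : Set G) →
        h₁ ∉ Subgroup.centralizer ({g} : Set G) → h₂ ∉ Subgroup.centralizer ({g} : Set G) →
        h₁⁻¹ * h₂ ∈ Subgroup.centralizer ({g} : Set G))
    (hnc : ∃ g : G, g ∉ Subgroup.center G)
    (hno2 : ∀ A : Subgroup G, (∀ x ∈ A, ∀ y ∈ A, x * y = y * x) → A.index ≠ 2) :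
    (Subgroup.center G).index = 12 ∨ (Subgroup.center G).index = 24 ∨
      (Subgroup.center G).index = 60 := by
  have hcG : Nat.card G = (Subgroup.center G).index * Nat.card (Subgroup.center G) :=
    (Subgroup.index_mul_card _).symm
  have hcZpos : 0 < Nat.card (Subgroup.center G) := Nat.card_pos
  have hg2 : 2 ≤ (Subgroup.center G).index := by
    by_contra hcon
    have h0 : (Subgroup.center G).index ≠ 0 := Subgroup.index_ne_zero_of_finite
    have hg1 : (Subgroup.center G).index = 1 := by omega
    have htop : Subgroup.center G = ⊤ := Subgroup.index_eq_one.mp hg1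
    obtain ⟨x, hx⟩ := hnc
    exact hx (htop ▸ Subgroup.mem_top x)
  choose a n ha hn hna hag h2ag hcls using ctClass_data hCT hN2 hno2
  -- the quotient by the equivalence relation
  let r := ctSetoid hCT
  have hfib : (Finset.univ : Finset {y : G // y ∉ Subgroup.center G}).card =
      ∑ q : Quotient r, (Finset.univ.filter
        (fun y : {y : G // y ∉ Subgroup.center G} => Quotient.mk r y = q)).card :=
    Finset.card_eq_sum_card_fiberwise (fun _ _ => Finset.mem_coe.mpr (Finset.mem_univ _))
  have hS : (Finset.univ : Finset {y : G // y ∉ Subgroup.center G}).card +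
      Nat.card (Subgroup.center G) = Nat.card G := by
    rw [Finset.card_univ, Fintype.card_subtype, ← card_filter_mem, Nat.card_eq_fintype_card,
      ← Finset.card_univ (α := G), add_comm]
    convert Finset.card_filter_add_card_filter_not (s := (Finset.univ : Finset G))
      (fun y => y ∈ Subgroup.center G)
  have hq : ∀ q : Quotient r, (Finset.univ.filter
      (fun y : {y : G // y ∉ Subgroup.center G} => Quotient.mk r y = q)).card =
      (ctClass (q.out : G)).card := by
    intro q
    apply Finset.card_bij (fun (y : {y : G // y ∉ Subgroup.center G}) _ => (y : G))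
    · intro y hy
      rw [Finset.mem_filter] at hy
      unfold ctClass
      rw [Finset.mem_filter]
      refine ⟨Finset.mem_univ _, y.2, ?_⟩
      have h1 : Quotient.mk r y = Quotient.mk r q.out := by rw [hy.2, Quotient.out_eq]
      obtain ⟨h, hh⟩ := Quotient.exact h1
      exact ⟨h, Subgroup.mem_centralizer_singleton_iff.mpr hh⟩
    · intro y₁ _ y₂ _ h
      exact Subtype.ext h
    · intro b hb
      unfold ctClass at hb
      rw [Finset.mem_filter] at hb
      obtain ⟨-, hbZ, h, hh⟩ := hb
      refine ⟨⟨b, hbZ⟩, ?_, rfl⟩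
      rw [Finset.mem_filter]
      refine ⟨Finset.mem_univ _, ?_⟩
      rw [← Quotient.out_eq q]
      apply Quotient.sound
      exact ⟨h, Subgroup.mem_centralizer_singleton_iff.mp hh⟩
  have hGne : (Nat.card G : ℚ) ≠ 0 := by exact_mod_cast (Nat.card_pos (α := G)).ne'
  have hsum : ∑ q : Quotient r, (((a (q.out : G) q.out.2 : ℕ) : ℚ) - 1) /
      ((n (q.out : G) q.out.2 : ℕ) * (a (q.out : G) q.out.2 : ℕ)) =
      1 - 1 / ((Subgroup.center G).index : ℚ) := by
    have h1 : ∀ q : Quotient r, (((a (q.out : G) q.out.2 : ℕ) : ℚ) - 1) /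
        ((n (q.out : G) q.out.2 : ℕ) * (a (q.out : G) q.out.2 : ℕ)) =
        ((Finset.univ.filter (fun y : {y : G // y ∉ Subgroup.center G} =>
          Quotient.mk r y = q)).card : ℚ) / (Nat.card G) := by
      intro q
      rw [hq q, hcls (q.out : G) q.out.2]
    rw [Finset.sum_congr rfl (fun q _ => h1 q), ← Finset.sum_div]
    have h2 : (∑ q : Quotient r, ((Finset.univ.filter
        (fun y : {y : G // y ∉ Subgroup.center G} => Quotient.mk r y = q)).card : ℚ)) =
        (Nat.card G : ℚ) - Nat.card (Subgroup.center G) := by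
      have h3 : ((Finset.univ : Finset {y : G // y ∉ Subgroup.center G}).card : ℚ) +
          Nat.card (Subgroup.center G) = Nat.card G := by exact_mod_cast hS
      rw [← h3, hfib]
      push_cast
      ring
    rw [h2, hcG]
    have hZne : (Nat.card (Subgroup.center G) : ℚ) ≠ 0 := by exact_mod_cast hcZpos.ne'
    have hgne : ((Subgroup.center G).index : ℚ) ≠ 0 := by
      have : (Subgroup.center G).index ≠ 0 := by omega
      exact_mod_cast this
    push_cast
    field_simp
  exact prim2_arith (fun q : Quotient r => a (q.out : G) q.out.2)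
    (fun q : Quotient r => n (q.out : G) q.out.2) (Subgroup.center G).index hg2
    (fun q => ha _ _) (fun q => hn _ _) (fun q => hna _ _) (fun q => hag _ _)
    (fun q => h2ag _ _) hsum

end Main

end Cfsg.Agent.Lib.Helper80
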