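import Mathlib
import Cfsg.Prelude.Def_Characters
import Cfsg.Prelude.Def_Blocks
import Cfsg.Agent.Lib.Helper80.PrimTwoGroup
import Cfsg.Agent.Lib.Helper80.Eigen
import Cfsg.Agent.Lib.Helper80.CharKer
import Cfsg.Agent.Lib.Helper80.CharOps
import Cfsg.Agent.Lib.Helper80.OneDegree

/-!
# Primitive linear groups of degree two

A finite group with a faithful primitive irreducible character of degree two has centre of
index `12`, `24` or `60`.
-/

set_option autoImplicit false
set_option linter.style.haveILetI false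

open scoped ComplexConjugate

namespace Cfsg.Agent.Lib.Helper80

universe u

section Mat

variable {G : Type u} [Group G] [Finite G]

/-- A faithful two-dimensional representation can be written in matrices so that a given
element is diagonal. -/
theorem exists_matrix_hom_diag {V : Type*} [AddCommGroup V] [Module ℂ V] [FiniteDimensional ℂ V]
    (ρ : Representation ℂ G V) (hdim : Module.finrank ℂ V = 2) (hinj : Function.Injective ρ)
    (g : G) :
    ∃ (M : G →* Matrix (Fin 2) (Fin 2) ℂ) (μ : Fin 2 → ℂ),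
      Function.Injective M ∧ M g = Matrix.diagonal μ := by
  classical
  obtain ⟨ι, hι, v, μ, h1, -, -⟩ := exists_eigenbasis ρ g
  have hcard : Fintype.card ι = 2 := by rw [← Module.finrank_eq_card_basis v, hdim]
  let e : ι ≃ Fin 2 := Fintype.equivFinOfCardEq hcard
  refine ⟨(MonoidHomClass.toMonoidHom (LinearMap.toMatrixAlgEquiv (v.reindex e))).comp ρ,
    fun i => μ (e.symm i), ?_, ?_⟩
  · intro x y hxy
    apply hinj
    exact (LinearMap.toMatrixAlgEquiv (v.reindex e)).injective hxy
  · ext i j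
    change LinearMap.toMatrixAlgEquiv (v.reindex e) (ρ g) i j = _
    rw [LinearMap.toMatrixAlgEquiv_apply, Module.Basis.reindex_apply, h1, map_smul,
      Matrix.diagonal_apply]
    have : v (e.symm j) = (v.reindex e) j := by rw [Module.Basis.reindex_apply]
    rw [this, Module.Basis.repr_self]
    by_cases hij : i = j
    · subst hij
      simp
    · rw [if_neg hij]
      simp [Ne.symm hij]

variable (M : G →* Matrix (Fin 2) (Fin 2) ℂ) (μ : Fin 2 → ℂ)

omit [Finite G] in
theorem diag_ne_of_not_mem_center (hM : Function.Injective M) {g : G}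
    (hg : M g = Matrix.diagonal μ) (hgZ : g ∉ Subgroup.center G) : μ 0 ≠ μ 1 := by
  intro h
  apply hgZ
  rw [Subgroup.mem_center_iff]
  intro x
  apply hM
  have hd : Matrix.diagonal μ = (μ 0) • (1 : Matrix (Fin 2) (Fin 2) ℂ) := by
    ext i j
    fin_cases i <;> fin_cases j <;> simp [h]
  rw [map_mul, map_mul, hg, hd]
  simp

omit [Finite G] in
theorem offdiag_zero_of_commute {g : G} (hg : M g = Matrix.diagonal μ) (hμ : μ 0 ≠ μ 1) {x : G}
    (hx : x * g = g * x) : M x 0 1 = 0 ∧ M x 1 0 = 0 := by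
  have h := congrArg M hx
  rw [map_mul, map_mul, hg] at h
  have h01 := congrFun (congrFun h 0) 1
  have h10 := congrFun (congrFun h 1) 0
  rw [Matrix.mul_diagonal, Matrix.diagonal_mul] at h01 h10
  constructor
  · have : M x 0 1 * (μ 1 - μ 0) = 0 := by linear_combination h01
    rcases mul_eq_zero.mp this with h' | h'
    · exact h'
    · exact absurd (sub_eq_zero.mp h').symm hμ
  · have : M x 1 0 * (μ 0 - μ 1) = 0 := by linear_combination h10
    rcases mul_eq_zero.mp this with h' | h'
    · exact h'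
    · exact absurd (sub_eq_zero.mp h') hμ

omit [Finite G] in
theorem commute_of_matrix (hM : Function.Injective M) {g : G} (hg : M g = Matrix.diagonal μ)
    (hgZ : g ∉ Subgroup.center G) {x y : G} (hx : x * g = g * x) (hy : y * g = g * y) :
    x * y = y * x := by
  have hμ := diag_ne_of_not_mem_center M μ hM hg hgZ
  obtain ⟨hx01, hx10⟩ := offdiag_zero_of_commute M μ hg hμ hx
  obtain ⟨hy01, hy10⟩ := offdiag_zero_of_commute M μ hg hμ hy
  apply hM
  rw [map_mul, map_mul]
  ext i j
  fin_cases i <;> fin_cases j <;>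
    simp [Matrix.mul_apply, Fin.sum_univ_two, hx01, hx10, hy01, hy10, mul_comm]

omit [Finite G] in
/-- An element normalizing but not centralizing the centralizer of `g` conjugates `g` to the
matrix with the two eigenvalues exchanged. -/
theorem conj_eq_swap_of_matrix (hM : Function.Injective M) {g : G}
    (hg : M g = Matrix.diagonal μ) (hgZ : g ∉ Subgroup.center G) {h : G}
    (hN : h ∈ Subgroup.normalizer ((Subgroup.centralizer ({g} : Set G) : Subgroup G) : Set G))
    (hC : h ∉ Subgroup.centralizer ({g} : Set G)) :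
    M (h * g * h⁻¹) = Matrix.diagonal ![μ 1, μ 0] := by
  have hμ := diag_ne_of_not_mem_center M μ hM hg hgZ
  have hgA : g ∈ Subgroup.centralizer ({g} : Set G) :=
    Subgroup.mem_centralizer_singleton_iff.mpr rfl
  have hconj : h * g * h⁻¹ ∈ Subgroup.centralizer ({g} : Set G) :=
    (Subgroup.mem_normalizer_iff.mp hN g).mp hgA
  rw [Subgroup.mem_centralizer_singleton_iff] at hconj
  obtain ⟨h01, h10⟩ := offdiag_zero_of_commute M μ hg hμ hconj
  have hinv : M h * M h⁻¹ = 1 := by rw [← map_mul, mul_inv_cancel, map_one]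
  have hY : M (h * g * h⁻¹) = M h * Matrix.diagonal μ * M h⁻¹ := by
    rw [map_mul, map_mul, hg]
  have htr : Matrix.trace (M (h * g * h⁻¹)) = Matrix.trace (Matrix.diagonal μ) := by
    have hinv' : M h⁻¹ * M h = 1 := by rw [← map_mul, inv_mul_cancel, map_one]
    rw [hY, Matrix.trace_mul_comm, ← mul_assoc, hinv', one_mul]
  have hdet : Matrix.det (M (h * g * h⁻¹)) = Matrix.det (Matrix.diagonal μ) := by
    rw [hY, Matrix.det_mul, Matrix.det_mul, mul_comm (Matrix.det (M h)), mul_assoc,
      ← Matrix.det_mul, hinv, Matrix.det_one, mul_one]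
  rw [Matrix.trace_fin_two, Matrix.trace_fin_two] at htr
  rw [Matrix.det_fin_two, Matrix.det_fin_two] at hdet
  simp only [Matrix.diagonal_apply_eq, Matrix.diagonal_apply_ne _ (show (0 : Fin 2) ≠ 1 by decide),
    Matrix.diagonal_apply_ne _ (show (1 : Fin 2) ≠ 0 by decide), h01, h10, mul_zero,
    sub_zero] at htr hdet
  have hprod : (M (h * g * h⁻¹) 0 0 - μ 0) * (M (h * g * h⁻¹) 0 0 - μ 1) = 0 := by
    linear_combination (M (h * g * h⁻¹) 0 0) * htr - hdet
  rcases mul_eq_zero.mp hprod with h0 | h0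
  · exfalso
    apply hC
    rw [Subgroup.mem_centralizer_singleton_iff]
    have h00 : M (h * g * h⁻¹) 0 0 = μ 0 := sub_eq_zero.mp h0
    have h11 : M (h * g * h⁻¹) 1 1 = μ 1 := by linear_combination htr - h00
    have heq : M (h * g * h⁻¹) = M g := by
      rw [hg]
      ext i j
      fin_cases i <;> fin_cases j <;> simp [h00, h11, h01, h10]
    have := hM heq
    calc h * g = (h * g * h⁻¹) * h := by group
      _ = g * h := by rw [this]
  · have h00 : M (h * g * h⁻¹) 0 0 = μ 1 := sub_eq_zero.mp h0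
    have h11 : M (h * g * h⁻¹) 1 1 = μ 0 := by linear_combination htr - h00
    ext i j
    fin_cases i <;> fin_cases j <;> simp [h00, h11, h01, h10]

end Mat

section Chars

variable {G : Type u} [Group G] [Fintype G]

/-- An irreducible character of a commutative group has degree one. -/
theorem irr_one_eq_one_of_comm (hcomm : ∀ a b : G, a * b = b * a) (ψ : Cfsg.IrrCharacter G) :
    (ψ : G → ℂ) 1 = 1 := by
  have hcen : ∀ z : G, z ∈ Subgroup.center G := by
    intro z
    rw [Subgroup.mem_center_iff]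
    intro g
    exact hcomm g z
  have hnorm : ∀ z : G, ‖(ψ : G → ℂ) z‖ = ‖(ψ : G → ℂ) 1‖ :=
    fun z => norm_char_central ψ.2 (hcen z)
  have hsum := sum_norm_sq_eq_card ψ.2
  have hsum2 : ∑ g : G, ‖(ψ : G → ℂ) g‖ ^ 2 = (Nat.card G : ℝ) * ‖(ψ : G → ℂ) 1‖ ^ 2 := by
    rw [Finset.sum_congr rfl (fun g _ => by rw [hnorm g])]
    simp [Nat.card_eq_fintype_card]
  have hpos : (0 : ℝ) < (Nat.card G : ℝ) := by exact_mod_cast Nat.card_pos
  have hone : ‖(ψ : G → ℂ) 1‖ ^ 2 = 1 := by
    rw [hsum2] at hsum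
    exact mul_right_cancel₀ hpos.ne' (by rw [mul_comm, hsum, one_mul] :
      ‖(ψ : G → ℂ) 1‖ ^ 2 * (Nat.card G : ℝ) = 1 * (Nat.card G : ℝ))
  have hdeg := char_one_eq_charDegree (isCharacter_of_isIrrCharacter ψ.2)
  have hdeg1 : Cfsg.charDegree (ψ : G → ℂ) = 1 := by
    rw [hdeg] at hone
    simp only [Complex.norm_natCast] at hone
    have h3 : (Cfsg.charDegree (ψ : G → ℂ)) ^ 2 = 1 := by exact_mod_cast hone
    rcases Nat.pow_eq_one.mp h3 with h4 | h4
    · exact h4
    · omega
  rw [hdeg, hdeg1]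
  simp

/-- A finite group with a faithful primitive irreducible character of degree two has centre of
index `12`, `24` or `60`. -/
theorem index_center_of_primitive_two (χ : Cfsg.IrrCharacter G)
    (hfaith : ∀ g : G, (χ : G → ℂ) g = (χ : G → ℂ) 1 → g = 1)
    (h2 : Cfsg.charDegree (χ : G → ℂ) = 2)
    (hprim : ∀ H : Subgroup G, H ≠ ⊤ → ∀ θ : H → ℂ, Cfsg.IsCharacter H θ →
      (χ : G → ℂ) ≠ Cfsg.indFun H θ) :
    (Subgroup.center G).index = 12 ∨ (Subgroup.center G).index = 24 ∨
      (Subgroup.center G).index = 60 := by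
  classical
  obtain ⟨n, ρ, hirr, hχ⟩ := χ.2
  have hn : n = 2 := by
    have := charDegree_char ρ
    rw [hχ, h2] at this
    exact this.symm
  subst hn
  have hdim : Module.finrank ℂ (Fin 2 → ℂ) = 2 := by simp
  have hχ1 : (χ : G → ℂ) 1 = 2 := by
    rw [char_one_eq_charDegree (isCharacter_of_isIrrCharacter χ.2), h2]
    norm_num
  have hinj : Function.Injective ρ := by
    intro a b hab
    have h2' : ρ (a * b⁻¹) = 1 := by
      rw [map_mul, hab, ← map_mul, mul_inv_cancel, map_one]
    have h3 : ρ.character (a * b⁻¹) = Module.finrank ℂ (Fin 2 → ℂ) :=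
      (char_eq_finrank_iff ρ _).mpr h2'
    have h4 : (χ : G → ℂ) (a * b⁻¹) = (χ : G → ℂ) 1 := by
      rw [← hχ, h3, Representation.char_one]
    exact mul_inv_eq_one.mp (hfaith _ h4)
  have hCT : CommTrans G := by
    intro g hg x y hx hy
    obtain ⟨M, μ, hM, hMg⟩ := exists_matrix_hom_diag ρ hdim hinj g
    exact commute_of_matrix M μ hM hMg hg hx hy
  have hN2 : ∀ g : G, g ∉ Subgroup.center G → ∀ h₁ h₂ : G,
      h₁ ∈ Subgroup.normalizer ((Subgroup.centralizer ({g} : Set G) : Subgroup G) : Set G) →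
      h₂ ∈ Subgroup.normalizer ((Subgroup.centralizer ({g} : Set G) : Subgroup G) : Set G) →
      h₁ ∉ Subgroup.centralizer ({g} : Set G) → h₂ ∉ Subgroup.centralizer ({g} : Set G) →
      h₁⁻¹ * h₂ ∈ Subgroup.centralizer ({g} : Set G) := by
    intro g hg h₁ h₂ hN₁ hN₂ hC₁ hC₂
    obtain ⟨M, μ, hM, hMg⟩ := exists_matrix_hom_diag ρ hdim hinj g
    have e1 := conj_eq_swap_of_matrix M μ hM hMg hg hN₁ hC₁
    have e2 := conj_eq_swap_of_matrix M μ hM hMg hg hN₂ hC₂
    have e3 : h₁ * g * h₁⁻¹ = h₂ * g * h₂⁻¹ := hM (e1.trans e2.symm)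
    rw [Subgroup.mem_centralizer_singleton_iff]
    calc (h₁⁻¹ * h₂) * g = h₁⁻¹ * (h₂ * g * h₂⁻¹) * h₂ := by group
      _ = h₁⁻¹ * (h₁ * g * h₁⁻¹) * h₂ := by rw [e3]
      _ = g * (h₁⁻¹ * h₂) := by group
  have hnc : ∃ g : G, g ∉ Subgroup.center G := by
    by_contra hcon
    push Not at hcon
    have hsum := sum_norm_sq_eq_card χ.2
    have hnorm : ∀ z : G, ‖(χ : G → ℂ) z‖ ^ 2 = 4 := by
      intro z
      rw [norm_char_central χ.2 (hcon z), hχ1]
      norm_num
    rw [Finset.sum_congr rfl (fun g _ => hnorm g)] at hsum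
    simp only [Finset.sum_const, Finset.card_univ, nsmul_eq_mul, Nat.card_eq_fintype_card] at hsum
    have hpos : (0 : ℝ) < (Fintype.card G : ℝ) := by exact_mod_cast Fintype.card_pos
    linarith
  have hno2 : ∀ A : Subgroup G, (∀ x ∈ A, ∀ y ∈ A, x * y = y * x) → A.index ≠ 2 := by
    intro A hA hidx
    haveI : Fintype A := Fintype.ofFinite _
    haveI : Fintype (Cfsg.IrrCharacter A) := Fintype.ofFinite _
    haveI : Fintype (Cfsg.IrrCharacter G) := Fintype.ofFinite _
    have hφ : Cfsg.IsCharacter A (fun x : A => (χ : G → ℂ) x) :=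
      isCharacter_restrict A (isCharacter_of_isIrrCharacter χ.2)
    obtain ⟨m, hm, hexp⟩ := character_expansion hφ
    have hex : ∃ lam : Cfsg.IrrCharacter A, m lam ≠ 0 := by
      by_contra hcon
      push Not at hcon
      have h0 := congrFun hexp 1
      simp only [hcon, Nat.cast_zero, zero_smul, Finset.sum_const_zero, Pi.zero_apply] at h0
      have h1 : (χ : G → ℂ) ((1 : A) : G) = 2 := hχ1
      rw [h1] at h0
      norm_num at h0
    obtain ⟨lam, hlam⟩ := hex
    have hlam1 : (lam : A → ℂ) 1 = 1 :=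
      irr_one_eq_one_of_comm (fun a b => Subtype.ext (hA a a.2 b b.2)) lam
    have hψ : Cfsg.IsCharacter G (Cfsg.indFun A (lam : A → ℂ)) :=
      isCharacter_indFun A (isCharacter_of_isIrrCharacter lam.2)
    have hψ1 : Cfsg.indFun A (lam : A → ℂ) 1 = 2 := by
      rw [indFun_one, hidx, hlam1]
      norm_num
    have hψdeg : Cfsg.charDegree (Cfsg.indFun A (lam : A → ℂ)) = 2 := by
      have := char_one_eq_charDegree hψ
      rw [hψ1] at this
      exact_mod_cast this.symm
    have hne : Cfsg.classInner (Cfsg.indFun A (lam : A → ℂ)) (χ : G → ℂ) ≠ 0 := by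
      rw [frobenius_reciprocity A (lam : A → ℂ) (χ : G → ℂ)
        (isClassFunction_of_isCharacter (isCharacter_of_isIrrCharacter χ.2)),
        ← classInner_conj_symm, hm lam]
      simp only [Complex.conj_natCast]
      exact_mod_cast hlam
    have heq := eq_of_constituent_of_degree_le hψ χ.2 hne (by rw [hψdeg, h2])
    have hAtop : A ≠ ⊤ := by
      intro htop
      rw [htop, Subgroup.index_top] at hidx
      omega
    exact hprim A hAtop (lam : A → ℂ) (isCharacter_of_isIrrCharacter lam.2) heq.symm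
  exact index_center_of_commTrans hCT hN2 hnc hno2

end Chars

end Cfsg.Agent.Lib.Helper80
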