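import Mathlib
import Cfsg.Prelude.Def_Characters
import Cfsg.Prelude.Def_Blocks
import Cfsg.Agent.Lib.Helper80.CharKer
import Cfsg.Agent.Lib.Helper80.CharOps
import Cfsg.Agent.Lib.Helper3.CharValues
import Cfsg.Agent.Lib.Helper75.GaloisChar

/-!
# Schur's bound for the Sylow `p`-subgroups of groups with a faithful `p`-rational character
-/

set_option autoImplicit false
set_option linter.style.haveILetI false

open scoped ComplexConjugate

namespace Cfsg.Agent.Lib.Helper80

universe u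

section Aux

/-- A rational algebraic integer is an integer. -/
theorem exists_int_of_isIntegral_of_rat {z : ℂ} (hz : IsIntegral ℤ z) (q : ℚ) (h : z = q) :
    ∃ t : ℤ, z = t := by
  have h2 : z = algebraMap ℚ ℂ q := by rw [h]; simp
  rw [h2, isIntegral_algebraMap_iff (algebraMap ℚ ℂ).injective] at hz
  obtain ⟨y, hy⟩ := IsIntegrallyClosed.isIntegral_iff.mp hz
  refine ⟨y, ?_⟩
  rw [h, ← hy]
  simp

/-- Geometric sum of a root of unity. -/
theorem geom_sum_root (ζ : ℂ) (M : ℕ) (h : ζ ^ M = 1) :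
    ∑ j ∈ Finset.range M, ζ ^ j = if ζ = 1 then (M : ℂ) else 0 := by
  by_cases h1 : ζ = 1
  · rw [if_pos h1, h1]; simp
  · rw [if_neg h1, geom_sum_eq h1, h, sub_self, zero_div]

/-- Powers of a root of unity depend only on the exponent modulo the order. -/
theorem pow_eq_pow_of_modEq_of_pow_eq_one {ζ : ℂ} {r k l : ℕ} (h : ζ ^ r = 1)
    (hkl : k ≡ l [MOD r]) : ζ ^ k = ζ ^ l := by
  have e : ∀ t : ℕ, ζ ^ t = ζ ^ (t % r) := fun t => by
    conv_lhs => rw [← Nat.div_add_mod t r, pow_add, pow_mul, h, one_pow, one_mul]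
  rw [e k, e l, show k % r = l % r from hkl]

end Aux

section Eigen

variable {G : Type u} [Group G] [Finite G]

/-- The values of a character on the powers of `g` are the power sums of a family of
`orderOf g`-th roots of unity. -/
theorem exists_eigen_powersum {χ : G → ℂ} (hχ : Cfsg.IsCharacter G χ) (g : G) :
    ∃ (ι : Type) (_ : Fintype ι) (d : ι → ℂ), Fintype.card ι = Cfsg.charDegree χ ∧
      (∀ i, d i ^ orderOf g = 1) ∧ ∀ j : ℕ, χ (g ^ j) = ∑ i, d i ^ j := by
  obtain ⟨n, ρ, rfl⟩ := hχ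
  obtain ⟨ι, hι, b, d, hd, -, hb, -⟩ := Cfsg.Agent.Lib.Helper3.exists_eigen_data ρ g
  refine ⟨ι, hι, d, ?_, hd, ?_⟩
  · rw [charDegree_char, ← Module.finrank_eq_card_basis b]
    simp
  · intro j
    have hb' : ∀ i, ρ (g ^ j) (b i) = (d i ^ j) • b i := by
      intro i
      rw [map_pow]
      have hpow : ∀ j : ℕ, (ρ g ^ j) (b i) = d i ^ j • b i := by
        intro j
        induction j with
        | zero => simp
        | succ j ih =>
          rw [pow_succ, Module.End.mul_apply, hb i, map_smul, ih, smul_smul, pow_succ, mul_comm]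
      exact hpow j
    rw [Representation.character, Cfsg.Agent.Lib.Helper3.trace_eq_sum_of_eigenbasis b _ _ hb']

end Eigen

section Galois

variable {G : Type u} [Group G] [Finite G]

/-- A character with values in a cyclotomic field of order prime to `p` is constant on the
generators of any cyclic `p`-subgroup. -/
theorem char_pow_eq_of_pRational (p : ℕ) (hp : p.Prime) {χ : G → ℂ} (hχ : Cfsg.IsCharacter G χ)
    (r : ℕ) (hr : 0 < r) (hpr : ¬ p ∣ r)
    (hrat : ∀ g : G, χ g ∈ IntermediateField.adjoin ℚ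
      ({Complex.exp (2 * Real.pi * Complex.I / r)} : Set ℂ))
    (x : G) (c : ℕ) (hx : orderOf x = p ^ c) (j : ℕ) (hj : ¬ p ∣ j) : χ (x ^ j) = χ x := by
  obtain ⟨n, ρ, rfl⟩ := hχ
  have hN : Nat.card G ≠ 0 := Nat.card_pos.ne'
  obtain ⟨a, N', hN', hNeq⟩ := Nat.exists_eq_pow_mul_and_not_dvd hN p hp.ne_one
  have hcop : Nat.Coprime (r * N') (p ^ a) := by
    apply Nat.Coprime.pow_right
    apply Nat.Coprime.mul_left
    · exact ((Nat.Prime.coprime_iff_not_dvd hp).mpr hpr).symm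
    · exact ((Nat.Prime.coprime_iff_not_dvd hp).mpr hN').symm
  obtain ⟨k, hk1, hk2⟩ := Nat.chineseRemainder hcop 1 j
  have hkcop : Nat.Coprime k (r * Nat.card G) := by
    have h1 : Nat.Coprime k (r * N') := by
      have := hk1.gcd_eq
      rw [Nat.coprime_iff_gcd_eq_one, this]
      simp
    have h2 : Nat.Coprime k (p ^ a) := by
      have := hk2.gcd_eq
      rw [Nat.coprime_iff_gcd_eq_one, this]
      exact Nat.Coprime.pow_right a ((Nat.Prime.coprime_iff_not_dvd hp).mpr hj).symm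
    have h3 : r * Nat.card G = (r * N') * p ^ a := by rw [hNeq]; ring
    rw [h3]
    exact Nat.Coprime.mul_right h1 h2
  obtain ⟨σ, hσ⟩ := Cfsg.Agent.Lib.Helper75.exists_ringEquiv_pow (r * Nat.card G) k
    (Nat.mul_pos hr Nat.card_pos) hkcop
  have hgal : ∀ g : G, σ (ρ.character g) = ρ.character (g ^ k) := by
    intro g
    apply Cfsg.Agent.Lib.Helper75.character_galois_pow ρ σ k
    intro ζ hζ
    apply hσ
    rw [mul_comm, pow_mul, hζ, one_pow]
  obtain ⟨ζr, hζr⟩ : ∃ ζ : ℂ, ζ = Complex.exp (2 * Real.pi * Complex.I / r) := ⟨_, rfl⟩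
  rw [← hζr] at hrat
  have hζr1 : ζr ^ r = 1 := by
    rw [hζr, ← Complex.exp_nat_mul]
    have hr0 : (r : ℂ) ≠ 0 := by exact_mod_cast hr.ne'
    rw [mul_div_cancel₀ _ hr0]
    exact Complex.exp_two_pi_mul_I
  have hζrm : ζr ^ (r * Nat.card G) = 1 := by rw [pow_mul, hζr1, one_pow]
  have hσζ : σ ζr = ζr := by
    have h0 := hσ ζr hζrm
    have h1 : k ≡ 1 [MOD r] := hk1.of_dvd (Dvd.intro _ rfl)
    have h3 : ζr ^ k = ζr ^ 1 := pow_eq_pow_of_modEq_of_pow_eq_one hζr1 h1
    rw [h0, h3, pow_one]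
  have hfix : ∀ z ∈ IntermediateField.adjoin ℚ ({ζr} : Set ℂ), σ z = z := by
    intro z hz
    induction hz using IntermediateField.adjoin_induction with
    | mem y hy =>
      rw [Set.mem_singleton_iff] at hy
      rw [hy]; exact hσζ
    | algebraMap q => simp
    | add y y' _ _ h1 h2 => rw [map_add, h1, h2]
    | inv y _ h1 => rw [map_inv₀, h1]
    | mul y y' _ _ h1 h2 => rw [map_mul, h1, h2]
  have hinv : ∀ g : G, ρ.character (g ^ k) = ρ.character g := by
    intro g
    rw [← hgal g]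
    exact hfix _ (hrat g)
  have hxk : x ^ k = x ^ j := by
    rw [pow_eq_pow_iff_modEq, hx]
    have hca : p ^ c ∣ p ^ a := by
      have h1 : p ^ c ∣ Nat.card G := hx ▸ orderOf_dvd_natCard x
      rw [hNeq] at h1
      exact (Nat.Coprime.dvd_mul_right
        (Nat.Coprime.pow_left c ((Nat.Prime.coprime_iff_not_dvd hp).mpr hN'))).mp h1
    exact hk2.of_dvd hca
  rw [← hxk]
  exact hinv x

end Galois

section EigenSums

/-- The sum of the powers of a `p^(c+1)`-th root of unity over the exponents prime to `p`. -/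
theorem sum_pow_filter_not_dvd (p c : ℕ) (hp : p.Prime) (ζ : ℂ) (h : ζ ^ p ^ (c + 1) = 1) :
    ∑ j ∈ (Finset.range (p ^ (c + 1))).filter (fun j => ¬ p ∣ j), ζ ^ j
      = (if ζ = 1 then ((p ^ (c + 1) : ℕ) : ℂ) else 0)
        - (if ζ ^ p = 1 then ((p ^ c : ℕ) : ℂ) else 0) := by
  have hsplit := Finset.sum_filter_add_sum_filter_not (Finset.range (p ^ (c + 1)))
    (fun j => p ∣ j) (fun j => ζ ^ j)
  have himg : (Finset.range (p ^ (c + 1))).filter (fun j => p ∣ j)
      = (Finset.range (p ^ c)).image (fun t => p * t) := by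
    ext j
    simp only [Finset.mem_filter, Finset.mem_range, Finset.mem_image]
    constructor
    · rintro ⟨hj, t, rfl⟩
      refine ⟨t, ?_, rfl⟩
      rw [pow_succ'] at hj
      exact lt_of_mul_lt_mul_left hj (Nat.zero_le p)
    · rintro ⟨t, ht, rfl⟩
      refine ⟨?_, dvd_mul_right p t⟩
      rw [pow_succ']
      exact Nat.mul_lt_mul_of_pos_left ht hp.pos
  have hmul : ∑ j ∈ (Finset.range (p ^ (c + 1))).filter (fun j => p ∣ j), ζ ^ j
      = ∑ t ∈ Finset.range (p ^ c), (ζ ^ p) ^ t := by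
    rw [himg, Finset.sum_image]
    · refine Finset.sum_congr rfl fun t _ => ?_
      rw [pow_mul]
    · intro a _ b _ hab
      exact Nat.eq_of_mul_eq_mul_left hp.pos hab
  have h1 := geom_sum_root ζ (p ^ (c + 1)) h
  have h2 := geom_sum_root (ζ ^ p) (p ^ c) (by rw [← pow_mul, ← pow_succ']; exact h)
  rw [hmul, h1, h2] at hsplit
  rw [← hsplit]
  ring

/-- If the power sums of a family of `p^(c+1)`-th roots of unity agree at all exponents prime
to `p`, their common value is determined by the multiplicities of `1` and of the `p`-th roots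
of unity. -/
theorem eigen_sum_formula (p c : ℕ) (hp : p.Prime) {ι : Type} [Fintype ι] [DecidableEq ι]
    (d : ι → ℂ) (hd : ∀ i, d i ^ p ^ (c + 1) = 1) (v : ℂ)
    (hv : ∀ j : ℕ, ¬ p ∣ j → ∑ i, d i ^ j = v) :
    ((p : ℂ) - 1) * v
      = (p : ℂ) * ((Finset.univ.filter (fun i => d i = 1)).card : ℂ)
        - ((Finset.univ.filter (fun i => d i ^ p = 1)).card : ℂ) := by
  classical
  set F := (Finset.range (p ^ (c + 1))).filter (fun j => ¬ p ∣ j) with hF
  have hcard : (F.card : ℂ) = ((p ^ (c + 1) : ℕ) : ℂ) - ((p ^ c : ℕ) : ℂ) := by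
    have h1 := sum_pow_filter_not_dvd p c hp 1 (one_pow _)
    simp only [one_pow, if_true, Finset.sum_const, nsmul_eq_mul, mul_one] at h1
    exact h1
  have hS1 : ∑ j ∈ F, ∑ i, d i ^ j = (F.card : ℂ) * v := by
    rw [Finset.sum_congr rfl (fun j hj => hv j (Finset.mem_filter.mp hj).2), Finset.sum_const,
      nsmul_eq_mul]
  have hS2 : ∑ j ∈ F, ∑ i, d i ^ j
      = ((p ^ (c + 1) : ℕ) : ℂ) * ((Finset.univ.filter (fun i => d i = 1)).card : ℂ)
        - ((p ^ c : ℕ) : ℂ) * ((Finset.univ.filter (fun i => d i ^ p = 1)).card : ℂ) := by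
    rw [Finset.sum_comm]
    rw [Finset.sum_congr rfl (fun i _ => sum_pow_filter_not_dvd p c hp (d i) (hd i))]
    rw [Finset.sum_sub_distrib, ← Finset.sum_filter, ← Finset.sum_filter, Finset.sum_const,
      Finset.sum_const, nsmul_eq_mul, nsmul_eq_mul]
    ring
  rw [hS1, hcard] at hS2
  have hpc : ((p ^ c : ℕ) : ℂ) ≠ 0 := by
    exact_mod_cast (pow_pos hp.pos c).ne'
  apply mul_left_cancel₀ hpc
  have e : ((p ^ (c + 1) : ℕ) : ℂ) = ((p ^ c : ℕ) : ℂ) * (p : ℂ) := by
    push_cast; ring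
  rw [e] at hS2
  linear_combination hS2

end EigenSums

section Congruence

/-- Freshman's dream for finite sums, up to a multiple of `p`. -/
theorem exists_sum_pow_prime_pow_eq {R : Type*} [CommRing R] (p c : ℕ) (hp : p.Prime)
    {ι : Type*} (s : Finset ι) (a : ι → R) :
    ∃ r : R, (∑ i ∈ s, a i) ^ p ^ c = ∑ i ∈ s, a i ^ p ^ c + (p : R) * r := by
  classical
  induction s using Finset.induction_on with
  | empty =>
    refine ⟨0, ?_⟩
    rw [Finset.sum_empty, Finset.sum_empty, mul_zero, add_zero,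
      zero_pow (pow_pos hp.pos c).ne']
  | insert j s hj ih =>
    obtain ⟨r₁, hr₁⟩ := ih
    obtain ⟨r₂, hr₂⟩ := exists_add_pow_prime_pow_eq hp (a j) (∑ i ∈ s, a i) c
    refine ⟨r₁ + a j * (∑ i ∈ s, a i) * r₂, ?_⟩
    rw [Finset.sum_insert hj, Finset.sum_insert hj, hr₂, hr₁]
    ring

/-- `(1 - d)^(p^(c+1))` is a multiple of `p` when `d` is a `p^(c+1)`-th root of unity. -/
theorem exists_one_sub_pow_eq {R : Type*} [CommRing R] (p c : ℕ) (hp : p.Prime) (d : R)
    (hd : d ^ p ^ (c + 1) = 1) : ∃ r : R, (1 - d) ^ p ^ (c + 1) = (p : R) * r := by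
  obtain ⟨r, hr⟩ := exists_add_pow_prime_pow_eq hp (1 : R) (-d) (c + 1)
  have h1 : (1 - d) = 1 + -d := by ring
  rw [h1, hr, one_pow, neg_pow, hd, mul_one]
  rcases hp.eq_two_or_odd' with h2 | hodd
  · subst h2
    have he : Even (2 ^ (c + 1)) := (Nat.even_pow.mpr ⟨even_two, Nat.succ_ne_zero c⟩)
    rw [he.neg_one_pow]
    refine ⟨1 + -d * r, ?_⟩
    push_cast
    ring
  · have ho : Odd (p ^ (c + 1)) := hodd.pow
    rw [ho.neg_one_pow]
    refine ⟨-d * r, ?_⟩
    ring

/-- For a family of `p^(c+1)`-th roots of unity, `(∑ (1 - d i))^(p^(c+1))` is `p` times an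
algebraic integer. -/
theorem exists_integral_sum_one_sub_pow (p c : ℕ) (hp : p.Prime) {ι : Type} [Fintype ι]
    (d : ι → ℂ) (hd : ∀ i, d i ^ p ^ (c + 1) = 1) :
    ∃ β : ℂ, IsIntegral ℤ β ∧ (∑ i, (1 - d i)) ^ p ^ (c + 1) = (p : ℂ) * β := by
  classical
  have hint : ∀ i, IsIntegral ℤ (d i) := fun i =>
    IsIntegral.of_pow (pow_pos hp.pos (c + 1)) (by rw [hd i]; exact isIntegral_one)
  let D : ι → integralClosure ℤ ℂ := fun i => ⟨d i, hint i⟩
  have hD : ∀ i, D i ^ p ^ (c + 1) = 1 := fun i => Subtype.ext (by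
    change d i ^ p ^ (c + 1) = 1
    exact hd i)
  choose r hr using fun i => exists_one_sub_pow_eq p c hp (D i) (hD i)
  obtain ⟨r', hr'⟩ := exists_sum_pow_prime_pow_eq p (c + 1) hp Finset.univ (fun i => 1 - D i)
  refine ⟨((∑ i, r i + r' : integralClosure ℤ ℂ) : ℂ), (∑ i, r i + r').2, ?_⟩
  have h1 : ((∑ i, (1 - D i) : integralClosure ℤ ℂ) : ℂ) = ∑ i, (1 - d i) := by
    push_cast
    rfl
  rw [← h1]
  have h2 : (∑ i, (1 - D i)) ^ p ^ (c + 1) = (p : integralClosure ℤ ℂ) * (∑ i, r i + r') := by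
    rw [hr', Finset.sum_congr rfl (fun i _ => hr i), ← Finset.mul_sum]
    ring
  have h3 := congrArg (fun z : integralClosure ℤ ℂ => (z : ℂ)) h2
  push_cast at h3 ⊢
  exact h3

/-- If `(w : ℂ)^(p^k)` is `p` times an algebraic integer then `p ∣ w`. -/
theorem dvd_of_pow_eq_mul_integral (p k : ℕ) (hp : p.Prime) (w : ℤ) (β : ℂ)
    (hβ : IsIntegral ℤ β) (h : (w : ℂ) ^ k = (p : ℂ) * β) : (p : ℤ) ∣ w := by
  have hp0 : (p : ℂ) ≠ 0 := by exact_mod_cast hp.ne_zero
  have hβq : β = (((w ^ k : ℤ) : ℚ) / (p : ℚ) : ℚ) := by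
    push_cast
    rw [h]
    field_simp
  obtain ⟨t, ht⟩ := exists_int_of_isIntegral_of_rat hβ _ hβq
  rw [ht] at h
  have h2 : w ^ k = (p : ℤ) * t := by exact_mod_cast h
  exact Int.Prime.dvd_pow' hp ⟨t, h2⟩

end Congruence

section Values

variable {G : Type u} [Group G] [Finite G]

/-- The value at a nontrivial `p`-element of a character which is constant on the generators
of cyclic `p`-subgroups: it is `χ 1 - w` with `p ∣ w` and `(p - 1) w ≤ p χ(1)`. -/
theorem char_pElement_value (p : ℕ) (hp : p.Prime) {χ : G → ℂ} (hχ : Cfsg.IsCharacter G χ)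
    (hinv : ∀ x : G, ∀ c : ℕ, orderOf x = p ^ c → ∀ j : ℕ, ¬ p ∣ j → χ (x ^ j) = χ x)
    (x : G) (c : ℕ) (hx : orderOf x = p ^ (c + 1)) :
    ∃ w : ℕ, χ x = (Cfsg.charDegree χ : ℂ) - w ∧ p ∣ w ∧
      (p - 1) * w ≤ p * Cfsg.charDegree χ := by
  classical
  obtain ⟨ι, hι, d, hcard, hd, hsum⟩ := exists_eigen_powersum hχ x
  rw [hx] at hd
  have hv : ∀ j : ℕ, ¬ p ∣ j → ∑ i, d i ^ j = χ x := fun j hj => by
    rw [← hsum j, hinv x (c + 1) hx j hj]
  have hform := eigen_sum_formula p c hp d hd (χ x) hv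
  set m₀ := (Finset.univ.filter (fun i => d i = 1)).card with hm₀
  set m₁ := (Finset.univ.filter (fun i => d i ^ p = 1)).card with hm₁
  set n := Cfsg.charDegree χ with hn
  have hm : m₀ ≤ m₁ := by
    apply Finset.card_le_card
    intro i hi
    rw [Finset.mem_filter] at hi ⊢
    exact ⟨hi.1, by rw [hi.2, one_pow]⟩
  have hm' : m₁ ≤ n := by
    rw [← hcard]
    exact Finset.card_le_univ _
  have hp2 := hp.two_le
  have hp1 : ((p : ℂ) - 1) ≠ 0 := by
    have : (p : ℂ) ≠ 1 := by exact_mod_cast hp.ne_one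
    exact sub_ne_zero.mpr this
  have hq : χ x = ((((p : ℤ) * m₀ - m₁ : ℤ) : ℚ) / (((p : ℤ) - 1 : ℤ) : ℚ) : ℚ) := by
    push_cast
    rw [eq_div_iff hp1, mul_comm]
    exact hform
  obtain ⟨z, hz⟩ := exists_int_of_isIntegral_of_rat (isIntegral_char_val hχ x) _ hq
  have hzeq : ((p : ℤ) - 1) * z = (p : ℤ) * m₀ - m₁ := by
    rw [hz] at hform
    exact_mod_cast hform
  have hp1' : (1 : ℤ) ≤ (p : ℤ) - 1 := by
    have : (2 : ℤ) ≤ (p : ℤ) := by exact_mod_cast hp2
    linarith
  have hm0 : (m₀ : ℤ) ≤ m₁ := by exact_mod_cast hm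
  have hm1 : (m₁ : ℤ) ≤ n := by exact_mod_cast hm'
  have hm00 : (0 : ℤ) ≤ m₀ := Int.natCast_nonneg _
  have hzle : z ≤ n := by
    by_contra hcon
    push Not at hcon
    have h1 : ((p : ℤ) - 1) * (n + 1) ≤ ((p : ℤ) - 1) * z :=
      mul_le_mul_of_nonneg_left (by linarith) (by linarith)
    nlinarith
  obtain ⟨w, hw⟩ := Int.eq_ofNat_of_zero_le (sub_nonneg.mpr hzle)
  have hxw : χ x = (n : ℂ) - w := by
    rw [hz]
    have : (z : ℤ) = (n : ℤ) - w := by rw [← hw]; ring
    rw [this]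
    push_cast
    ring
  refine ⟨w, hxw, ?_, ?_⟩
  · obtain ⟨β, hβ, hβeq⟩ := exists_integral_sum_one_sub_pow p c hp d hd
    have h1 : ∑ i, (1 - d i) = ((w : ℤ) : ℂ) := by
      rw [Finset.sum_sub_distrib, Finset.sum_const, Finset.card_univ, hcard, nsmul_eq_mul,
        mul_one]
      have h2 := hsum 1
      simp only [pow_one] at h2
      rw [← h2, hxw]
      push_cast
      ring
    rw [h1] at hβeq
    have h3 := dvd_of_pow_eq_mul_integral p (p ^ (c + 1)) hp (w : ℤ) β hβ hβeq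
    exact Int.natCast_dvd_natCast.mp h3
  · have h1 : ((p : ℤ) - 1) * w ≤ (p : ℤ) * n := by
      have h2 : ((p : ℤ) - 1) * w = ((p : ℤ) - 1) * n - ((p : ℤ) * m₀ - m₁) := by
        rw [← hzeq, ← hw]; ring
      rw [h2]
      nlinarith
    have h3 : ((p - 1 : ℕ) : ℤ) = (p : ℤ) - 1 := by
      rw [Nat.cast_sub hp.one_le]; simp
    have h4 : (((p - 1) * w : ℕ) : ℤ) ≤ ((p * n : ℕ) : ℤ) := by
      push_cast
      rw [h3]
      exact h1
    exact_mod_cast h4

end Values

section Blichfeldt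

variable {H : Type u} [Group H] [Fintype H]

/-- The sum of the values of a character is a multiple of the group order. -/
theorem sum_char_eq_card_mul {φ : H → ℂ} (hφ : Cfsg.IsCharacter H φ) :
    ∃ m : ℕ, ∑ x, φ x = (Nat.card H : ℂ) * m := by
  obtain ⟨m, hm⟩ := classInner_nat hφ (isCharacter_one (G := H))
  refine ⟨m, ?_⟩
  unfold Cfsg.classInner at hm
  have hH : (Nat.card H : ℂ) ≠ 0 := by exact_mod_cast (Nat.card_pos (α := H)).ne'
  have h1 : ∑ x, φ x * conj ((fun _ : H => (1 : ℂ)) x) = ∑ x, φ x := by simp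
  rw [h1] at hm
  rw [← hm]
  field_simp

/-- Blichfeldt's trick: the sum of a product of shifted copies of a character is an integer
multiple of the group order. -/
theorem exists_int_sum_prod_shift {φ : H → ℂ} (hφ : Cfsg.IsCharacter H φ) (n : ℕ)
    (W : Finset ℕ) :
    ∃ t : ℤ, ∑ x, ∏ w ∈ W, (φ x - ((n : ℂ) - w)) = (Nat.card H : ℂ) * t := by
  classical
  have key : ∃ φ₁ φ₂ : H → ℂ, Cfsg.IsCharacter H φ₁ ∧ Cfsg.IsCharacter H φ₂ ∧
      ∀ x, ∏ w ∈ W, (φ x - ((n : ℂ) - w)) = φ₁ x - φ₂ x := by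
    induction W using Finset.induction_on with
    | empty => exact ⟨fun _ => 1, 0, isCharacter_one, isCharacter_zero, fun x => by simp⟩
    | insert w W hw ih =>
      obtain ⟨φ₁, φ₂, h₁, h₂, h⟩ := ih
      have hone := isCharacter_one (G := H)
      have hA : Cfsg.IsCharacter H (φ + (w : ℂ) • (fun _ : H => (1 : ℂ))) :=
        isCharacter_add hφ (isCharacter_nsmul hone w)
      have hN : Cfsg.IsCharacter H ((n : ℂ) • (fun _ : H => (1 : ℂ))) :=
        isCharacter_nsmul hone n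
      refine ⟨φ₁ * (φ + (w : ℂ) • (fun _ : H => (1 : ℂ)))
          + ((n : ℂ) • (fun _ : H => (1 : ℂ))) * φ₂,
        φ₂ * (φ + (w : ℂ) • (fun _ : H => (1 : ℂ)))
          + ((n : ℂ) • (fun _ : H => (1 : ℂ))) * φ₁,
        isCharacter_add (isCharacter_mul h₁ hA) (isCharacter_mul hN h₂),
        isCharacter_add (isCharacter_mul h₂ hA) (isCharacter_mul hN h₁), fun x => ?_⟩
      rw [Finset.prod_insert hw, h x]
      simp only [Pi.add_apply, Pi.mul_apply, Pi.smul_apply, smul_eq_mul, mul_one]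
      ring
  obtain ⟨φ₁, φ₂, h₁, h₂, h⟩ := key
  obtain ⟨m₁, hm₁⟩ := sum_char_eq_card_mul h₁
  obtain ⟨m₂, hm₂⟩ := sum_char_eq_card_mul h₂
  refine ⟨(m₁ : ℤ) - m₂, ?_⟩
  rw [Finset.sum_congr rfl (fun x _ => h x), Finset.sum_sub_distrib, hm₁, hm₂]
  push_cast
  ring

/-- A finite set of positive multiples of `p`, each at most `p n / (p - 1)`, has product
dividing `p^m m!` with `m = n / (p - 1)`. -/
theorem prod_dvd_pow_mul_factorial (p n : ℕ) (hp : p.Prime) (W : Finset ℕ)
    (hW : ∀ w ∈ W, 0 < w ∧ p ∣ w ∧ (p - 1) * w ≤ p * n) :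
    ∏ w ∈ W, w ∣ p ^ (n / (p - 1)) * (n / (p - 1)).factorial := by
  classical
  set m := n / (p - 1) with hm
  have hp1 : 0 < p - 1 := by have := hp.two_le; omega
  set K := W.image (fun w => w / p) with hK
  have hinj : Set.InjOn (fun w => w / p) (W : Set ℕ) := by
    intro a ha b hb hab
    have h1 := Nat.div_mul_cancel (hW a ha).2.1
    have h2 := Nat.div_mul_cancel (hW b hb).2.1
    simp only at hab
    rw [← h1, ← h2, hab]
  have hprod : ∏ w ∈ W, w = p ^ W.card * ∏ k ∈ K, k := by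
    rw [hK, Finset.prod_image hinj, ← Finset.prod_const, ← Finset.prod_mul_distrib]
    refine Finset.prod_congr rfl fun w hw => ?_
    exact (Nat.mul_div_cancel' (hW w hw).2.1).symm
  have hKsub : K ⊆ Finset.Ico 1 (m + 1) := by
    intro k hk
    rw [hK, Finset.mem_image] at hk
    obtain ⟨w, hw, rfl⟩ := hk
    obtain ⟨hw0, hpw, hle⟩ := hW w hw
    rw [Finset.mem_Ico, Nat.lt_succ_iff]
    constructor
    · exact Nat.div_pos (Nat.le_of_dvd hw0 hpw) hp.pos
    · rw [hm, Nat.le_div_iff_mul_le hp1]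
      have h1 := Nat.mul_div_cancel' hpw
      have h2 : p * ((w / p) * (p - 1)) ≤ p * n := by
        calc p * ((w / p) * (p - 1)) = (p - 1) * (p * (w / p)) := by ring
          _ = (p - 1) * w := by rw [h1]
          _ ≤ p * n := hle
      exact Nat.le_of_mul_le_mul_left h2 hp.pos
  have hcard : W.card ≤ m := by
    have h1 : K.card = W.card := Finset.card_image_of_injOn hinj
    rw [← h1]
    have := Finset.card_le_card hKsub
    simpa using this
  rw [hprod]
  apply mul_dvd_mul (pow_dvd_pow p hcard)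
  rw [← Finset.prod_Ico_id_eq_factorial]
  exact Finset.prod_dvd_prod_of_subset _ _ _ hKsub

end Blichfeldt

section Main

variable {G : Type u} [Group G] [Finite G]

/-- **Schur's bound**: a finite group with a faithful character of degree `n` whose values lie
in a cyclotomic field of order prime to `p` has Sylow `p`-subgroups of order at most
`p ^ ∑ i, ⌊n / ((p - 1) p ^ i)⌋`. -/
theorem schur_bound (p : ℕ) (hp : p.Prime) {χ : G → ℂ} (hχ : Cfsg.IsCharacter G χ)
    (hfaith : ∀ g : G, χ g = χ 1 → g = 1)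
    (r : ℕ) (hr : 0 < r) (hpr : ¬ p ∣ r)
    (hrat : ∀ g : G, χ g ∈ IntermediateField.adjoin ℚ
      ({Complex.exp (2 * Real.pi * Complex.I / r)} : Set ℂ))
    (n : ℕ) (hn : Cfsg.charDegree χ = n) :
    (Nat.card G).factorization p ≤ ∑ i ∈ Finset.range (n + 1), n / ((p - 1) * p ^ i) := by
  classical
  haveI := Fact.mk hp
  have hinv := fun x c hx j hj => char_pow_eq_of_pRational p hp hχ r hr hpr hrat x c hx j hj
  obtain ⟨P⟩ : Nonempty (Sylow p G) := inferInstance
  haveI := Fintype.ofFinite (P : Subgroup G)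
  have hχ1 : χ 1 = n := by rw [char_one_eq_charDegree hχ, hn]
  have hval : ∀ x : (P : Subgroup G), x ≠ 1 → ∃ w : ℕ, χ x = (n : ℂ) - w ∧ 0 < w ∧ p ∣ w ∧
      (p - 1) * w ≤ p * n := by
    intro x hx1
    obtain ⟨k, hk⟩ := (IsPGroup.iff_orderOf.mp P.isPGroup') x
    have hk0 : k ≠ 0 := by
      rintro rfl
      rw [pow_zero, orderOf_eq_one_iff] at hk
      exact hx1 hk
    obtain ⟨c, rfl⟩ := Nat.exists_eq_succ_of_ne_zero hk0
    have hk' : orderOf (x : G) = p ^ (c + 1) := by rw [Subgroup.orderOf_coe]; exact hk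
    obtain ⟨w, hw1, hw2, hw3⟩ := char_pElement_value p hp hχ hinv (x : G) c hk'
    rw [hn] at hw1 hw3
    refine ⟨w, hw1, ?_, hw2, hw3⟩
    rcases Nat.eq_zero_or_pos w with h0 | hpos
    · exfalso
      rw [h0] at hw1
      simp only [Nat.cast_zero, sub_zero] at hw1
      apply hx1
      have h2 := hfaith (x : G) (by rw [hw1, hχ1])
      exact OneMemClass.coe_eq_one.mp h2
    · exact hpos
  choose! wf hwf using hval
  set W := (Finset.univ.filter (fun x : (P : Subgroup G) => x ≠ 1)).image wf with hW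
  have hφ : Cfsg.IsCharacter (P : Subgroup G) (fun x : (P : Subgroup G) => χ x) :=
    isCharacter_restrict (P : Subgroup G) hχ
  obtain ⟨t, ht⟩ := exists_int_sum_prod_shift hφ n W
  have hsum : ∑ x : (P : Subgroup G), ∏ w ∈ W, (χ x - ((n : ℂ) - w)) = ∏ w ∈ W, (w : ℂ) := by
    rw [Finset.sum_eq_single (1 : (P : Subgroup G))]
    · refine Finset.prod_congr rfl fun w _ => ?_
      rw [OneMemClass.coe_one, hχ1]
      ring
    · intro x _ hx1
      apply Finset.prod_eq_zero (i := wf x)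
        (Finset.mem_image_of_mem _ (Finset.mem_filter.mpr ⟨Finset.mem_univ _, hx1⟩))
      rw [(hwf x hx1).1]
      ring
    · intro h
      exact absurd (Finset.mem_univ _) h
  rw [hsum] at ht
  have hdvd : Nat.card (P : Subgroup G) ∣ ∏ w ∈ W, w := by
    have h1 : ((∏ w ∈ W, w : ℕ) : ℤ) = (Nat.card (P : Subgroup G) : ℤ) * t := by
      have h2 : (((∏ w ∈ W, w : ℕ) : ℤ) : ℂ)
          = (((Nat.card (P : Subgroup G) : ℤ) * t : ℤ) : ℂ) := by
        push_cast
        exact ht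
      exact_mod_cast h2
    exact Int.natCast_dvd_natCast.mp ⟨t, h1⟩
  have hWprop : ∀ w ∈ W, 0 < w ∧ p ∣ w ∧ (p - 1) * w ≤ p * n := by
    intro w hw
    rw [hW, Finset.mem_image] at hw
    obtain ⟨x, hx, rfl⟩ := hw
    exact (hwf x (Finset.mem_filter.mp hx).2).2
  have hdvd2 := hdvd.trans (prod_dvd_pow_mul_factorial p n hp W hWprop)
  rw [Sylow.card_eq_multiplicity] at hdvd2
  set m := n / (p - 1) with hm
  have hne : p ^ m * m.factorial ≠ 0 :=
    mul_ne_zero (pow_ne_zero _ hp.ne_zero) (Nat.factorial_ne_zero m)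
  have h1 := (hp.pow_dvd_iff_le_factorization hne).mp hdvd2
  have hlog : Nat.log p m < n + 1 := by
    have h2 : Nat.log p m ≤ m := Nat.log_le_self p m
    have h3 : m ≤ n := Nat.div_le_self n (p - 1)
    omega
  have h5 : (m.factorial).factorization p = ∑ i ∈ Finset.Ico 1 (n + 1), m / p ^ i := by
    rw [Nat.factorization_def _ hp, padicValNat_factorial hlog]
  rw [Nat.factorization_mul (pow_ne_zero _ hp.ne_zero) (Nat.factorial_ne_zero m),
    Finsupp.add_apply, hp.factorization_pow, Finsupp.single_eq_same, h5] at h1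
  have h4 : ∑ i ∈ Finset.range (n + 1), n / ((p - 1) * p ^ i)
      = m + ∑ i ∈ Finset.Ico 1 (n + 1), m / p ^ i := by
    rw [Finset.sum_range_succ', Finset.sum_Ico_eq_sum_range, add_comm]
    congr 1
    · simp [hm]
    · simp only [Nat.add_sub_cancel]
      refine Finset.sum_congr rfl fun i _ => ?_
      rw [hm, Nat.div_div_eq_div_mul, add_comm 1 i]
  rw [h4]
  exact h1

end Main

end Cfsg.Agent.Lib.Helper80
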