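import Mathlib
import Cfsg.Prelude.Def_Blocks
import Cfsg.Prelude.Def_Solvable
import Cfsg.Agent.Lib.Helper80.GagolaSylow

/-!
# Frobenius groups with kernel of prime order from a faithful character of prime codegree
-/

set_option autoImplicit false

namespace Cfsg.Agent.Lib.Helper80

open scoped ComplexConjugate Pointwise

section FrobGroup

variable {G : Type*} [Group G]

/-- A normal subgroup with a complement, such that the centralizer of each nonidentity element
of the normal subgroup lies inside it, gives a Frobenius group. -/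
theorem frobenius_of_centralizer (P H : Subgroup G) [hP : P.Normal] [Finite P]
    (hc : Subgroup.IsComplement' P H) (hH1 : H ≠ ⊥) (hP1 : P ≠ ⊥)
    (hcent : ∀ x ∈ P, x ≠ 1 → ∀ c : G, c * x = x * c → c ∈ P) :
    Cfsg.IsFrobeniusComplement H ∧ Cfsg.frobeniusKernel H = (P : Set G) := by
  have hdisj : ∀ y, y ∈ P → y ∈ H → y = 1 := fun y hyP hyH =>
    Subgroup.disjoint_def.mp hc.disjoint hyP hyH
  have hdecomp : ∀ g : G, ∃ x ∈ P, ∃ h ∈ H, g = x * h := by
    intro g
    obtain ⟨⟨x, h⟩, hxh⟩ := hc.2 g
    exact ⟨x, x.2, h, h.2, hxh.symm⟩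
  refine ⟨⟨hH1, ?_, ?_⟩, ?_⟩
  · intro hH
    apply hP1
    rw [eq_bot_iff]
    intro y hy
    rw [Subgroup.mem_bot]
    exact hdisj y hy (hH ▸ Subgroup.mem_top y)
  · intro g hg
    rw [eq_bot_iff]
    rintro y ⟨hyH, hy'⟩
    rw [Subgroup.mem_bot]
    obtain ⟨h₁, hh₁, hh₁y⟩ :=
      (Subgroup.mem_smul_pointwise_iff_exists y (MulAut.conj g) H).mp hy'
    rw [MulAut.smul_def, MulAut.conj_apply] at hh₁y
    obtain ⟨x, hx, h, hh, rfl⟩ := hdecomp g
    have hx1 : x ≠ 1 := by
      rintro rfl
      apply hg
      simpa using hh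
    set h' := h * h₁ * h⁻¹ with hh'
    have hh'H : h' ∈ H := H.mul_mem (H.mul_mem hh hh₁) (H.inv_mem hh)
    have hy : y = x * h' * x⁻¹ := by
      rw [← hh₁y, hh']
      group
    have h1 : y * h'⁻¹ ∈ P := by
      rw [hy]
      have : x * h' * x⁻¹ * h'⁻¹ = x * (h' * x⁻¹ * h'⁻¹) := by group
      rw [this]
      exact P.mul_mem hx (hP.conj_mem _ (P.inv_mem hx) h')
    have h2 : y * h'⁻¹ ∈ H := H.mul_mem hyH (H.inv_mem hh'H)
    have h3 : y = h' := mul_inv_eq_one.mp (hdisj _ h1 h2)
    have h4 : h' * x = x * h' := by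
      rw [h3] at hy
      calc h' * x = x * h' * x⁻¹ * x := by rw [← hy]
        _ = x * h' := by group
    have h5 : h' ∈ P := hcent x hx hx1 h' h4
    rw [h3]
    exact hdisj h' h5 hh'H
  · ext y
    unfold Cfsg.frobeniusKernel
    simp only [Set.mem_ofPred_eq, SetLike.mem_coe]
    constructor
    · rintro (rfl | hy)
      · exact P.one_mem
      · by_contra hyP
        obtain ⟨x, hx, h, hh, rfl⟩ := hdecomp y
        have hh1 : h ≠ 1 := by
          rintro rfl
          apply hyP
          simpa using hx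
        let φ : P → P := fun u => ⟨u * h * (u : G)⁻¹ * h⁻¹, by
          have : (u : G) * h * (u : G)⁻¹ * h⁻¹ = u * (h * (u : G)⁻¹ * h⁻¹) := by group
          rw [this]
          exact P.mul_mem u.2 (hP.conj_mem _ (P.inv_mem u.2) h)⟩
        have hφ : Function.Injective φ := by
          intro u v huv
          have h1 : (u : G) * h * (u : G)⁻¹ * h⁻¹ = v * h * (v : G)⁻¹ * h⁻¹ :=
            congrArg Subtype.val huv
          have h2 : (u : G) * h * (u : G)⁻¹ = v * h * (v : G)⁻¹ := mul_right_cancel h1
          by_contra hne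
          have hw : (v : G)⁻¹ * u ∈ P := P.mul_mem (P.inv_mem v.2) u.2
          have hw1 : (v : G)⁻¹ * u ≠ 1 := by
            intro h0
            apply hne
            apply Subtype.ext
            exact (inv_mul_eq_one.mp h0).symm
          have hcomm : h * ((v : G)⁻¹ * u) = ((v : G)⁻¹ * u) * h := by
            calc h * ((v : G)⁻¹ * u) = (v : G)⁻¹ * (v * h * (v : G)⁻¹) * u := by group
              _ = (v : G)⁻¹ * (u * h * (u : G)⁻¹) * u := by rw [h2]
              _ = ((v : G)⁻¹ * u) * h := by group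
          have := hcent _ hw hw1 h hcomm
          exact hh1 (hdisj h this hh)
        obtain ⟨u, hu⟩ := (Finite.injective_iff_surjective.mp hφ) ⟨x, hx⟩
        have hu' : (u : G) * h * (u : G)⁻¹ * h⁻¹ = x := congrArg Subtype.val hu
        apply hy u
        rw [Subgroup.mem_smul_pointwise_iff_exists]
        refine ⟨h, hh, ?_⟩
        rw [MulAut.smul_def, MulAut.conj_apply, ← hu']
        group
    · intro hyP
      by_cases hy1 : y = 1
      · exact Or.inl hy1
      · right
        intro g hg
        obtain ⟨h, hh, hhy⟩ :=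
          (Subgroup.mem_smul_pointwise_iff_exists y (MulAut.conj g) H).mp hg
        rw [MulAut.smul_def, MulAut.conj_apply] at hhy
        have hhP : h ∈ P := by
          have h1 : h = g⁻¹ * y * g := by
            rw [← hhy]
            group
          rw [h1]
          have := hP.conj_mem y hyP g⁻¹
          simpa using this
        have h1 := hdisj h hhP hh
        apply hy1
        rw [← hhy, h1]
        group

end FrobGroup

section IndIrr

variable {G : Type*} [Group G] [Fintype G]

theorem indFun_apply_of_mem_normal (N : Subgroup G) [N.Normal] (θ : N → ℂ) (y : N) :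
    Cfsg.indFun N θ (y : G)
      = (Nat.card N : ℂ)⁻¹ * ∑ x : G, θ (MulAut.conjNormal x⁻¹ y) := by
  unfold Cfsg.indFun
  congr 1
  refine Finset.sum_congr rfl fun x _ => ?_
  have : x⁻¹ * (y : G) * x = ((MulAut.conjNormal x⁻¹ y : N) : G) := by
    rw [MulAut.conjNormal_apply, inv_inv]
  rw [this, extendByZero_apply_mem]

/-- If the function induced from an irreducible character of a normal subgroup is irreducible,
then the inertia group is the normal subgroup itself (in terms of orders). -/
theorem card_conjStabilizer_of_indFun_irr (N : Subgroup G) [N.Normal]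
    (μ : Cfsg.IrrCharacter N)
    (hirr : Cfsg.IsIrrCharacter G (Cfsg.indFun N (μ : N → ℂ))) :
    Nat.card (conjStabilizer N (μ : N → ℂ)) = Nat.card N := by
  classical
  have := Fintype.ofFinite N
  have hNne : (Nat.card N : ℂ) ≠ 0 := by exact_mod_cast (Nat.card_pos (α := N)).ne'
  have h1 : Cfsg.classInner (Cfsg.indFun N (μ : N → ℂ)) (Cfsg.indFun N (μ : N → ℂ)) = 1 :=
    classInner_self hirr
  rw [frobenius_reciprocity N (μ : N → ℂ) _ (isClassFunction_indFun N _)] at h1
  unfold Cfsg.classInner at h1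
  have h2 : ∀ y : N, (μ : N → ℂ) y * conj (Cfsg.indFun N (μ : N → ℂ) (y : G))
      = (Nat.card N : ℂ)⁻¹ *
        ∑ x : G, (μ : N → ℂ) y * conj ((μ : N → ℂ) (MulAut.conjNormal x⁻¹ y)) := by
    intro y
    rw [indFun_apply_of_mem_normal, map_mul, map_inv₀, Complex.conj_natCast, map_sum,
      Finset.mul_sum, Finset.mul_sum, Finset.mul_sum]
    refine Finset.sum_congr rfl fun x _ => ?_
    ring
  simp_rw [h2] at h1
  rw [← Finset.mul_sum, Finset.sum_comm] at h1
  have h3 : ∀ x : G, ∑ y : N, (μ : N → ℂ) y * conj ((μ : N → ℂ) (MulAut.conjNormal x⁻¹ y))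
      = (Nat.card N : ℂ) * (if x ∈ conjStabilizer N (μ : N → ℂ) then 1 else 0) := by
    intro x
    have h4 := classInner_irr_fun μ.2 (isIrrCharacter_comp_mulEquiv (MulAut.conjNormal x⁻¹) μ.2)
    unfold Cfsg.classInner at h4
    have h5 : ((μ : N → ℂ) = fun g => (μ : N → ℂ) (MulAut.conjNormal x⁻¹ g))
        ↔ x ∈ conjStabilizer N (μ : N → ℂ) := by
      rw [← inv_mem_iff (H := conjStabilizer N (μ : N → ℂ)), mem_conjStabilizer]
      constructor
      · intro h n
        exact (congrFun h n).symm
      · intro h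
        funext n
        exact (h n).symm
    rw [if_congr h5 rfl rfl] at h4
    rw [← h4, ← mul_assoc, mul_inv_cancel₀ hNne, one_mul]
  simp_rw [h3] at h1
  rw [← Finset.mul_sum, Finset.sum_boole, ← mul_assoc, ← mul_assoc,
    mul_assoc (Nat.card N : ℂ)⁻¹ (Nat.card N : ℂ)⁻¹, inv_mul_cancel₀ hNne, mul_one] at h1
  have h6 : ((Finset.univ.filter (· ∈ conjStabilizer N (μ : N → ℂ))).card : ℂ)
      = (Nat.card N : ℂ) := ((inv_mul_eq_one₀ hNne).mp h1).symm
  rw [Nat.card_eq_fintype_card (α := conjStabilizer N (μ : N → ℂ)), Fintype.card_subtype]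
  exact_mod_cast h6

end IndIrr

section PrimeCodegree

variable {G : Type*} [Group G] [Finite G]

/-- A finite group with a faithful irreducible character of prime codegree `p` is cyclic of
order `p` or a Frobenius group with kernel of order `p`. -/
theorem frobenius_of_prime_codegree (χ : Cfsg.IrrCharacter G)
    (hfaith : ∀ g : G, (χ : G → ℂ) g = (χ : G → ℂ) 1 → g = 1) (p : ℕ) (hp : p.Prime)
    (hcod : Nat.card G = p * Cfsg.charDegree (χ : G → ℂ)) :
    (IsCyclic G ∧ Nat.card G = p) ∨
      ∃ H : Subgroup G, Cfsg.IsFrobeniusComplement H ∧ Nat.card ↥(Cfsg.frobeniusKernel H) = p := by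
  classical
  have := Fintype.ofFinite G
  have : Fact p.Prime := ⟨hp⟩
  set d := Cfsg.charDegree (χ : G → ℂ) with hd
  have hd0 : 0 < d := charDegree_pos χ.2
  have hχc := isCharacter_of_isIrrCharacter χ.2
  have hdp : d < p := by
    have h1 := charDegree_sq_le_card χ.2
    rw [hcod, ← hd, sq] at h1
    have h2 : d ≤ p := Nat.le_of_mul_le_mul_right h1 hd0
    rcases h2.lt_or_eq with h | h
    · exact h
    · exfalso
      have hG2 : Nat.card G = p ^ 2 := by rw [hcod, h, sq]
      have hcomm := IsPGroup.isMulCommutative_of_card_eq_prime_sq hG2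
      have h3 := charDegree_eq_one_of_comm (fun a b => hcomm.is_comm.comm a b) χ
      rw [← hd, h] at h3
      exact hp.one_lt.ne' h3
  by_cases hd1 : d = 1
  · left
    have hGp : Nat.card G = p := by rw [hcod, hd1, mul_one]
    exact ⟨isCyclic_of_prime_card hGp, hGp⟩
  right
  obtain ⟨P, hPn, hPcard⟩ := exists_normal_sylow_of_card hcod hd0 hdp
  have := hPn
  have hidx : (P : Subgroup G).index = d := by
    have := Subgroup.card_mul_index (P : Subgroup G)
    rw [hPcard, hcod] at this
    exact Nat.eq_of_mul_eq_mul_left hp.pos this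
  have hcop : Nat.Coprime (Nat.card (P : Subgroup G)) (P : Subgroup G).index := by
    rw [hPcard, hidx]
    exact (Nat.Prime.coprime_iff_not_dvd hp).mpr (Nat.not_dvd_of_pos_of_lt hd0 hdp)
  obtain ⟨H, hH⟩ := Subgroup.exists_right_complement'_of_coprime hcop
  have hHcard : Nat.card H = d := by
    have := hH.card_mul_card
    rw [hPcard, hcod] at this
    exact Nat.eq_of_mul_eq_mul_left hp.pos this
  have hH1 : H ≠ ⊥ := by
    rintro rfl
    rw [Subgroup.card_bot] at hHcard
    exact hd1 hHcard.symm
  have hP1 : (P : Subgroup G) ≠ ⊥ := by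
    intro h
    rw [h, Subgroup.card_bot] at hPcard
    exact hp.one_lt.ne hPcard
  -- P is abelian
  have hPcyc : IsCyclic (P : Subgroup G) := isCyclic_of_prime_card hPcard
  have hPcomm : ∀ a b : (P : Subgroup G), a * b = b * a := fun a b =>
    (IsCyclic.isMulCommutative (α := (P : Subgroup G))).is_comm.comm a b
  -- a constituent of the restriction
  have := Fintype.ofFinite (Cfsg.IrrCharacter (P : Subgroup G))
  have hres := isCharacter_restrict (P : Subgroup G) hχc
  obtain ⟨m, hm, hexp⟩ := character_expansion hres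
  have hex : ∃ μ, m μ ≠ 0 := by
    by_contra hall
    push Not at hall
    have h1 := congrFun hexp 1
    simp only [hall, Nat.cast_zero, zero_smul, Finset.sum_const_zero, Pi.zero_apply] at h1
    exact char_one_ne_zero χ.2 h1
  obtain ⟨μ, hμ⟩ := hex
  have hμ1 : Cfsg.charDegree (μ : ↥(P : Subgroup G) → ℂ) = 1 := charDegree_eq_one_of_comm hPcomm μ
  have hμc := isCharacter_of_isIrrCharacter μ.2
  have hdeg : Cfsg.charDegree (Cfsg.indFun (P : Subgroup G) (μ : ↥(P : Subgroup G) → ℂ)) = d := by
    unfold Cfsg.charDegree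
    rw [indFun_one, hidx, char_one_eq_charDegree hμc, hμ1]
    simp
  have := Fintype.ofFinite (Cfsg.IrrCharacter G)
  have hind : Cfsg.indFun (P : Subgroup G) (μ : ↥(P : Subgroup G) → ℂ) = (χ : G → ℂ) := by
    apply eq_of_constituent_of_degree_le (isCharacter_indFun _ hμc) χ.2
    · rw [frobenius_reciprocity _ _ _ (isClassFunction_of_isCharacter hχc),
        ← classInner_conj_symm, hm μ]
      simpa using hμ
    · rw [hdeg]
  have hirr : Cfsg.IsIrrCharacter G (Cfsg.indFun (P : Subgroup G) (μ : ↥(P : Subgroup G) → ℂ)) := by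
    rw [hind]
    exact χ.2
  have hT := card_conjStabilizer_of_indFun_irr (P : Subgroup G) μ hirr
  have hPT : (P : Subgroup G) ≤ conjStabilizer (P : Subgroup G) (μ : ↥(P : Subgroup G) → ℂ) := by
    intro y hy
    rw [mem_conjStabilizer]
    intro n
    have h2 : MulAut.conjNormal y n = n := by
      apply Subtype.ext
      rw [MulAut.conjNormal_apply]
      have h1 : y * (n : G) = n * y := congrArg Subtype.val (hPcomm ⟨y, hy⟩ n)
      rw [h1]
      group
    rw [h2]
  have hTP : conjStabilizer (P : Subgroup G) (μ : ↥(P : Subgroup G) → ℂ) = (P : Subgroup G) :=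
    (Subgroup.eq_of_le_of_card_ge hPT (le_of_eq hT)).symm
  have hcent : ∀ x ∈ (P : Subgroup G), x ≠ 1 → ∀ c : G, c * x = x * c → c ∈ (P : Subgroup G) := by
    intro x hx hx1 c hcx
    rw [← hTP, mem_conjStabilizer]
    intro n
    have h2 : MulAut.conjNormal c n = n := by
      apply Subtype.ext
      rw [MulAut.conjNormal_apply]
      have hn : n ∈ Subgroup.zpowers (⟨x, hx⟩ : (P : Subgroup G)) :=
        mem_zpowers_of_prime_card hPcard (fun h => hx1 (congrArg Subtype.val h))
      obtain ⟨k, hk⟩ := Subgroup.mem_zpowers_iff.mp hn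
      have hn' : (n : G) = x ^ k := by
        rw [← hk]
        simp
      rw [hn']
      have hcomm : Commute c x := hcx
      rw [(hcomm.zpow_right k).eq]
      group
    rw [h2]
  obtain ⟨hF, hK⟩ := frobenius_of_centralizer (P : Subgroup G) H hH hH1 hP1 hcent
  refine ⟨H, hF, ?_⟩
  rw [hK]
  exact hPcard

end PrimeCodegree

end Cfsg.Agent.Lib.Helper80
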