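import Mathlib
import Cfsg.Prelude.Def_Characters

set_option autoImplicit false

namespace Cfsg.Agent.Lib.Helper80.MGP3

universe u

theorem mgp3_extend_mem {G : Type u} [Group G] (H : Subgroup G) (θ : H → ℂ) (g : G)
    (hg : g ∈ H) : Cfsg.extendByZero H θ g = θ ⟨g, hg⟩ := by
  unfold Cfsg.extendByZero
  exact Function.Injective.extend_apply Subtype.val_injective θ 0 ⟨g, hg⟩

theorem mgp3_extend_not_mem {G : Type u} [Group G] (H : Subgroup G) (θ : H → ℂ) (g : G)
    (hg : g ∉ H) : Cfsg.extendByZero H θ g = 0 := by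
  unfold Cfsg.extendByZero
  rw [Function.extend_apply']
  · rfl
  · rintro ⟨a, ha⟩
    exact hg (ha ▸ a.2)

theorem mgp3_extend_pi {ι M : Type u} [Fintype ι] [Group M]
    (H : ι → Subgroup M) (φ : ∀ i, H i → ℂ) (g : ι → M) :
    Cfsg.extendByZero (Subgroup.pi Set.univ H)
        (fun f => ∏ i, φ i ⟨f.1 i, f.2 i (Set.mem_univ i)⟩) g =
      ∏ i, Cfsg.extendByZero (H i) (φ i) (g i) := by
  by_cases hg : g ∈ Subgroup.pi Set.univ H
  · rw [mgp3_extend_mem _ _ g hg]
    refine Finset.prod_congr rfl ?_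
    intro i _
    rw [mgp3_extend_mem _ _ (g i) (hg i (Set.mem_univ i))]
  · rw [mgp3_extend_not_mem _ _ g hg]
    have : ∃ i, g i ∉ H i := by
      by_contra hcon
      apply hg
      intro i _
      by_contra hi
      exact hcon ⟨i, hi⟩
    obtain ⟨i, hi⟩ := this
    symm
    apply Finset.prod_eq_zero (Finset.mem_univ i)
    exact mgp3_extend_not_mem _ _ (g i) hi

theorem mgp3_card_pi {ι M : Type u} [Fintype ι] [Group M] [Finite M]
    (H : ι → Subgroup M) :
    Nat.card (Subgroup.pi Set.univ H) = ∏ i, Nat.card (H i) := by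
  classical
  have e : (Subgroup.pi Set.univ H) ≃ (∀ i, H i) :=
    { toFun := fun f i => ⟨f.1 i, f.2 i (Set.mem_univ i)⟩
      invFun := fun f => ⟨fun i => (f i).1, fun i _ => (f i).2⟩
      left_inv := fun f => rfl
      right_inv := fun f => rfl }
  rw [Nat.card_congr e, Nat.card_pi]

end Cfsg.Agent.Lib.Helper80.MGP3

namespace Cfsg.Agent.Lib.Helper74.MG

universe u

open Cfsg.Agent.Lib.Helper80.MGP3 in
theorem indFun_pi {ι M : Type u} [Fintype ι] [Group M] [Fintype M] [Fintype (ι → M)]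
    (H : ι → Subgroup M) (φ : ∀ i, H i → ℂ) :
    Cfsg.indFun (Subgroup.pi Set.univ H)
        (fun f => ∏ i, φ i ⟨f.1 i, f.2 i (Set.mem_univ i)⟩) =
      fun f : ι → M => ∏ i, Cfsg.indFun (H i) (φ i) (f i) := by
  classical
  funext f
  unfold Cfsg.indFun
  rw [Finset.prod_mul_distrib, Finset.prod_univ_sum, mgp3_card_pi]
  have huniv : (Finset.univ : Finset (ι → M)) =
      Fintype.piFinset (fun _ => (Finset.univ : Finset M)) := by
    ext x; simp
  rw [huniv]
  congr 1
  · push_cast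
    rw [Finset.prod_inv_distrib]
  · refine Finset.sum_congr rfl ?_
    intro x _
    rw [mgp3_extend_pi]
    rfl

end Cfsg.Agent.Lib.Helper74.MG
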