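import Mathlib
import Cfsg.Prelude.Def_Characters
import Cfsg.Agent.S0188
import Cfsg.Agent.Lib.Helper80.CharKer
import Cfsg.Agent.Lib.Helper82.AbelianSylow

set_option autoImplicit false
set_option linter.style.haveILetI false

namespace Cfsg.Agent.Lib.Helper80.MGP2

universe u

/-- `(Option α → M) ≃* M × (α → M)`. -/
def mgp2_optEquiv (α M : Type u) [Group M] : (Option α → M) ≃* M × (α → M) where
  toFun f := (f none, fun a => f (some a))
  invFun p := fun o => Option.elim o p.1 p.2
  left_inv f := by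
    funext o
    cases o <;> rfl
  right_inv p := rfl
  map_mul' f g := rfl

/-- The induction predicate. -/
def mgp2_P (M : Type u) [Group M] (ι : Type u) : Prop :=
  ∀ (inst : Fintype ι) (θ : (ι → M) → ℂ), Cfsg.IsIrrCharacter (ι → M) θ →
    ∃ θ' : ι → M → ℂ, (∀ i, Cfsg.IsIrrCharacter M (θ' i)) ∧
      ∀ f : ι → M, θ f = @Finset.prod ι ℂ _ (@Finset.univ ι inst) (fun i => θ' i (f i))

theorem mgp2_equiv (M : Type u) [Group M] {α β : Type u} (e : α ≃ β)
    (h : mgp2_P M α) : mgp2_P M β := by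
  intro inst θ hθ
  letI instα : Fintype α := Fintype.ofEquiv β e.symm
  let E : (α → M) ≃* (β → M) := MulEquiv.arrowCongr e (MulEquiv.refl M)
  have hE : ∀ (f : α → M) (b : β), E f b = f (e.symm b) := fun f b => rfl
  obtain ⟨θ'', h1, h2⟩ := h instα (fun f => θ (E f))
    (Cfsg.Agent.Lib.Helper80.isIrrCharacter_comp_mulEquiv E hθ)
  refine ⟨fun b => θ'' (e.symm b), fun b => h1 _, ?_⟩
  intro g
  have hg : g = E (fun a => g (e a)) := by
    funext b
    rw [hE]
    simp
  have h3 : θ g = ∏ a, θ'' a (g (e a)) := by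
    have h4 := h2 (fun a => g (e a))
    rw [← hg] at h4
    exact h4
  rw [h3]
  exact Fintype.prod_equiv e _ _ (fun a => by simp)

theorem mgp2_empty (M : Type u) [Group M] [Finite M] : mgp2_P M PEmpty.{u+1} := by
  intro inst θ hθ
  refine ⟨fun i => PEmpty.elim i, fun i => PEmpty.elim i, ?_⟩
  intro f
  have hf : f = 1 := Subsingleton.elim _ _
  have h1 : θ 1 = 1 :=
    Cfsg.Agent.Lib.Helper82.irr_one_eq_one_of_comm (fun a b => Subsingleton.elim _ _) hθ
  rw [hf, h1]
  symm
  apply Finset.prod_eq_one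
  intro i _
  exact PEmpty.elim i

theorem mgp2_option (M : Type u) [Group M] [Finite M] {α : Type u} [Fintype α]
    (h : mgp2_P M α) : mgp2_P M (Option α) := by
  classical
  intro inst θ hθ
  obtain rfl : inst = instFintypeOption := Subsingleton.elim _ _
  let E := mgp2_optEquiv α M
  have hirr : Cfsg.IsIrrCharacter (M × (α → M)) (fun x => θ (E.symm x)) :=
    Cfsg.Agent.Lib.Helper80.isIrrCharacter_comp_mulEquiv E.symm hθ
  obtain ⟨φ, ψ, hφ, hψ, hθ'⟩ := (Cfsg.Agent.S0188.result _).1 hirr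
  obtain ⟨θ'', h1, h2⟩ := h inferInstance ψ hψ
  refine ⟨fun o => Option.elim o φ θ'', ?_, ?_⟩
  · intro o
    cases o with
    | none => exact hφ
    | some a => exact h1 a
  · intro f
    have h3 : θ f = φ (f none) * ψ (fun a => f (some a)) := by
      have := congrFun hθ' (E f)
      simp only [MulEquiv.symm_apply_apply] at this
      exact this
    rw [h3, h2, Fintype.prod_option]
    rfl

theorem mgp2_all (M : Type u) [Group M] [Finite M] (ι : Type u) [Finite ι] : mgp2_P M ι :=
  Finite.induction_empty_option (P := mgp2_P M) (fun e h => mgp2_equiv M e h)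
    (mgp2_empty M) (fun h => mgp2_option M h) ι

end Cfsg.Agent.Lib.Helper80.MGP2

namespace Cfsg.Agent.Lib.Helper74.MG

universe u

theorem irr_pi {ι M : Type u} [Fintype ι] [Group M] [Finite M] (θ : (ι → M) → ℂ)
    (hθ : Cfsg.IsIrrCharacter (ι → M) θ) :
    ∃ θ' : ι → M → ℂ, (∀ i, Cfsg.IsIrrCharacter M (θ' i)) ∧
      ∀ f : ι → M, θ f = ∏ i, θ' i (f i) :=
  Cfsg.Agent.Lib.Helper80.MGP2.mgp2_all M ι _ θ hθ

end Cfsg.Agent.Lib.Helper74.MG
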