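import Mathlib
import Cfsg.Prelude.Def_Characters
import Cfsg.Prelude.Def_Local
import Cfsg.Prelude.Def_Solvable
import Cfsg.Agent.Lib.Helper1.Basic
import Cfsg.Agent.Lib.Helper1.Tools
import Cfsg.Agent.Lib.Helper1.SZInternal
import Cfsg.Agent.Lib.Helper11.PSolvCoprime
import Cfsg.Agent.Lib.Helper63.PLength
import Cfsg.Agent.Lib.Helper63.HallHigman
import Cfsg.Agent.Lib.Helper69.PSolvable
import Cfsg.Agent.Lib.Helper4.CNSolv
import Cfsg.Agent.Lib.Helper80.PSolvKey

/-!
# The Sylow `p`-index of `O_p` in a `p`-solvable linear group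
-/

set_option autoImplicit false
set_option linter.style.haveILetI false

namespace Cfsg.Agent.Lib.Helper80

open scoped Pointwise

universe u

section Reduction

variable {G : Type u} [Group G] [Finite G]

omit [Finite G] in
theorem relIndex_mul_card_inf (A B : Subgroup G) :
    A.relIndex B * Nat.card (A ⊓ B : Subgroup G) = Nat.card B := by
  have h1 := Subgroup.card_mul_index (A.subgroupOf B)
  have h2 : Nat.card (A.subgroupOf B) = Nat.card (A ⊓ B : Subgroup G) := by
    rw [← Subgroup.subgroupOf_map_subtype A B,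
      Subgroup.card_map_of_injective B.subtype_injective]
  rw [h2, mul_comm] at h1
  exact h1

omit [Finite G] in
theorem mem_normalizer_of_conj_smul_eq {H : Subgroup G} {x : G}
    (h : MulAut.conj x • H = H) : x ∈ Subgroup.normalizer (H : Set G) := by
  rw [Subgroup.mem_normalizer_iff]
  intro y
  constructor
  · intro hy
    rw [← h, Cfsg.Agent.Lib.Helper1.mem_conj_smul]
    have : x⁻¹ * (x * y * x⁻¹) * x = y := by group
    rwa [this]
  · intro hy
    rw [← h, Cfsg.Agent.Lib.Helper1.mem_conj_smul] at hy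
    have : x⁻¹ * (x * y * x⁻¹) * x = y := by group
    rwa [this] at hy

/-- **Group-theoretic reduction.** In a finite `p`-solvable group there are a `p'`-subgroup `H`
and a `p`-subgroup `R` normalizing it such that the `p`-part of `|G : O_p(G)|` is at most
`|R : C_R(H)|`. -/
theorem exists_pprime_pgroup_pair (p : ℕ) [hp : Fact p.Prime] (hsolv : Cfsg.IsPSolvable p G) :
    ∃ H R : Subgroup G, (Nat.card H).Coprime p ∧ IsPGroup p R ∧
      R ≤ Subgroup.normalizer (H : Set G) ∧
      p ^ ((Cfsg.pCore p G).index).factorization p ≤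
        (Subgroup.centralizer (H : Set G)).relIndex R := by
  classical
  have hpp := hp.out
  obtain ⟨Q, hQdef⟩ : ∃ Q : Subgroup G, Q = Cfsg.pCore p G := ⟨_, rfl⟩
  rw [← hQdef]
  haveI hQn : Q.Normal := by
    rw [hQdef]
    haveI := Cfsg.Agent.Lib.Helper63.pCore_characteristic' p G
    exact Subgroup.normal_of_characteristic _
  have hQp : IsPGroup p Q := by
    rw [hQdef]; exact Cfsg.Agent.Lib.Helper63.pCore_isPGroup' p G
  obtain ⟨a, ha⟩ := IsPGroup.iff_card.mp hQp
  have hsolvQ : Cfsg.IsPSolvable p (G ⧸ Q) :=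
    Cfsg.Agent.Lib.Helper69.isPSolvable_of_surj p (QuotientGroup.mk' Q)
      (QuotientGroup.mk'_surjective Q) hsolv
  have hcore : Cfsg.pCore p (G ⧸ Q) = ⊥ :=
    Cfsg.Agent.Lib.Helper4.CN.pCore_quotient_eq_bot p Q hQdef
  obtain ⟨Kb, hKb⟩ : ∃ Kb : Subgroup (G ⧸ Q), Kb = Cfsg.pPrimeCore p (G ⧸ Q) := ⟨_, rfl⟩
  have hKbcop : (Nat.card Kb).Coprime p := by
    rw [hKb]; exact Cfsg.Agent.Lib.Helper63.card_pPrimeCore_coprime' p (G ⧸ Q)
  haveI hKbn : Kb.Normal := by
    rw [hKb]
    haveI := Cfsg.Agent.Lib.Helper63.pPrimeCore_characteristic' p (G ⧸ Q)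
    exact Subgroup.normal_of_characteristic _
  obtain ⟨K, hKdef⟩ : ∃ K : Subgroup G, K = Kb.comap (QuotientGroup.mk' Q) := ⟨_, rfl⟩
  haveI hKn : K.Normal := by rw [hKdef]; exact hKbn.comap _
  have hQK : Q ≤ K := by
    intro x hx
    rw [hKdef, Subgroup.mem_comap]
    have : QuotientGroup.mk' Q x = 1 := (QuotientGroup.eq_one_iff x).mpr hx
    rw [this]
    exact Kb.one_mem
  have hrel : Q.relIndex K = Nat.card Kb := by
    have h1 := Subgroup.relIndex_mul_index hQK
    have h2 : K.index = Kb.index := by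
      rw [hKdef]
      exact Subgroup.index_comap_of_surjective Kb (QuotientGroup.mk'_surjective Q)
    have h3 : Q.index = Nat.card Kb * Kb.index := by
      rw [Subgroup.index_eq_card, Subgroup.card_mul_index]
    rw [h2, h3] at h1
    exact Nat.eq_of_mul_eq_mul_right (Nat.pos_of_ne_zero Subgroup.index_ne_zero_of_finite) h1
  have hQnorm : ∀ A : Subgroup G, A ≤ Subgroup.normalizer (Q : Set G) := fun A => by
    rw [Subgroup.normalizer_eq_top]; exact le_top
  obtain ⟨H, hHK, hHcard⟩ := Cfsg.Agent.Lib.Helper1.sz_exists_internal K Q hQK (hQnorm K)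
    (by rw [hrel, ha]; exact Nat.Coprime.pow_left a hKbcop.symm)
  have hHcop : (Nat.card H).Coprime p := by rw [hHcard, hrel]; exact hKbcop
  have hHQcop : (Nat.card H).Coprime (Nat.card Q) := by
    rw [ha]; exact Nat.Coprime.pow_right a hHcop
  have hcardK : Nat.card K = Nat.card Q * Nat.card Kb := by
    have h1 := Subgroup.card_mul_index (Q.subgroupOf K)
    have h2 : Nat.card (Q.subgroupOf K) = Nat.card Q :=
      Nat.card_congr (Subgroup.subgroupOfEquivOfLe hQK).toEquiv
    rw [h2] at h1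
    rw [← h1, ← hrel]
    rfl
  have hsup : Q ⊔ H = K := by
    apply Subgroup.eq_of_le_of_card_ge (sup_le hQK hHK)
    rw [Cfsg.Agent.Lib.Helper1.card_sup_of_normalizer_coprime Q H (hQnorm H) hHQcop, hHcard,
      hrel, hcardK]
  have hHmap : H.map (QuotientGroup.mk' Q) = Kb := by
    have h1 : (Q ⊔ H).map (QuotientGroup.mk' Q) = Kb := by
      rw [hsup, hKdef,
        Subgroup.map_comap_eq_self_of_surjective (QuotientGroup.mk'_surjective Q)]
    rw [Subgroup.map_sup, QuotientGroup.map_mk'_self, bot_sup_eq] at h1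
    exact h1
  have hQsolv : Group.IsSolvable Q := by
    haveI := hQp.isNilpotent
    infer_instance
  -- Frattini argument
  have hfrat : ∀ g : G, ∃ q ∈ Q, q * g ∈ Subgroup.normalizer (H : Set G) := by
    intro g
    have hle : MulAut.conj g • H ≤ Q ⊔ H := by
      rw [hsup]
      intro y hy
      rw [Cfsg.Agent.Lib.Helper1.mem_conj_smul] at hy
      have h1 := hKn.conj_mem _ (hHK hy) g
      have h2 : g * (g⁻¹ * y * g) * g⁻¹ = y := by group
      rwa [h2] at h1
    obtain ⟨q, hq, hconj⟩ := Cfsg.Agent.Lib.Helper1.sz_conj_internal Q H (MulAut.conj g • H)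
      (hQnorm H) hHQcop (Or.inr hQsolv) hle (Cfsg.Agent.Lib.Helper1.card_conj_smul H g)
    refine ⟨q, hq, mem_normalizer_of_conj_smul_eq ?_⟩
    rw [map_mul, mul_smul]
    exact hconj
  obtain ⟨NH, hNH⟩ : ∃ NH : Subgroup G, NH = Subgroup.normalizer (H : Set G) := ⟨_, rfl⟩
  have htop : NH ⊔ Q = ⊤ := by
    rw [eq_top_iff]
    intro g _
    obtain ⟨q, hq, hqg⟩ := hfrat g
    have h1 : g = q⁻¹ * (q * g) := by group
    rw [h1, sup_comm]
    exact Subgroup.mul_mem_sup (Q.inv_mem hq) (hNH ▸ hqg)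
  obtain ⟨P⟩ : Nonempty (Sylow p NH) := inferInstance
  obtain ⟨R, hR⟩ : ∃ R : Subgroup G, R = (P : Subgroup NH).map NH.subtype := ⟨_, rfl⟩
  have hRp : IsPGroup p R := by rw [hR]; exact P.isPGroup'.map _
  have hRN : R ≤ NH := by rw [hR]; exact Subgroup.map_subtype_le _
  have hRcard : Nat.card R = p ^ (Nat.card NH).factorization p := by
    rw [hR, Subgroup.card_map_of_injective NH.subtype_injective]
    exact P.card_eq_multiplicity
  have hi : Q.relIndex NH = Q.index := by
    have h1 := Subgroup.relIndex_sup_right NH Q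
    rw [htop, Subgroup.relIndex_top_right] at h1
    exact h1.symm
  -- p-parts
  have hQNH : IsPGroup p (Q ⊓ NH : Subgroup G) := hQp.to_le inf_le_left
  have hQR : IsPGroup p (Q ⊓ R : Subgroup G) := hQp.to_le inf_le_left
  obtain ⟨d', hd'⟩ := IsPGroup.iff_card.mp hQNH
  obtain ⟨d, hd⟩ := IsPGroup.iff_card.mp hQR
  have hdd : d ≤ d' := by
    have h1 : Nat.card (Q ⊓ R : Subgroup G) ∣ Nat.card (Q ⊓ NH : Subgroup G) :=
      Subgroup.card_dvd_of_le (inf_le_inf_left Q hRN)
    rw [hd, hd'] at h1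
    exact (Nat.pow_dvd_pow_iff_le_right hpp.one_lt).mp h1
  have e1 := relIndex_mul_card_inf Q NH
  have e2 := relIndex_mul_card_inf Q R
  rw [hi, hd'] at e1
  rw [hd, hRcard] at e2
  have hfac : (Nat.card NH).factorization p = Q.index.factorization p + d' := by
    rw [← e1, Nat.factorization_mul Subgroup.index_ne_zero_of_finite
      (pow_ne_zero _ hpp.ne_zero), Finsupp.add_apply, hpp.factorization_pow,
      Finsupp.single_eq_same]
  have hge : p ^ Q.index.factorization p ≤ Q.relIndex R := by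
    rw [hfac] at e2
    have h1 : p ^ (Q.index.factorization p + d') =
        p ^ (Q.index.factorization p + (d' - d)) * p ^ d := by
      rw [← pow_add]; congr 1; omega
    rw [h1] at e2
    have h2 : Q.relIndex R = p ^ (Q.index.factorization p + (d' - d)) :=
      Nat.eq_of_mul_eq_mul_right (pow_pos hpp.pos d) e2
    rw [h2]
    exact Nat.pow_le_pow_right hpp.pos (Nat.le_add_right _ _)
  -- elements of R centralizing H lie in Q
  have hCQ : Subgroup.centralizer (H : Set G) ⊓ R ≤ Q := by
    rintro x ⟨hxC, hxR⟩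
    obtain ⟨k, hk⟩ := hRp ⟨x, hxR⟩
    have hk' : x ^ p ^ k = 1 := by
      have := congrArg Subtype.val hk
      simpa using this
    have hx1 : QuotientGroup.mk' Q x = 1 := by
      apply Cfsg.Agent.Lib.Helper11.eq_one_of_mem_centralizer_pPrimeCore hsolvQ hcore
        (QuotientGroup.mk' Q x) (k := k)
      · rw [← map_pow, hk', map_one]
      · rw [← hKb, ← hHmap, Subgroup.mem_centralizer_iff]
        rintro _ ⟨h, hh, rfl⟩
        rw [← map_mul, ← map_mul]
        congr 1
        exact (Subgroup.mem_centralizer_iff.mp hxC) h hh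
    exact (QuotientGroup.eq_one_iff x).mp hx1
  have hne : (Subgroup.centralizer (H : Set G) ⊓ R).relIndex R ≠ 0 := by
    unfold Subgroup.relIndex
    exact Subgroup.index_ne_zero_of_finite
  have hfin : Q.relIndex R ≤ (Subgroup.centralizer (H : Set G)).relIndex R := by
    have h1 := Subgroup.relIndex_le_of_le_left hCQ hne
    rwa [Subgroup.inf_relIndex_right] at h1
  exact ⟨H, R, hHcop, hRp, hNH ▸ hRN, le_trans hge hfin⟩

end Reduction

section Final

variable {G : Type u} [Group G] [Finite G]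

/-- **The `p`-solvable bound**: a finite `p`-solvable group with a faithful character of degree
`n` has `p`-part of `|G : O_p(G)|` at most `p ^ ∑ i, ⌊n / ((p - 1) p ^ i)⌋`. -/
theorem psolv_sylow_bound (p : ℕ) (hp : p.Prime) {χ : G → ℂ} (hχ : Cfsg.IsCharacter G χ)
    (hfaith : ∀ g : G, χ g = χ 1 → g = 1) (n : ℕ) (hn : Cfsg.charDegree χ = n)
    (hsolv : Cfsg.IsPSolvable p G) :
    ((Cfsg.pCore p G).index).factorization p ≤
      ∑ i ∈ Finset.range (n + 1), n / ((p - 1) * p ^ i) := by
  classical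
  haveI : Fact p.Prime := ⟨hp⟩
  obtain ⟨H, R, hHcop, hRp, hRN, hle⟩ := exists_pprime_pgroup_pair p hsolv
  obtain ⟨L, hL⟩ : ∃ L : Subgroup G, L = H ⊔ R := ⟨_, rfl⟩
  have hHL : H ≤ L := hL ▸ le_sup_left
  have hRL : R ≤ L := hL ▸ le_sup_right
  haveI hHn : (H.subgroupOf L).Normal :=
    (Subgroup.normal_subgroupOf_iff_le_normalizer hHL).mpr
      (hL ▸ sup_le Subgroup.le_normalizer hRN)
  obtain ⟨r, hr⟩ := IsPGroup.iff_card.mp hRp
  have hcardL : Nat.card L = Nat.card H * Nat.card R := by
    rw [hL]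
    exact Cfsg.Agent.Lib.Helper1.card_sup_of_normalizer_coprime H R hRN
      (by rw [hr]; exact Nat.Coprime.pow_left r hHcop.symm)
  have hcardH : Nat.card (H.subgroupOf L) = Nat.card H :=
    Nat.card_congr (Subgroup.subgroupOfEquivOfLe hHL).toEquiv
  have hidx : (H.subgroupOf L).index = p ^ r := by
    have h1 := Subgroup.card_mul_index (H.subgroupOf L)
    rw [hcardH, hcardL, hr] at h1
    exact Nat.eq_of_mul_eq_mul_left Nat.card_pos h1
  have hRL' : IsPGroup p (R.subgroupOf L) :=
    hRp.comap_of_injective L.subtype L.subtype_injective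
  have hK : ∀ g : L, (fun x : L => χ x) g = (fun x : L => χ x) 1 → g ∈ (⊥ : Subgroup L) := by
    intro g hg
    rw [Subgroup.mem_bot]
    have h1 : χ (g : G) = χ 1 := by
      have : χ (g : G) = χ ((1 : L) : G) := hg
      rwa [OneMemClass.coe_one] at this
    exact Subtype.ext (hfaith _ h1)
  have key := relIndex_cmod_le p n L (H.subgroupOf L) (R.subgroupOf L)
    (by rw [hcardH]; exact hHcop) ⟨r, hidx⟩ hRL' (fun x : L => χ x)
    (isCharacter_restrict L hχ) hn ⊥ hK
  have hcm : cmod (⊥ : Subgroup L) (H.subgroupOf L) =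
      (Subgroup.centralizer (H : Set G)).comap L.subtype := by
    ext x
    rw [mem_cmod, Subgroup.mem_comap, Subgroup.mem_centralizer_iff]
    constructor
    · intro hx h hh
      have h1 := hx ⟨h, hHL hh⟩ (Subgroup.mem_subgroupOf.mpr hh)
      rw [Subgroup.mem_bot] at h1
      have h2 : x * ⟨h, hHL hh⟩ = ⟨h, hHL hh⟩ * x := by
        have h3 : x * ⟨h, hHL hh⟩ * x⁻¹ * (⟨h, hHL hh⟩ : L)⁻¹ * (⟨h, hHL hh⟩ * x) =
            x * ⟨h, hHL hh⟩ := by group
        rw [← h3, h1, one_mul]
      have := congrArg Subtype.val h2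
      simpa using this.symm
    · intro hx h hh
      rw [Subgroup.mem_bot]
      have h1 := hx (h : G) (Subgroup.mem_subgroupOf.mp hh)
      have h2 : h * x = x * h := Subtype.ext (by simpa using h1)
      have h3 : x * h * x⁻¹ * h⁻¹ = (h * x) * x⁻¹ * h⁻¹ := by rw [h2]
      rw [h3]
      group
  rw [hcm, Subgroup.relIndex_comap, Subgroup.subgroupOf_map_subtype,
    inf_eq_left.mpr hRL] at key
  exact (Nat.pow_le_pow_iff_right hp.one_lt).mp (le_trans hle key)

end Final

end Cfsg.Agent.Lib.Helper80
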