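import Mathlib
import Cfsg.Prelude.Def_Characters
import Cfsg.Prelude.Def_Blocks
import Cfsg.Agent.Lib.Helper80.SchurBound

/-!
# Schur's bound, stated with the invariance under powers prime to `p`
-/

set_option autoImplicit false
set_option linter.style.haveILetI false

open scoped ComplexConjugate

namespace Cfsg.Agent.Lib.Helper80

universe u

section Main2

variable {G : Type u} [Group G] [Finite G]

/-- **Schur's bound**, invariance form: a finite group with a faithful character of degree `n`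
which is constant on the generators of every cyclic `p`-subgroup has Sylow `p`-subgroups of order at most
`p ^ ∑ i, ⌊n / ((p - 1) p ^ i)⌋`. -/
theorem schur_bound_of_inv (p : ℕ) (hp : p.Prime) {χ : G → ℂ} (hχ : Cfsg.IsCharacter G χ)
    (hfaith : ∀ g : G, χ g = χ 1 → g = 1)
    (hinv : ∀ x : G, ∀ c : ℕ, orderOf x = p ^ c → ∀ j : ℕ, ¬ p ∣ j → χ (x ^ j) = χ x)
    (n : ℕ) (hn : Cfsg.charDegree χ = n) :
    (Nat.card G).factorization p ≤ ∑ i ∈ Finset.range (n + 1), n / ((p - 1) * p ^ i) := by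
  classical
  haveI := Fact.mk hp
  obtain ⟨P⟩ : Nonempty (Sylow p G) := inferInstance
  haveI := Fintype.ofFinite (P : Subgroup G)
  have hχ1 : χ 1 = n := by rw [char_one_eq_charDegree hχ, hn]
  have hval : ∀ x : (P : Subgroup G), x ≠ 1 → ∃ w : ℕ, χ x = (n : ℂ) - w ∧ 0 < w ∧ p ∣ w ∧
      (p - 1) * w ≤ p * n := by
    intro x hx1
    obtain ⟨k, hk⟩ := (IsPGroup.iff_orderOf.mp P.isPGroup') x
    have hk0 : k ≠ 0 := by
      rintro rfl
      rw [pow_zero, orderOf_eq_one_iff] at hk
      exact hx1 hk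
    obtain ⟨c, rfl⟩ := Nat.exists_eq_succ_of_ne_zero hk0
    have hk' : orderOf (x : G) = p ^ (c + 1) := by rw [Subgroup.orderOf_coe]; exact hk
    obtain ⟨w, hw1, hw2, hw3⟩ := char_pElement_value p hp hχ hinv (x : G) c hk'
    rw [hn] at hw1 hw3
    refine ⟨w, hw1, ?_, hw2, hw3⟩
    rcases Nat.eq_zero_or_pos w with h0 | hpos
    · exfalso
      rw [h0] at hw1
      simp only [Nat.cast_zero, sub_zero] at hw1
      apply hx1
      have h2 := hfaith (x : G) (by rw [hw1, hχ1])
      exact OneMemClass.coe_eq_one.mp h2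
    · exact hpos
  choose! wf hwf using hval
  set W := (Finset.univ.filter (fun x : (P : Subgroup G) => x ≠ 1)).image wf with hW
  have hφ : Cfsg.IsCharacter (P : Subgroup G) (fun x : (P : Subgroup G) => χ x) :=
    isCharacter_restrict (P : Subgroup G) hχ
  obtain ⟨t, ht⟩ := exists_int_sum_prod_shift hφ n W
  have hsum : ∑ x : (P : Subgroup G), ∏ w ∈ W, (χ x - ((n : ℂ) - w)) = ∏ w ∈ W, (w : ℂ) := by
    rw [Finset.sum_eq_single (1 : (P : Subgroup G))]
    · refine Finset.prod_congr rfl fun w _ => ?_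
      rw [OneMemClass.coe_one, hχ1]
      ring
    · intro x _ hx1
      apply Finset.prod_eq_zero (i := wf x)
        (Finset.mem_image_of_mem _ (Finset.mem_filter.mpr ⟨Finset.mem_univ _, hx1⟩))
      rw [(hwf x hx1).1]
      ring
    · intro h
      exact absurd (Finset.mem_univ _) h
  rw [hsum] at ht
  have hdvd : Nat.card (P : Subgroup G) ∣ ∏ w ∈ W, w := by
    have h1 : ((∏ w ∈ W, w : ℕ) : ℤ) = (Nat.card (P : Subgroup G) : ℤ) * t := by
      have h2 : (((∏ w ∈ W, w : ℕ) : ℤ) : ℂ)
          = (((Nat.card (P : Subgroup G) : ℤ) * t : ℤ) : ℂ) := by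
        push_cast
        exact ht
      exact_mod_cast h2
    exact Int.natCast_dvd_natCast.mp ⟨t, h1⟩
  have hWprop : ∀ w ∈ W, 0 < w ∧ p ∣ w ∧ (p - 1) * w ≤ p * n := by
    intro w hw
    rw [hW, Finset.mem_image] at hw
    obtain ⟨x, hx, rfl⟩ := hw
    exact (hwf x (Finset.mem_filter.mp hx).2).2
  have hdvd2 := hdvd.trans (prod_dvd_pow_mul_factorial p n hp W hWprop)
  rw [Sylow.card_eq_multiplicity] at hdvd2
  set m := n / (p - 1) with hm
  have hne : p ^ m * m.factorial ≠ 0 :=
    mul_ne_zero (pow_ne_zero _ hp.ne_zero) (Nat.factorial_ne_zero m)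
  have h1 := (hp.pow_dvd_iff_le_factorization hne).mp hdvd2
  have hlog : Nat.log p m < n + 1 := by
    have h2 : Nat.log p m ≤ m := Nat.log_le_self p m
    have h3 : m ≤ n := Nat.div_le_self n (p - 1)
    omega
  have h5 : (m.factorial).factorization p = ∑ i ∈ Finset.Ico 1 (n + 1), m / p ^ i := by
    rw [Nat.factorization_def _ hp, padicValNat_factorial hlog]
  rw [Nat.factorization_mul (pow_ne_zero _ hp.ne_zero) (Nat.factorial_ne_zero m),
    Finsupp.add_apply, hp.factorization_pow, Finsupp.single_eq_same, h5] at h1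
  have h4 : ∑ i ∈ Finset.range (n + 1), n / ((p - 1) * p ^ i)
      = m + ∑ i ∈ Finset.Ico 1 (n + 1), m / p ^ i := by
    rw [Finset.sum_range_succ', Finset.sum_Ico_eq_sum_range, add_comm]
    congr 1
    · simp [hm]
    · simp only [Nat.add_sub_cancel]
      refine Finset.sum_congr rfl fun i _ => ?_
      rw [hm, Nat.div_div_eq_div_mul, add_comm 1 i]
  rw [h4]
  exact h1

end Main2

end Cfsg.Agent.Lib.Helper80
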